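import Mathlib.Data.Finset.Card
import Mathlib.SetTheory.Cardinal.Finite
import Mathlib.Algebra.BigOperators.Group.Finset.Basic
import Mathlib.Algebra.Group.Basic
import Mathlib.Tactic.NormNum
import Cfsg.Agent.Lib.Recog.Held.Defs

set_option autoImplicit false

/-!
Bounded searches and counts evaluated by structural recursion, and the code arithmetic of the candidate
centralisers (owner: helper22).
-/

namespace CfsgLib.Recog.Held

/-- A check on all numbers below `n`. -/
noncomputable def allBelow (n : ℕ) (f : ℕ → Bool) : Bool :=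
  Nat.rec (motive := fun _ => Bool) true (fun k ih => ih && f k) n

theorem allBelow_spec {n : ℕ} {f : ℕ → Bool} : allBelow n f = true ↔ ∀ k < n, f k = true := by
  induction n with
  | zero => simp [allBelow]
  | succ n ih =>
    have h : allBelow (n + 1) f = (allBelow n f && f n) := rfl
    rw [h, Bool.and_eq_true, ih]
    constructor
    · rintro ⟨a, b⟩ k hk
      rcases Nat.lt_succ_iff_lt_or_eq.1 hk with hk | rfl
      · exact a k hk
      · exact b
    · exact fun h => ⟨fun k hk => h k (Nat.lt_succ_of_lt hk), h n (Nat.lt_succ_self n)⟩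

/-- A check on `len` numbers from `lo` on. -/
noncomputable def allFrom (lo len : ℕ) (f : ℕ → Bool) : Bool := allBelow len fun k => f (lo + k)

theorem allFrom_spec {lo len : ℕ} {f : ℕ → Bool} (h : allFrom lo len f = true) {k : ℕ} (h₁ : lo ≤ k)
    (h₂ : k < lo + len) : f k = true := by
  have := allBelow_spec.1 h (k - lo) (by omega)
  rwa [Nat.add_sub_cancel' h₁] at this

/-- How many numbers below `n` pass. -/
noncomputable def countBelow (n : ℕ) (f : ℕ → Bool) : ℕ :=
  Nat.rec (motive := fun _ => ℕ) 0 (fun k ih => cond (f k) (ih + 1) ih) n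

theorem countBelow_eq (n : ℕ) (f : ℕ → Bool) :
    countBelow n f = ((Finset.range n).filter fun k => f k = true).card := by
  induction n with
  | zero => simp [countBelow]
  | succ n ih =>
    have h : countBelow (n + 1) f = cond (f n) (countBelow n f + 1) (countBelow n f) := rfl
    rw [h, ih, Finset.range_add_one, Finset.filter_insert]
    cases hf : f n <;> simp [Finset.card_insert_of_notMem]

/-- An injectively listed set is counted by its indices. -/
theorem card_eq_countBelow {α : Type*} (e : ℕ → α) (n : ℕ) (f : ℕ → Bool) (P : α → Prop)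
    (hinj : ∀ j < n, ∀ k < n, e j = e k → j = k)
    (hmem : ∀ k < n, (f k = true ↔ P (e k))) (hall : ∀ a, P a → ∃ k < n, e k = a) :
    Nat.card {a // P a} = countBelow n f := by
  classical
  rw [countBelow_eq, ← Nat.card_eq_finsetCard]
  have hP : ∀ k : ↥((Finset.range n).filter fun k => f k = true), P (e k.1) := fun k =>
    (hmem _ (Finset.mem_range.1 (Finset.mem_filter.1 k.2).1)).1 (Finset.mem_filter.1 k.2).2
  refine (Nat.card_congr (Equiv.ofBijective (fun k => (⟨e k.1, hP k⟩ : {a // P a})) ⟨?_, ?_⟩)).symm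
  · intro j k h
    exact Subtype.ext (hinj _ (Finset.mem_range.1 (Finset.mem_filter.1 j.2).1) _
      (Finset.mem_range.1 (Finset.mem_filter.1 k.2).1) (congrArg Subtype.val h))
  · rintro ⟨a, ha⟩
    obtain ⟨k, hk, rfl⟩ := hall a ha
    exact ⟨⟨k, Finset.mem_filter.2 ⟨Finset.mem_range.2 hk, (hmem k hk).2 ha⟩⟩, rfl⟩

theorem field_lt (w x k : ℕ) : field w x k < 2 ^ w := by
  show (Nat.shiftRight x (Nat.mul w k)) &&& (2 ^ w - 1) < 2 ^ w
  rw [Nat.and_two_pow_sub_one_eq_mod]
  exact Nat.mod_lt _ (Nat.two_pow_pos w)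

theorem land127_lt (z : ℕ) : Nat.land z 127 < 128 := by
  show z &&& (2 ^ 7 - 1) < 2 ^ 7
  rw [Nat.and_two_pow_sub_one_eq_mod]
  exact Nat.mod_lt _ (by norm_num)

theorem qMul_lt {p q : ℕ} (hp : p < 128) (hq : q < 128) : qMul p q < 128 := by
  have h : Nat.mul 64 (field 1 0x96 (Nat.land (Nat.land (Nat.shiftRight p 3) 7) (Nat.land q 7))) < 2 ^ 7 := by
    have := field_lt 1 0x96 (Nat.land (Nat.land (Nat.shiftRight p 3) 7) (Nat.land q 7))
    show 64 * _ < 2 ^ 7
    norm_num at this ⊢
    omega
  exact Nat.xor_lt_two_pow (Nat.xor_lt_two_pow (n := 7) hp hq) h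

theorem nextL_bound : allBelow 336 (fun k => Nat.blt (field 8 nextData k) 168) = true := by decide +kernel

theorem nextL_lt {l s : ℕ} (hl : l < 168) (hs : s < 2) : nextL l s < 168 :=
  Nat.le_of_ble_eq_true (allBelow_spec.1 nextL_bound _ (by omega))

/-- The quotient part of a product. -/
noncomputable def lMul (l m : ℕ) : ℕ :=
  Nat.rec (motive := fun _ => ℕ → ℕ) (fun z => z) (fun k ih z => nextL (ih z) (wordBit m k)) (wordLen m) l

theorem wordBit_lt (l k : ℕ) : wordBit l k < 2 := field_lt 1 _ k

theorem applyAut_lt (im q : ℕ) : applyAut im q < 128 := by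
  have h : ∀ n, Nat.rec (motive := fun _ => ℕ) 0
      (fun j ih => cond (Nat.beq (field 1 q j) 1) (qMul ih (field 7 im j)) ih) n < 128 := by
    intro n
    induction n with
    | zero => norm_num
    | succ n ih =>
      show cond (Nat.beq (field 1 q n) 1) (qMul _ (field 7 im n)) _ < 128
      cases Nat.beq (field 1 q n) 1
      · exact ih
      · exact qMul_lt ih (field_lt 7 im n)
  refine Nat.xor_lt_two_pow (n := 7) ?_ (h 6)
  show q &&& 64 < 2 ^ 7
  exact lt_of_le_of_lt Nat.and_le_right (by norm_num)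

theorem step_bound {i z s : ℕ} (hz : z < 21504) (hs : s < 2) :
    step i z s < 21504 ∧ step i z s / 128 = nextL (z / 128) s := by
  have a : qMul (Nat.land z 127) (delta i (z / 128) s) < 128 := qMul_lt (land127_lt z) (field_lt 7 _ _)
  have b : nextL (z / 128) s < 168 := nextL_lt (by omega) hs
  unfold step
  omega

theorem mulC_bound (i x y : ℕ) (hx : x < 21504) :
    mulC i x y < 21504 ∧ mulC i x y / 128 = lMul (x / 128) (y / 128) := by
  unfold mulC lMul
  induction wordLen (y / 128) with
  | zero =>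
    have a : qMul (Nat.land x 127) (conjL i (x / 128) (Nat.land y 127)) < 128 :=
      qMul_lt (land127_lt x) (applyAut_lt _ _)
    show qMul (Nat.land x 127) (conjL i (x / 128) (Nat.land y 127)) + 128 * (x / 128) < 21504 ∧
      (qMul (Nat.land x 127) (conjL i (x / 128) (Nat.land y 127)) + 128 * (x / 128)) / 128 = x / 128
    omega
  | succ n ih =>
    simp only at ih ⊢
    obtain ⟨a, b⟩ := step_bound (i := i) ih.1 (wordBit_lt (y / 128) n)
    exact ⟨a, b.trans (by rw [ih.2])⟩

theorem mulC_lt {i x : ℕ} (hx : x < 21504) (y : ℕ) : mulC i x y < 21504 := (mulC_bound i x y hx).1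

theorem mulC_div {i x : ℕ} (hx : x < 21504) (y : ℕ) : mulC i x y / 128 = lMul (x / 128) (y / 128) :=
  (mulC_bound i x y hx).2

namespace Coord

variable {G : Type*} [Group G] {t : G} {i : ℕ} (K : Coord t i)

theorem mul_zero_code : mulC i 0 0 = 0 ↔ K.el 0 = 1 := by
  have h := K.el_mul 0 (by norm_num) 0 (by norm_num)
  constructor
  · intro e; rw [e] at h; exact mul_eq_left.1 h
  · intro e
    rw [e, one_mul] at h
    exact K.el_inj _ (mulC_lt (by norm_num) 0) 0 (by norm_num) (h.symm.trans e.symm)

theorem commute_iff {x y : ℕ} (hx : x < 21504) (hy : y < 21504) :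
    K.el x * K.el y = K.el y * K.el x ↔ mulC i x y = mulC i y x := by
  rw [K.el_mul x hx y hy, K.el_mul y hy x hx]
  exact ⟨K.el_inj _ (mulC_lt hx y) _ (mulC_lt hy x), fun h => by rw [h]⟩

theorem mul_eq_iff {x y z : ℕ} (hx : x < 21504) (hy : y < 21504) (hz : z < 21504) :
    K.el x * K.el y = K.el z ↔ mulC i x y = z := by
  rw [K.el_mul x hx y hy]
  exact ⟨K.el_inj _ (mulC_lt hx y) _ hz, fun h => by rw [h]⟩

end Coord

end CfsgLib.Recog.Held
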