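import Cfsg.Prelude.Def_Transfer
import Cfsg.Agent.Lib.PGroups.Extraspecial
import Cfsg.Agent.Lib.Recog.HeldType.SLThreeTwo

set_option autoImplicit false

/-!
The subgroup `2^{1+6}` of an involution centraliser, inside the group.
-/

namespace CfsgLib.Recog.Held.Frame

open Subgroup
open scoped MatrixGroups commutatorElement

variable {G : Type*} [Group G]

/-- A normal subgroup `2^{1+6}` of the centraliser of `t` with quotient `SL(3, 2)`. -/
structure Setting (t : G) (S : Subgroup G) where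
  t2 : t * t = 1
  t1 : t ≠ 1
  card : Nat.card S = 128
  tS : t ∈ S
  le : ∀ q ∈ S, Commute q t
  conj_mem : ∀ g : G, Commute g t → ∀ q ∈ S, g * q * g⁻¹ ∈ S
  sq : ∀ q ∈ S, q * q = 1 ∨ q * q = t
  comm : ∀ q ∈ S, ∀ r ∈ S, q * r = r * q ∨ q * r = r * q * t
  center : ∀ q ∈ S, (∀ r ∈ S, q * r = r * q) → q = 1 ∨ q = t
  cent : ∀ g : G, Commute g t → (∀ q ∈ S, g * q = q * g) → g ∈ S
  ψ : centralizer ({t} : Set G) →* SL(3, ZMod 2)
  ψ_surj : Function.Surjective ψ
  ψ_ker : ∀ g : centralizer ({t} : Set G), ψ g = 1 ↔ (g : G) ∈ S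

/-- The hypotheses of the uniqueness statement give a setting. -/
theorem nonempty_setting [Finite G] (t : G) (ht : orderOf t = 2)
    (Q : Subgroup (centralizer ({t} : Set G))) [Q.Normal] (hQ : Cfsg.IsExtraspecial 2 Q)
    (hcard : Nat.card Q = 2 ^ 7)
    (h2c : centralizer (Q : Set (centralizer ({t} : Set G))) ≤ Q)
    (e : (centralizer ({t} : Set G)) ⧸ Q ≃* SL(3, ZMod 2)) :
    ∃ S : Subgroup G, Nonempty (Setting t S) := by
  classical
  haveI : Fact (Nat.Prime 2) := ⟨Nat.prime_two⟩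
  have t2 : t * t = 1 := by
    have h := pow_orderOf_eq_one t
    rwa [ht, pow_two] at h
  have t1 : t ≠ 1 := fun h => by rw [h, orderOf_one] at ht; omega
  obtain ⟨T, hTd⟩ : ∃ T : centralizer ({t} : Set G), (T : G) = t :=
    ⟨⟨t, mem_centralizer_singleton_iff.2 rfl⟩, rfl⟩
  have hTc : ∀ g : centralizer ({t} : Set G), g * T = T * g := fun g =>
    Subtype.ext (by rw [Subgroup.coe_mul, Subgroup.coe_mul, hTd]; exact mem_centralizer_singleton_iff.1 g.2)
  have hTQ : T ∈ Q := h2c (mem_centralizer_iff.2 fun q _ => hTc q)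
  have hTz : (⟨T, hTQ⟩ : Q) ∈ center Q := mem_center_iff.2 fun q => Subtype.ext (hTc q)
  have hzel : ∀ z : Q, z ∈ center Q → z = 1 ∨ z = ⟨T, hTQ⟩ := by
    intro z hz
    have h2 : Nat.card (center Q) = 2 := CfsgLib.PGroups.IsExtraspecial.card_center hQ
    rw [Nat.card_eq_two_iff] at h2
    obtain ⟨u, v, -, huv⟩ := h2
    have hne : (⟨⟨T, hTQ⟩, hTz⟩ : center Q) ≠ 1 := fun h => t1 (by
      rw [← hTd]
      exact congrArg (fun w : center Q => (((w : Q) : centralizer ({t} : Set G)) : G)) h)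
    have all : ∀ w : center Q, w = u ∨ w = v := fun w => by
      have := huv.symm.le (Set.mem_univ w); simpa using this
    rcases all ⟨z, hz⟩ with a | a <;> rcases all 1 with b | b <;> rcases all ⟨_, hTz⟩ with c | c
    all_goals first
      | exact Or.inl (congrArg Subtype.val (a.trans b.symm))
      | exact Or.inr (congrArg Subtype.val (a.trans c.symm))
      | exact absurd (c.trans b.symm) hne
  refine ⟨Q.map (centralizer ({t} : Set G)).subtype, ⟨{
    t2 := t2
    t1 := t1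
    card := by rw [card_map_of_injective (centralizer ({t} : Set G)).subtype_injective, hcard]; norm_num
    tS := ⟨T, hTQ, hTd⟩
    le := ?_
    conj_mem := ?_
    sq := ?_
    comm := ?_
    center := ?_
    cent := ?_
    ψ := e.toMonoidHom.comp (QuotientGroup.mk' Q)
    ψ_surj := e.surjective.comp (QuotientGroup.mk'_surjective Q)
    ψ_ker := ?_ }⟩⟩
  · rintro _ ⟨q, -, rfl⟩
    exact mem_centralizer_singleton_iff.1 q.2
  · rintro g hg _ ⟨q, hq, rfl⟩
    exact ⟨⟨g, mem_centralizer_singleton_iff.2 hg⟩ * q * ⟨g, mem_centralizer_singleton_iff.2 hg⟩⁻¹,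
      (inferInstance : Q.Normal).conj_mem q hq _, rfl⟩
  · rintro _ ⟨q, hq, rfl⟩
    rcases hzel _ (CfsgLib.PGroups.IsExtraspecial.pow_mem_center hQ ⟨q, hq⟩) with h | h
    · left
      have := congrArg (fun w : Q => ((w : centralizer ({t} : Set G)) : G)) h
      simpa [pow_two] using this
    · right
      have := congrArg (fun w : Q => ((w : centralizer ({t} : Set G)) : G)) h
      simp [pow_two, hTd] at this
      exact this
  · rintro _ ⟨q, hq, rfl⟩ _ ⟨r, hr, rfl⟩
    have hc := CfsgLib.PGroups.IsExtraspecial.comm_mem hQ ⟨q, hq⟩ ⟨r, hr⟩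
    have hcz := mem_center_iff.1 hc
    have hqr : (⟨q, hq⟩ : Q) * ⟨r, hr⟩ = ⟨r, hr⟩ * ⟨q, hq⟩ * ⁅(⟨q, hq⟩ : Q), (⟨r, hr⟩ : Q)⁆ := by
      rw [hcz (⟨r, hr⟩ * ⟨q, hq⟩), commutatorElement_def]; group
    rcases hzel _ hc with h | h <;> rw [h] at hqr
    · left
      rw [mul_one] at hqr
      exact congrArg (fun w : Q => ((w : centralizer ({t} : Set G)) : G)) hqr
    · right
      have := congrArg (fun w : Q => ((w : centralizer ({t} : Set G)) : G)) hqr
      simp [hTd] at this
      exact this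
  · rintro _ ⟨q, hq, rfl⟩ h
    have hc : (⟨q, hq⟩ : Q) ∈ center Q := mem_center_iff.2 fun r =>
      Subtype.ext (Subtype.ext (h _ ⟨r, r.2, rfl⟩).symm)
    rcases hzel _ hc with h' | h'
    · exact Or.inl (congrArg (fun w : Q => ((w : centralizer ({t} : Set G)) : G)) h')
    · exact Or.inr ((congrArg (fun w : Q => ((w : centralizer ({t} : Set G)) : G)) h').trans hTd)
  · intro g hg h
    exact ⟨⟨g, mem_centralizer_singleton_iff.2 hg⟩, h2c (mem_centralizer_iff.2 fun r hr =>
      Subtype.ext (h _ ⟨r, hr, rfl⟩).symm), rfl⟩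
  · intro g
    show e (QuotientGroup.mk g) = 1 ↔ _
    rw [e.map_eq_one_iff, QuotientGroup.eq_one_iff]
    exact ⟨fun h => ⟨g, h, rfl⟩, fun ⟨r, hr, hrg⟩ => (Subtype.ext hrg : r = g) ▸ hr⟩

end CfsgLib.Recog.Held.Frame
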