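import Cfsg.Agent.Lib.Recog.Held.ColourCases
import Cfsg.Agent.Lib.Recog.SporHe.Stab
import Mathlib.GroupTheory.Sylow

set_option autoImplicit false

/-!
The hypotheses of the Held statements in the form used by the development, and the transport of the subgroup
`Sp(4, 4):2` along an isomorphism (owner: helper22).
-/

namespace CfsgLib.Recog.Held

open Subgroup

variable {G : Type*} [Group G] [Finite G]

/-- The centraliser of `t` contains a Sylow 2-subgroup. -/
theorem sylow_in_cent {t : G} {i : ℕ} (K : Coord t i) (hG : Nat.card G = 4030387200) :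
    ∃ P : Sylow 2 G, (P : Subgroup G) ≤ centralizer {t} := by
  have : Fact (Nat.Prime 2) := ⟨Nat.prime_two⟩
  have hC : Nat.card (centralizer ({t} : Set G)) = 21504 := by
    rw [← K.card_cent]
    exact Nat.card_congr (Equiv.subtypeEquivRight fun x => mem_centralizer_singleton_iff)
  obtain ⟨H, hH⟩ := Sylow.exists_subgroup_card_pow_prime 2 (G := centralizer ({t} : Set G)) (n := 10)
    (by rw [hC]; norm_num)
  have hH' : Nat.card (H.map (centralizer ({t} : Set G)).subtype) = 2 ^ 10 := by
    rw [← hH]
    exact (Nat.card_congr (H.equivMapOfInjective _ (centralizer ({t} : Set G)).subtype_injective).toEquiv).symm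
  obtain ⟨P, hP⟩ := (IsPGroup.of_card hH').exists_le_sylow
  refine ⟨P, ?_⟩
  obtain ⟨e, he⟩ := IsPGroup.iff_card.1 P.2
  have hd : (2 : ℕ) ^ e ∣ 4030387200 := by rw [← he, ← hG]; exact card_subgroup_dvd_card _
  have he' : e ≤ 10 := by
    by_contra hh
    have h2 := (Nat.pow_dvd_pow 2 (by omega : 11 ≤ e)).trans hd
    norm_num at h2
  have heq : H.map (centralizer ({t} : Set G)).subtype = P :=
    eq_of_le_of_card_ge hP (by rw [hH', he]; exact Nat.pow_le_pow_right two_pos he')
  rw [← heq]
  exact map_subtype_le H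

/-- With two classes of involutions, the involutions not conjugate to `t` form one class. -/
theorem two_classes {t : G} (ht : orderOf t = 2)
    (htwo : ∃ x y : G, orderOf x = 2 ∧ orderOf y = 2 ∧ ¬ IsConj x y ∧
      ∀ z : G, orderOf z = 2 → IsConj z x ∨ IsConj z y) :
    (∀ u v : G, u ≠ 1 → u * u = 1 → v ≠ 1 → v * v = 1 → ¬ IsConj u t → ¬ IsConj v t → IsConj u v) ∧
      ∃ v : G, v ≠ 1 ∧ v * v = 1 ∧ ¬ IsConj v t := by
  have : Fact (Nat.Prime 2) := ⟨Nat.prime_two⟩
  have ord : ∀ {u : G}, u ≠ 1 → u * u = 1 → orderOf u = 2 := fun {u} h1 h2 =>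
    orderOf_eq_prime (by rw [pow_two, h2]) h1
  have inv : ∀ {u : G}, orderOf u = 2 → u ≠ 1 ∧ u * u = 1 := fun {u} h => by
    obtain ⟨h2, h1⟩ := orderOf_eq_prime_iff.1 h
    exact ⟨h1, by rw [← pow_two, h2]⟩
  obtain ⟨x, y, hx, hy, hxy, hall⟩ := htwo
  constructor
  · intro u v u1 u2 v1 v2 hut hvt
    rcases hall t ht with h | h <;> rcases hall u (ord u1 u2) with hu | hu <;>
      rcases hall v (ord v1 v2) with hv | hv
    all_goals first
      | exact hu.trans hv.symm
      | exact absurd (hu.trans h.symm) hut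
      | exact absurd (hv.trans h.symm) hvt
  · rcases hall t ht with h | h
    · exact ⟨y, (inv hy).1, (inv hy).2, fun e => hxy ((e.trans h).symm)⟩
    · exact ⟨x, (inv hx).1, (inv hx).2, fun e => hxy (e.trans h)⟩

/-- `C(t)` is proper. -/
theorem cent_ne_top {t : G} {i : ℕ} (K : Coord t i) (hG : Nat.card G = 4030387200) :
    centralizer ({t} : Set G) ≠ ⊤ := by
  intro h
  have hC : Nat.card (centralizer ({t} : Set G)) = 21504 := by
    rw [← K.card_cent]
    exact Nat.card_congr (Equiv.subtypeEquivRight fun x => mem_centralizer_singleton_iff)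
  rw [h, Nat.card_congr (topEquiv (G := G)).toEquiv, hG] at hC
  norm_num at hC

omit [Finite G] in
/-- A group isomorphic to He has a subgroup `Sp(4, 4):2`. -/
theorem exists_sp_four (e : G ≃* Cfsg.Spor.He) :
    ∃ (H : Subgroup G) (N : Subgroup H) (F : Type) (_ : Field F) (_ : Fintype F), N.Normal ∧ N.index = 2 ∧
      Fintype.card F = 4 ∧ Nonempty (N ≃* Matrix.symplecticGroup (Fin 2) F) := by
  open SporHe.Flags in
  let f := (sub.equivMapOfInjective e.symm.toMonoidHom e.symm.injective)
  open SporHe.Flags in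
  refine ⟨sub.map e.symm.toMonoidHom, (evenSub.subgroupOf sub).map f.toMonoidHom,
    CfsgLib.Classical.UFourTwo.FieldFour, inferInstance, inferInstance, ?_, ?_,
    CfsgLib.Classical.UFourTwo.FieldFour.card_fieldFour, ?_⟩
  · exact Subgroup.normal_of_index_eq_two (by
      rw [Subgroup.index_map_of_bijective (f := f.toMonoidHom) f.bijective]; exact index_even)
  · rw [Subgroup.index_map_of_bijective (f := f.toMonoidHom) f.bijective]
    exact SporHe.Flags.index_even
  · exact ⟨((Subgroup.equivMapOfInjective _ _ f.injective).symm.trans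
      (Subgroup.subgroupOfEquivOfLe SporHe.Flags.evenSub_le)).trans SporHe.Flags.evenEquiv⟩

end CfsgLib.Recog.Held
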