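import Cfsg.Agent.Lib.Recog.Held.CoordBasic
import Cfsg.Agent.Lib.ZStar.Main
import Mathlib.GroupTheory.Sylow
import Mathlib.Algebra.Group.Conj
import Batteries.Data.Nat.Lemmas

set_option autoImplicit false

/-!
The fusion pattern of `C(t)`: which classes are conjugate to `t` (owner: helper22).

The colour of an involution of `C(t)` is `IsConj _ t`.  A coloured involution `u` gives a reversed pair, and two
uncoloured involutions with Sylow subgroups of maximal order in their centralisers have isomorphic ones.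
-/

namespace CfsgLib.Recog.Held

theorem bitOn_iff (m k : ℕ) : bitOn m k = true ↔ m.testBit k = true := by
  have h : field 1 m k = m / 2 ^ k % 2 := by
    show (m >>> (1 * k)) &&& (2 ^ 1 - 1) = _
    rw [Nat.and_two_pow_sub_one_eq_mod, Nat.shiftRight_eq_div_pow, one_mul, pow_one]
  rw [bitOn, Nat.beq_eq, h, Nat.testBit_eq_decide_div_mod_eq, decide_eq_true_iff]

theorem colPairs_eq (m n : ℕ) (key : ℕ → ℕ) : ∀ L : List ℕ, (L.map fun e => e % 256).Nodup →
    (∀ e ∈ L, countBelow n (fun j => Nat.beq (key j) (e % 256)) = e / 256) →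
    countBelow n (fun j => keyOn m (key j) && L.any fun e => Nat.beq (e % 256) (key j)) = colPairs L m
  | [], _, _ => by
    rw [countBelow_eq]
    simp [colPairs]
  | e :: L, hnd, hc => by
    rw [List.map_cons, List.nodup_cons] at hnd
    have ih := colPairs_eq m n key L hnd.2 fun x hx => hc x (List.mem_cons_of_mem _ hx)
    have he := hc e List.mem_cons_self
    have h1 : colPairs (e :: L) m = cond (keyOn m (e % 256)) (e / 256 + colPairs L m) (colPairs L m) := rfl
    rw [h1, ← ih, ← he, countBelow_eq, countBelow_eq, countBelow_eq]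
    have hdis : ∀ j, key j = e % 256 → (L.any fun x => Nat.beq (x % 256) (key j)) = false := by
      intro j hj
      rw [Bool.eq_false_iff]
      intro ha
      obtain ⟨x, hx, hxj⟩ := List.any_eq_true.1 ha
      exact hnd.1 (List.mem_map.2 ⟨x, hx, (Nat.eq_of_beq_eq_true hxj).trans hj⟩)
    cases hk : keyOn m (e % 256)
    · rw [cond_false]
      congr 1
      refine Finset.filter_congr fun j _ => ?_
      by_cases hj : key j = e % 256
      · simp [hj, hk]
      · have : Nat.beq (e % 256) (key j) = false :=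
          Bool.eq_false_iff.2 fun h => hj (Nat.eq_of_beq_eq_true h).symm
        simp [List.any_cons, this]
    · rw [cond_true, ← Finset.card_union_of_disjoint]
      · congr 1
        ext j
        simp only [Finset.mem_filter, Finset.mem_union, Finset.mem_range, List.any_cons, Bool.and_eq_true,
          Bool.or_eq_true, Nat.beq_eq]
        constructor
        · rintro ⟨a, b, c | c⟩
          · exact Or.inl ⟨a, c.symm⟩
          · exact Or.inr ⟨a, b, c⟩
        · rintro (⟨a, b⟩ | ⟨a, b, c⟩)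
          · exact ⟨a, b ▸ hk, Or.inl b.symm⟩
          · exact ⟨a, b, Or.inr c⟩
      · rw [Finset.disjoint_filter]
        intro j _ hj hj'
        rw [hdis j (Nat.eq_of_beq_eq_true hj), Bool.and_false] at hj'
        simp at hj'

/-- A histogram gives the number of coloured pairs. -/
theorem hist_count {n m : ℕ} {key : ℕ → ℕ} {L : List ℕ} (h : histOK n key L = true) :
    countBelow n (fun j => both (key j) && keyOn m (key j)) = colPairs L m := by
  simp only [histOK, Bool.and_eq_true, decide_eq_true_eq, List.all_eq_true, allBelow_spec, Nat.beq_eq,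
    Bool.or_eq_true, Bool.not_eq_true'] at h
  obtain ⟨hnd, hc, hcover⟩ := h
  rw [← colPairs_eq m n key L hnd fun e he => (hc e he).2, countBelow_eq, countBelow_eq]
  congr 1
  refine Finset.filter_congr fun j hj => ?_
  simp only [Bool.and_eq_true]
  constructor
  · rintro ⟨a, b⟩
    exact ⟨b, (hcover j (Finset.mem_range.1 hj)).resolve_left (by rw [a]; simp)⟩
  · rintro ⟨b, c⟩
    obtain ⟨e, he, hej⟩ := List.any_eq_true.1 c
    exact ⟨Nat.eq_of_beq_eq_true hej ▸ (hc e he).1, b⟩

theorem card_conj {G : Type*} [Group G] (k : G) {P Q : G → Prop} (h : ∀ g, P g ↔ Q (k * g * k⁻¹)) :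
    Nat.card {g // P g} = Nat.card {g // Q g} :=
  Nat.card_congr ((MulAut.conj k).toEquiv.subtypeEquiv h)

theorem isConj_iff_conj {G : Type*} [Group G] {u v : G} : IsConj u v ↔ ∃ g : G, g * u * g⁻¹ = v :=
  isConj_iff

namespace Coord

variable {G : Type*} [Group G] {t : G} {i : ℕ} (K : Coord t i)

include K

open scoped Classical in
/-- The coloured classes, as a number. -/
noncomputable def mask : ℕ := Nat.ofBits fun k : Fin (ncls i) => decide (IsConj (K.el (rep i k)) t)

theorem mask_lt : K.mask < 2 ^ ncls i := Nat.ofBits_lt_two_pow _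

theorem mask_bit {k : ℕ} (hk : k < ncls i) : bitOn K.mask k = true ↔ IsConj (K.el (rep i k)) t := by
  classical
  rw [bitOn_iff, mask, Nat.testBit_ofBits_lt _ _ hk, decide_eq_true_iff]

theorem ne_one_t (hi : i < 6) : t ≠ 1 := fun e => by
  have h := K.el_inj 64 (by norm_num) 0 (by norm_num) (by rw [K.el_t, K.el_zero hi, e])
  norm_num at h

theorem rep_kt (hi : i < 6) : K.el (rep i (ktc i)) = t := by rw [(classes_spec hi).2.2.1, K.el_t]

theorem t_sq (hi : i < 6) : t * t = 1 := by
  obtain ⟨h1, h2, h3, -, h5⟩ := classes_spec hi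
  have := (K.sq_iff hi (h5 _ h1).1).2 (by rw [(h5 _ h1).2.1]; omega)
  rw [K.rep_kt hi] at this
  exact this.2

theorem inv_of_conj_t (hi : i < 6) {g : G} (h : IsConj g t) : g ≠ 1 ∧ g * g = 1 := by
  obtain ⟨k, hk⟩ := isConj_iff.1 h
  have hg : g = k⁻¹ * t * k := by rw [← hk]; group
  refine ⟨fun e => K.ne_one_t hi (by rw [← hk, e]; group), ?_⟩
  rw [hg, show k⁻¹ * t * k * (k⁻¹ * t * k) = k⁻¹ * (t * t) * k by group, K.t_sq hi]
  group

/-- The colour of an element of `C(t)`. -/
theorem mask_spec (hi : i < 6) {x : ℕ} (hx : x < 21504) :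
    IsConj (K.el x) t ↔ clsOf i x ≠ 0 ∧ bitOn K.mask (clsOf i x - 1) = true := by
  constructor
  · intro h
    have hc := (K.sq_iff hi hx).1 (K.inv_of_conj_t hi h)
    obtain ⟨g, -, hg⟩ := K.class_conj hi hx hc
    have := clsOf_lt hi hx
    exact ⟨hc, (K.mask_bit (by omega)).2 ((isConj_iff.2 ⟨g, hg⟩).trans h)⟩
  · rintro ⟨hc, hb⟩
    obtain ⟨g, -, hg⟩ := K.class_conj hi hx hc
    have := clsOf_lt hi hx
    exact ((isConj_iff.2 ⟨g, hg⟩).symm).trans ((K.mask_bit (by omega)).1 hb)

variable [Finite G]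

theorem key_count (hi : i < 6) {k : ℕ} (hk : k < ncls i) (hkt : k ≠ ktc i) :
    Nat.card {g : G // (g * t = t * g ∧ g * K.el (rep i k) = K.el (rep i k) * g) ∧
        (IsConj g t ∧ IsConj (g * K.el (rep i k)) t)} = colPairs ((histU i).getD k []) K.mask ∧
    Nat.card {g : G // (g * t = t * g ∧ g * K.el (rep i k) = K.el (rep i k) * g) ∧
        (IsConj g t ∧ IsConj (g * t) t)} = colPairs ((histT i).getD k []) K.mask := by
  obtain ⟨-, hkeys, hh⟩ := perClass_spec hi hk hkt
  rw [histsOK, Bool.and_eq_true] at hh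
  have hr := ((classes_spec hi).2.2.2.2 k hk).1
  simp only [keysOK, allBelow_spec, Bool.and_eq_true, Nat.beq_eq] at hkeys
  have step : ∀ a b : ℕ, a < 21504 → b < 21504 →
      ((both (clsOf i a * 16 + clsOf i b) && keyOn K.mask (clsOf i a * 16 + clsOf i b)) = true ↔
        IsConj (K.el a) t ∧ IsConj (K.el b) t) := by
    intro a b ha hb
    have hb' : clsOf i b < 16 := by rw [clsOf, land15_eq]; omega
    have e1 : (clsOf i a * 16 + clsOf i b) / 16 = clsOf i a := by omega
    have e2 : (clsOf i a * 16 + clsOf i b) % 16 = clsOf i b := by omega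
    rw [both, keyOn, land15_eq, e1, e2, K.mask_spec hi ha, K.mask_spec hi hb]
    simp only [Bool.and_eq_true, Nat.blt_eq, Nat.pos_iff_ne_zero]
    tauto
  constructor
  · rw [← hist_count hh.1]
    refine K.card_stab hi hk hkt _ _ fun j hj => ?_
    have hl := K.stabEl_lt hi hk hkt hj
    rw [(hkeys j hj).1, step _ _ hl (mulC_lt hl _), K.el_mul _ hl _ hr]
  · rw [← hist_count hh.2]
    refine K.card_stab hi hk hkt _ _ fun j hj => ?_
    have hl := K.stabEl_lt hi hk hkt hj
    have e : K.el (stabEl i k j) * t = K.el (mulC i (stabEl i k j) 64) := by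
      rw [← K.el_mul _ hl _ (by norm_num), K.el_t]
    rw [(hkeys j hj).2, step _ _ hl (mulC_lt hl _), e]

theorem root_count (hi : i < 6) {k : ℕ} (hk : k < ncls i) (hkt : k ≠ ktc i) :
    Nat.card {g : G // (g * t = t * g ∧ g * K.el (rep i k) = K.el (rep i k) * g) ∧
        g * g = K.el (rep i k)} = rootU i k ∧
    Nat.card {g : G // (g * t = t * g ∧ g * K.el (rep i k) = K.el (rep i k) * g) ∧ g * g = t} = rootT i k ∧
    Nat.card {g : G // g * t = t * g ∧ g * K.el (rep i k) = K.el (rep i k) * g} = hsz i k := by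
  obtain ⟨-, hel, -, hu, ht⟩ := stab_spec hi hk hkt
  have hr := ((classes_spec hi).2.2.2.2 k hk).1
  refine ⟨?_, ?_, ?_⟩
  · rw [← hu]
    refine K.card_stab hi hk hkt _ _ fun j hj => ?_
    rw [K.mul_eq_iff (hel j hj).1 (hel j hj).1 hr, Nat.beq_eq]
  · rw [← ht]
    refine K.card_stab hi hk hkt _ _ fun j hj => ?_
    rw [Nat.beq_eq, ← K.mul_eq_iff (hel j hj).1 (hel j hj).1 (by norm_num : 64 < 21504), K.el_t]
  · have := K.card_stab hi hk hkt (fun _ => True) (fun _ => true) fun j _ => iff_of_true rfl trivial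
    rw [countBelow_eq, Finset.filter_true_of_mem fun _ _ => rfl, Finset.card_range] at this
    rw [← this]
    exact Nat.card_congr (Equiv.subtypeEquivRight fun g => ⟨fun h => ⟨h, trivial⟩, fun h => h.1⟩)

/-- Every coloured class has a reverse; this needs nothing but the coordinates. -/
theorem reversible_mask (hi : i < 6) : reversible i K.mask = true := by
  rw [reversible, allBelow_spec]
  intro a ha
  by_contra hc
  simp only [Bool.or_eq_true, Nat.beq_eq, Bool.not_eq_true', allBelow_spec, not_or,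
    Bool.not_eq_false, Bool.not_eq_eq_eq_not, Bool.not_true] at hc
  obtain ⟨hakt, hbit, hnone⟩ := hc
  obtain ⟨hra, hcla, -⟩ := (classes_spec hi).2.2.2.2 a ha
  set u := K.el (rep i a) with hu
  have hcol : IsConj u t := (K.mask_bit ha).1 hbit
  obtain ⟨k, hk⟩ := isConj_iff.1 hcol
  have hut : u * t = t * u := K.mem _ hra
  have hune : u ≠ t := fun e => hakt (by
    have h1 := K.el_inj _ hra 64 (by norm_num) (e.trans K.el_t.symm)
    have h2 := ((classes_spec hi).2.2.2.2 _ (classes_spec hi).1).2.1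
    rw [(classes_spec hi).2.2.1, ← h1, hcla] at h2
    omega)
  have hct : (k * t * k⁻¹) * t = t * (k * t * k⁻¹) := by
    conv_lhs => arg 2; rw [← hk]
    conv_rhs => arg 1; rw [← hk]
    rw [show k * t * k⁻¹ * (k * u * k⁻¹) = k * (t * u) * k⁻¹ by group,
      show k * u * k⁻¹ * (k * t * k⁻¹) = k * (u * t) * k⁻¹ by group, hut]
  have hcolv : IsConj (k * t * k⁻¹) t := (isConj_iff.2 ⟨k, rfl⟩).symm
  obtain ⟨x, hx, hxe⟩ := K.surj _ hct
  have hxcol := (K.mask_spec hi hx).1 (hxe ▸ hcolv)
  have hb : clsOf i x - 1 < ncls i := by have := clsOf_lt hi hx; omega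
  obtain ⟨h, hh1, hh2⟩ := K.class_conj hi hx hxcol.1
  set b := clsOf i x - 1 with hbdef
  set v := K.el (rep i b) with hv
  have hf1 : (h⁻¹ * k) * u * (h⁻¹ * k)⁻¹ = t := by
    rw [show h⁻¹ * k * u * (h⁻¹ * k)⁻¹ = h⁻¹ * (k * u * k⁻¹) * h by group, hk, mul_assoc, ← hh1]
    group
  have hf2 : (h⁻¹ * k) * t * (h⁻¹ * k)⁻¹ = v := by
    rw [show h⁻¹ * k * t * (h⁻¹ * k)⁻¹ = h⁻¹ * (k * t * k⁻¹) * h by group, ← hxe, ← hh2]
    group
  set f := h⁻¹ * k with hf
  have hfm : ∀ g z : G, (f * g * f⁻¹) * (f * z * f⁻¹) = f * (g * z) * f⁻¹ := fun g z => by group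
  have hfinj : ∀ g z : G, f * g * f⁻¹ = f * z * f⁻¹ ↔ g = z := fun g z =>
    ⟨fun e => by simpa using e, fun e => by rw [e]⟩
  have hfcol : ∀ g : G, IsConj g t ↔ IsConj (f * g * f⁻¹) t := fun g =>
    ⟨fun e => ((isConj_iff.2 ⟨f, rfl⟩).symm).trans e, fun e => (isConj_iff.2 ⟨f, rfl⟩).trans e⟩
  have hbkt : b ≠ ktc i := fun e => hune (by
    have hvt : v = t := by rw [hv, e, K.rep_kt hi]
    exact (hfinj u t).1 (by rw [hf1, hf2, hvt]))
  have hS : ∀ g : G, (g * t = t * g ∧ g * u = u * g) ↔
      ((f * g * f⁻¹) * t = t * (f * g * f⁻¹) ∧ (f * g * f⁻¹) * v = v * (f * g * f⁻¹)) := by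
    intro g
    conv_rhs => rw [← hf1, ← hf2, hfm, hfm, hfm, hfm, hfinj, hfinj]
    exact And.comm
  obtain ⟨a1, a2, a3⟩ := K.root_count hi ha hakt
  obtain ⟨b1, b2, b3⟩ := K.root_count hi hb hbkt
  obtain ⟨a4, a5⟩ := K.key_count hi ha hakt
  obtain ⟨b4, b5⟩ := K.key_count hi hb hbkt
  rw [← hu] at a1 a2 a3 a4 a5
  rw [← hv] at b1 b2 b3 b4 b5
  have e3 : hsz i b = hsz i a := by
    rw [← a3, ← b3]; exact (card_conj f hS).symm
  have e1 : rootU i b = rootT i a := by
    rw [← a2, ← b1]
    refine (card_conj f fun g => and_congr (hS g) ?_).symm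
    conv_rhs => rw [← hf2, hfm, hfinj]
  have e2 : rootT i b = rootU i a := by
    rw [← a1, ← b2]
    refine (card_conj f fun g => and_congr (hS g) ?_).symm
    conv_rhs => rw [← hf1, hfm, hfinj]
  have e4 : colPairs ((histU i).getD b []) K.mask = colPairs ((histT i).getD a []) K.mask := by
    rw [← a5, ← b4]
    refine (card_conj f fun g => and_congr (hS g) (and_congr (hfcol g) ?_)).symm
    conv_rhs => rw [← hf2, hfm]
    exact hfcol _
  have e5 : colPairs ((histT i).getD b []) K.mask = colPairs ((histU i).getD a []) K.mask := by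
    rw [← a4, ← b5]
    refine (card_conj f fun g => and_congr (hS g) (and_congr (hfcol g) ?_)).symm
    have e : f * g * f⁻¹ * t = f * (g * u) * f⁻¹ :=
      calc f * g * f⁻¹ * t = f * g * f⁻¹ * (f * u * f⁻¹) := by rw [hf1]
        _ = _ := by group
    rw [e]
    exact hfcol _
  have hp : partner i K.mask a b = true := by
    simp only [partner, Bool.and_eq_true, Bool.not_eq_true', Nat.beq_eq]
    exact ⟨Bool.eq_false_iff.2 fun e => hbkt (Nat.eq_of_beq_eq_true e), hxcol.2, e3, e1, e2, e4, e5⟩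
  have := hnone b hb
  rw [hp] at this
  simp at this

end Coord

end CfsgLib.Recog.Held
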