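import Cfsg.Agent.Lib.Recog.Held.Colour
import Mathlib.GroupTheory.PGroup
import Mathlib.Data.Set.Card

set_option autoImplicit false

/-!
The four surviving fusion patterns (owner: helper22).
-/

namespace CfsgLib.Recog.Held

open Subgroup

variable {G : Type*} [Group G] {t : G} {i : ℕ}

theorem sylAt_spec {p : ℕ} (hp : p < sylList.length) : sylOK (sylAt p) = true := by
  rw [sylAt, List.getD_eq_getElem?_getD, List.getElem?_eq_getElem hp, Option.getD_some]
  exact List.all_eq_true.1 syl_ok _ (List.getElem_mem hp)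

/-- A subgroup in a Sylow entry. -/
theorem syl_subgroup [Finite G] (K : Coord t i) (hi : i < 6) {k n ninv d : ℕ} {gs : List ℕ}
    (h : sylOK (i, k, n, ninv, gs, d) = true) :
    k < ncls i ∧ k ≠ ktc i ∧ (∃ e, n = 2 ^ e) ∧
      ∃ T : Subgroup G, T ≤ centralizer {K.el (rep i k)} ∧ Nat.card T = n ∧
        Nat.card {g : G // g ∈ T ∧ g * g = 1} = ninv := by
  simp only [sylOK, Bool.and_eq_true, Nat.blt_eq, Bool.not_eq_true', decide_eq_true_eq, Nat.beq_eq,
    List.all_eq_true, allBelow_spec, Bool.or_eq_true, and_assoc] at h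
  obtain ⟨hn, hk, hkt, hgens, h0, hel, hinv⟩ := h
  have hkt' : k ≠ ktc i := fun e => by rw [e] at hkt; simp at hkt
  have hr := ((classes_spec hi).2.2.2.2 k hk).1
  refine ⟨hk, hkt', ⟨Nat.log2 n, hn⟩, ?_⟩
  let S : Set G := {x | ∃ g ∈ gs, x = K.el g}
  let E : Set G := {x | ∃ j < n, x = K.el (sylEl d j)}
  have hlt : ∀ j < n, sylEl d j < 21504 := fun j hj => (hel j hj).1
  have hpos : 0 < n := by rw [hn]; exact Nat.two_pow_pos _
  have hone : K.el (sylEl d 0) = 1 := by rw [h0, K.el_zero hi]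
  have hEin : ∀ j < n, K.el (sylEl d j) ∈ closure S := by
    intro j
    induction j using Nat.strong_induction_on with
    | _ j ih =>
      intro hj
      rcases (hel j hj).2.1 with e | ⟨hp, hg, he⟩
      · rw [e, hone]; exact one_mem _
      · have hgm : gs.getD (sylGen d j) 0 ∈ gs := by
          rw [List.getD_eq_getElem?_getD, List.getElem?_eq_getElem hg, Option.getD_some]
          exact List.getElem_mem hg
        rw [← he, ← K.el_mul _ (hlt _ (by omega)) _ (hgens _ hgm).1]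
        exact mul_mem (ih _ hp (by omega)) (subset_closure ⟨_, hgm, rfl⟩)
  have hclose : ∀ x ∈ E, ∀ s ∈ S, x * s ∈ E := by
    rintro _ ⟨j, hj, rfl⟩ _ ⟨g, hg, rfl⟩
    obtain ⟨l, hl, hle⟩ : ∃ l < n, sylEl d l = mulC i (sylEl d j) g := by
      by_contra hc
      have := (hel j hj).2.2.1 g hg
      rw [Bool.eq_false_iff] at this
      exact this (allBelow_spec.2 fun l hl => by
        rw [Bool.not_eq_true', Bool.eq_false_iff]
        exact fun e => hc ⟨l, hl, Nat.eq_of_beq_eq_true e⟩)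
    exact ⟨l, hl, by rw [hle, K.el_mul _ (hlt j hj) _ (hgens g hg).1]⟩
  have hTE : ∀ x ∈ closure S, x ∈ E := by
    intro x hx
    induction hx using closure_induction_right with
    | one => exact ⟨0, hpos, hone.symm⟩
    | mul_right x _ y hy ih => exact hclose x ih y hy
    | mul_inv_cancel x _ y hy ih =>
      have hpow : ∀ m : ℕ, x * y ^ m ∈ E := by
        intro m
        induction m with
        | zero => simpa using ih
        | succ m ihm => rw [pow_succ, ← mul_assoc]; exact hclose _ ihm y hy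
      have := hpow (orderOf y - 1)
      have e : y⁻¹ = y ^ (orderOf y - 1) := by
        apply inv_eq_of_mul_eq_one_right
        rw [← pow_succ', Nat.sub_add_cancel (orderOf_pos y), pow_orderOf_eq_one]
      rwa [e]
  have hinj : ∀ a < n, ∀ b < n, K.el (sylEl d a) = K.el (sylEl d b) → a = b := by
    intro a ha b hb e
    have e' := K.el_inj _ (hlt a ha) _ (hlt b hb) e
    rcases Nat.lt_trichotomy a b with h | h | h
    · have := (hel b hb).2.2.2 a h; rw [e'] at this; simp at this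
    · exact h
    · have := (hel a ha).2.2.2 b h; rw [e'] at this; simp at this
  refine ⟨closure S, ?_, ?_, ?_⟩
  · rw [closure_le]
    rintro _ ⟨g, hg, rfl⟩
    rw [SetLike.mem_coe, mem_centralizer_singleton_iff]
    exact (K.commute_iff (hgens g hg).1 hr).2 (hgens g hg).2
  · refine (card_eq_countBelow (fun j => K.el (sylEl d j)) n (fun _ => true) _ hinj
      (fun j hj => iff_of_true rfl (hEin j hj)) fun x hx => ?_).trans ?_
    · obtain ⟨j, hj, e⟩ := hTE x hx
      exact ⟨j, hj, e.symm⟩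
    · rw [countBelow_eq, Finset.filter_true_of_mem fun _ _ => rfl, Finset.card_range]
  · rw [← hinv]
    refine card_eq_countBelow (fun j => K.el (sylEl d j)) n _ _ hinj (fun j hj => ?_) fun x hx => ?_
    · rw [← K.el_zero hi, Nat.beq_eq, ← K.mul_eq_iff (hlt j hj) (hlt j hj) (by norm_num : 0 < 21504)]
      exact ⟨fun e => ⟨hEin j hj, e⟩, fun e => e.2⟩
    · obtain ⟨j, hj, e⟩ := hTE x hx.1
      exact ⟨j, hj, e.symm⟩

/-- A two-group centralising an uncoloured involution is no larger than the bound on the uncoloured classes. -/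
theorem card_le_of_uncoloured [Finite G] (K : Coord t i) (hi : i < 6)
    (hS : ∃ P : Sylow 2 G, (P : Subgroup G) ≤ centralizer {t}) {n : ℕ} (hn : ∃ e, n = 2 ^ e)
    (hb : ∀ b < ncls i, bitOn K.mask b = true ∨ hsz i b % (2 * n) ≠ 0)
    {u : G} (hu1 : u ≠ 1) (hu2 : u * u = 1) (hcol : ¬ IsConj u t)
    {R : Subgroup G} (hR : IsPGroup 2 R) (hRu : R ≤ centralizer {u}) : Nat.card R ≤ n := by
  have : Fact (Nat.Prime 2) := ⟨Nat.prime_two⟩
  obtain ⟨S, hS⟩ := hS
  set Z := zpowers u with hZ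
  have hZp : IsPGroup 2 Z := IsPGroup.of_card (n := 1) (by
    rw [Nat.card_zpowers, pow_one, orderOf_eq_prime_iff]; exact ⟨by rw [pow_two, hu2], hu1⟩)
  have hRn : R ≤ normalizer (Z : Set G) := by
    refine le_trans hRu fun g hg => ?_
    rw [mem_centralizer_singleton_iff] at hg
    rw [Subgroup.mem_normalizer_iff]
    have hg' : g * u * g⁻¹ = u := mul_inv_eq_iff_eq_mul.2 hg
    intro h
    constructor <;> intro hh <;> rw [mem_zpowers_iff] at hh ⊢ <;> obtain ⟨m, hm⟩ := hh
    · exact ⟨m, by rw [← hm, ← conj_zpow, hg']⟩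
    · refine ⟨m, ?_⟩
      have := congrArg (fun x => g⁻¹ * x * g) hm
      rw [show g⁻¹ * (g * h * g⁻¹) * g = h by group] at this
      rw [← this, show g⁻¹ * u ^ m * g = g⁻¹ * (g * u * g⁻¹) ^ m * g by rw [hg'], conj_zpow]
      group
  obtain ⟨P, hP⟩ := (IsPGroup.to_sup_of_normal_right' hR hZp hRn).exists_le_sylow
  obtain ⟨g, hg⟩ := MulAction.exists_smul_eq G P S
  have hmem : ∀ x ∈ P, g * x * g⁻¹ ∈ centralizer ({t} : Set G) := fun x hx => by
    refine hS ?_
    rw [← hg]
    exact Subgroup.smul_mem_pointwise_smul x (MulAut.conj g) _ hx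
  have huP : u ∈ P := hP (le_sup_right (a := R) (mem_zpowers u))
  obtain ⟨x, hx, hxe⟩ := K.surj _ (mem_centralizer_singleton_iff.1 (hmem u huP))
  have hxinv : K.el x ≠ 1 ∧ K.el x * K.el x = 1 := by
    rw [hxe]
    refine ⟨fun e => hu1 (by simpa using e), ?_⟩
    rw [show g * u * g⁻¹ * (g * u * g⁻¹) = g * (u * u) * g⁻¹ by group, hu2]
    group
  have hc := (K.sq_iff hi hx).1 hxinv
  obtain ⟨h, hh1, hh2⟩ := K.class_conj hi hx hc
  have hb' : clsOf i x - 1 < ncls i := by have := clsOf_lt hi hx; omega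
  set b := clsOf i x - 1 with hbdef
  have hncol : bitOn K.mask b = false := Bool.eq_false_iff.2 fun e => hcol
    ((isConj_iff.2 ⟨g, rfl⟩).trans (hxe ▸ (K.mask_spec hi hx).2 ⟨hc, e⟩))
  have hbkt : b ≠ ktc i := fun e => by
    rw [e, Bool.eq_false_iff] at hncol
    exact hncol ((K.mask_bit (classes_spec hi).1).2 (by rw [K.rep_kt hi]))
  have hmod := (hb b hb').resolve_left (by rw [hncol]; simp)
  set f := h⁻¹ * g with hf
  have hfu : f * u * f⁻¹ = K.el (rep i b) := by
    rw [hf, show h⁻¹ * g * u * (h⁻¹ * g)⁻¹ = h⁻¹ * (g * u * g⁻¹) * h by group, ← hxe, ← hh2]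
    group
  let B : Subgroup G := centralizer {t} ⊓ centralizer {K.el (rep i b)}
  have hle : R.map (MulAut.conj f).toMonoidHom ≤ B := by
    rintro _ ⟨r, hr, rfl⟩
    refine ⟨?_, ?_⟩
    · show f * r * f⁻¹ ∈ centralizer ({t} : Set G)
      rw [mem_centralizer_singleton_iff]
      have h1 := mem_centralizer_singleton_iff.1 (hmem r (hP (le_sup_left (b := Z) hr)))
      have h2 : h⁻¹ * t * h = t := by rw [mul_assoc, ← hh1]; group
      calc f * r * f⁻¹ * t = h⁻¹ * (g * r * g⁻¹ * t) * h * (h⁻¹ * t * h)⁻¹ * t := by rw [hf]; group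
        _ = h⁻¹ * (t * (g * r * g⁻¹)) * h := by rw [h1, h2]; group
        _ = (h⁻¹ * t * h) * (f * r * f⁻¹) := by rw [hf]; group
        _ = _ := by rw [h2]
    · show f * r * f⁻¹ ∈ centralizer ({K.el (rep i b)} : Set G)
      rw [mem_centralizer_singleton_iff]
      rw [← hfu, show f * r * f⁻¹ * (f * u * f⁻¹) = f * (r * u) * f⁻¹ by group,
        mem_centralizer_singleton_iff.1 (hRu hr)]
      group
  have hBc : Nat.card B = hsz i b := by
    rw [← (K.root_count hi hb' hbkt).2.2]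
    exact Nat.card_congr (Equiv.subtypeEquivRight fun x => by
      simp only [B, Subgroup.mem_inf, mem_centralizer_singleton_iff])
  have hd : Nat.card R ∣ hsz i b := by
    rw [← hBc]
    exact (Nat.card_congr (R.equivMapOfInjective _ (MulAut.conj f).injective).toEquiv).dvd.trans
      (card_dvd_of_le hle)
  by_contra hlt
  obtain ⟨e, he⟩ := IsPGroup.iff_card.1 hR
  obtain ⟨e', rfl⟩ := hn
  have : 2 * 2 ^ e' ∣ 2 ^ e := by
    rw [← pow_succ']
    refine pow_dvd_pow 2 ?_
    by_contra hh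
    exact hlt (by rw [he]; exact Nat.pow_le_pow_right two_pos (by omega))
  exact hmod (Nat.mod_eq_zero_of_dvd (this.trans (he ▸ hd)))

/-- Uncoloured classes with maximal Sylow subgroups have isomorphic ones. -/
theorem no_kill [Finite G] (K : Coord t i) (hi : i < 6)
    (hS : ∃ P : Sylow 2 G, (P : Subgroup G) ≤ centralizer {t})
    (htwo : ∀ u v : G, u ≠ 1 → u * u = 1 → v ≠ 1 → v * v = 1 → ¬ IsConj u t → ¬ IsConj v t → IsConj u v)
    (pq : ℕ × ℕ) : killPair i K.mask pq = false := by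
  have : Fact (Nat.Prime 2) := ⟨Nat.prime_two⟩
  obtain ⟨p, q⟩ := pq
  rw [Bool.eq_false_iff]
  intro hk
  simp only [killPair, Bool.and_eq_true, Bool.not_eq_true', Nat.beq_eq, Nat.blt_eq, allBelow_spec,
    Bool.or_eq_true] at hk
  obtain ⟨hpi, hqi, hpy, hqy, hn, hne, hp, hq, hmax⟩ := hk
  have hP := sylAt_spec hp
  have hQ := sylAt_spec hq
  generalize eP : sylAt p = P at hpi hpy hn hne hmax hP
  generalize eQ : sylAt q = Qe at hqi hqy hn hne hQ
  obtain ⟨i₁, a, n, na, gs, d⟩ := P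
  obtain ⟨i₂, b, n', nb, gs', d'⟩ := Qe
  obtain rfl : i₁ = i := hpi
  obtain rfl : i₂ = i₁ := hqi
  obtain rfl : n = n' := hn
  obtain ⟨ha, hakt, hpow, T, hT, hTc, hTi⟩ := syl_subgroup K hi hP
  obtain ⟨hb, hbkt, -, U, hU, hUc, hUi⟩ := syl_subgroup K hi hQ
  set u := K.el (rep i₂ a) with hu
  set v := K.el (rep i₂ b) with hv
  have hinv : ∀ c, c < ncls i₂ → K.el (rep i₂ c) ≠ 1 ∧ K.el (rep i₂ c) * K.el (rep i₂ c) = 1 := fun c hc => by
    obtain ⟨h1, h2, -⟩ := (classes_spec hi).2.2.2.2 c hc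
    exact (K.sq_iff hi h1).2 (by omega)
  have hcu : ¬ IsConj u t := fun e => by rw [(K.mask_bit ha).2 e] at hpy; simp at hpy
  have hcv : ¬ IsConj v t := fun e => by rw [(K.mask_bit hb).2 e] at hqy; simp at hqy
  obtain ⟨g, hg⟩ := isConj_iff.1 (htwo u v (hinv a ha).1 (hinv a ha).2 (hinv b hb).1 (hinv b hb).2 hcu hcv)
  have hmax' : ∀ c < ncls i₂, bitOn K.mask c = true ∨ hsz i₂ c % (2 * n) ≠ 0 := fun c hc =>
    (hmax c hc).imp_right fun h e => by rw [e] at h; simp at h
  set W := centralizer ({v} : Set G) with hW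
  have hbound : ∀ R : Subgroup W, IsPGroup 2 R → Nat.card R ≤ n := fun R hR => by
    rw [Nat.card_congr (R.equivMapOfInjective _ W.subtype_injective).toEquiv]
    exact card_le_of_uncoloured K hi hS hpow hmax' (hinv b hb).1 (hinv b hb).2 hcv
      (hR.map W.subtype) (map_subtype_le R)
  obtain ⟨e, he⟩ := hpow
  let T' : Subgroup G := T.map (MulAut.conj g).toMonoidHom
  have hT'W : T' ≤ W := by
    rintro _ ⟨x, hx, rfl⟩
    rw [hW, mem_centralizer_singleton_iff]
    show g * x * g⁻¹ * v = v * (g * x * g⁻¹)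
    rw [← hg, show g * x * g⁻¹ * (g * u * g⁻¹) = g * (x * u) * g⁻¹ by group,
      mem_centralizer_singleton_iff.1 (hT hx)]
    group
  have hT'c : Nat.card T' = n := by
    rw [← hTc]; exact (Nat.card_congr (T.equivMapOfInjective _ (MulAut.conj g).injective).toEquiv).symm
  have syl : ∀ A : Subgroup G, A ≤ W → Nat.card A = n → ∃ P : Sylow 2 W, (P : Subgroup W) = A.subgroupOf W := by
    intro A hA hAc
    have hc : Nat.card (A.subgroupOf W) = n := (Nat.card_congr (subgroupOfEquivOfLe hA).toEquiv).trans hAc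
    obtain ⟨P, hP⟩ := (IsPGroup.of_card (p := 2) (n := e) (hc.trans he)).exists_le_sylow
    exact ⟨P, (eq_of_le_of_card_ge hP (by rw [hc]; exact hbound _ P.2)).symm⟩
  obtain ⟨P1, hP1⟩ := syl T' hT'W hT'c
  obtain ⟨P2, hP2⟩ := syl U hU hUc
  obtain ⟨w, hw⟩ := MulAction.exists_smul_eq W P1 P2
  have key : ∀ x : G, x ∈ T ↔ ((w : G) * g) * x * ((w : G) * g)⁻¹ ∈ U := by
    intro x
    have e1 : ((w : G) * g) * x * ((w : G) * g)⁻¹ = w * (g * x * g⁻¹) * (w : G)⁻¹ := by group
    rw [e1]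
    constructor
    · intro hx
      have h1 : (⟨g * x * g⁻¹, hT'W ⟨x, hx, rfl⟩⟩ : W) ∈ (P1 : Subgroup W) := by
        rw [hP1, mem_subgroupOf]; exact ⟨x, hx, rfl⟩
      have h2 : w * ⟨g * x * g⁻¹, hT'W ⟨x, hx, rfl⟩⟩ * w⁻¹ ∈ (P2 : Subgroup W) := by
        rw [← hw]; exact smul_mem_pointwise_smul _ (MulAut.conj w) _ h1
      rw [hP2, mem_subgroupOf] at h2
      exact h2
    · intro hx
      have hxW : w * (g * x * g⁻¹) * (w : G)⁻¹ ∈ W := hU hx
      have h1 : (⟨w * (g * x * g⁻¹) * (w : G)⁻¹, hxW⟩ : W) ∈ ((w • P1 : Sylow 2 W) : Subgroup W) := by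
        rw [hw, hP2, mem_subgroupOf]; exact hx
      obtain ⟨⟨y, hyW⟩, hy, hye⟩ := h1
      have hye' : (w : G) * y * (w : G)⁻¹ = w * (g * x * g⁻¹) * (w : G)⁻¹ := congrArg Subtype.val hye
      have : y = g * x * g⁻¹ := mul_left_cancel (mul_right_cancel hye')
      rw [hP1, SetLike.mem_coe, mem_subgroupOf] at hy
      obtain ⟨x', hx', hxe⟩ := hy
      have : g * x' * g⁻¹ = g * x * g⁻¹ := hxe.trans this
      rwa [← mul_left_cancel (mul_right_cancel this)]
  have : na = nb := by
    rw [← hTi, ← hUi]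
    refine card_conj ((w : G) * g) fun x => and_congr (key x) ?_
    constructor
    · intro hx
      rw [show (w : G) * g * x * ((w : G) * g)⁻¹ * ((w : G) * g * x * ((w : G) * g)⁻¹) =
        ((w : G) * g) * (x * x) * ((w : G) * g)⁻¹ by group, hx]
      group
    · intro hx
      have hx' := congrArg (fun z => ((w : G) * g)⁻¹ * z * ((w : G) * g)) hx
      rw [show ((w : G) * g)⁻¹ * ((w : G) * g * x * ((w : G) * g)⁻¹ * ((w : G) * g * x * ((w : G) * g)⁻¹)) *
        ((w : G) * g) = x * x by group] at hx'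
      rw [hx']
      group
  rw [this] at hne
  simp at hne

/-- Only four fusion patterns, all in the first candidate. -/
theorem colour_cases [Finite G] [IsSimpleGroup G] (K : Coord t i) (hi : i < 6)
    (hS : ∃ P : Sylow 2 G, (P : Subgroup G) ≤ centralizer {t})
    (htwo : ∀ u v : G, u ≠ 1 → u * u = 1 → v ≠ 1 → v * v = 1 → ¬ IsConj u t → ¬ IsConj v t → IsConj u v)
    (hy : ∃ v : G, v ≠ 1 ∧ v * v = 1 ∧ ¬ IsConj v t) (hnc : centralizer ({t} : Set G) ≠ ⊤) :
    i = 0 ∧ K.mask ∈ goodMasks := by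
  have : Fact (Nat.Prime 2) := ⟨Nat.prime_two⟩
  have hm := allBelow_spec.1 (mask_ok hi) _ K.mask_lt
  have hktc := (classes_spec hi).1
  simp only [maskOK, Bool.or_eq_true, Bool.not_eq_true', Bool.and_eq_true, Nat.beq_eq, allBelow_spec] at hm
  rcases hm with h | h | h | h | h | ⟨h0, h⟩
  · rw [(K.mask_bit hktc).2 (by rw [K.rep_kt hi])] at h; simp at h
  · exfalso
    obtain ⟨v, hv1, hv2, hv⟩ := hy
    obtain ⟨S, hS⟩ := hS
    have hp : IsPGroup 2 (zpowers v) := IsPGroup.of_card (n := 1) (by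
      rw [Nat.card_zpowers, pow_one, orderOf_eq_prime_iff]; exact ⟨by rw [pow_two, hv2], hv1⟩)
    obtain ⟨P, hP⟩ := hp.exists_le_sylow
    obtain ⟨g, hg⟩ := MulAction.exists_smul_eq G P S
    have hmem : g * v * g⁻¹ ∈ centralizer ({t} : Set G) := hS (by
      rw [← hg]; exact smul_mem_pointwise_smul v (MulAut.conj g) _ (hP (mem_zpowers v)))
    obtain ⟨x, hx, hxe⟩ := K.surj _ (mem_centralizer_singleton_iff.1 hmem)
    have hc : clsOf i x ≠ 0 := (K.sq_iff hi hx).1 (by
      rw [hxe]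
      refine ⟨fun e => hv1 (by simpa using e), ?_⟩
      rw [show g * v * g⁻¹ * (g * v * g⁻¹) = g * (v * v) * g⁻¹ by group, hv2]
      group)
    have hb : clsOf i x - 1 < ncls i := by have := clsOf_lt hi hx; omega
    exact hv ((isConj_iff.2 ⟨g, rfl⟩).trans (hxe ▸ (K.mask_spec hi hx).2 ⟨hc, h _ hb⟩))
  · exfalso
    obtain ⟨S, hS⟩ := hS
    have ht1 := K.ne_one_t hi
    have htS : t ∈ S := by
      have hp : IsPGroup 2 (zpowers t) := IsPGroup.of_card (n := 1) (by
        rw [Nat.card_zpowers, pow_one, orderOf_eq_prime_iff]; exact ⟨by rw [pow_two, K.t_sq hi], ht1⟩)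
      have hn : (S : Subgroup G) ≤ normalizer (zpowers t : Set G) := fun s hs => by
        have hst := mem_centralizer_singleton_iff.1 (hS hs)
        have hs' : s * t * s⁻¹ = t := mul_inv_eq_iff_eq_mul.2 hst
        rw [Subgroup.mem_normalizer_iff]
        intro y
        constructor <;> intro hh <;> rw [mem_zpowers_iff] at hh ⊢ <;> obtain ⟨m, hm⟩ := hh
        · exact ⟨m, by rw [← hm, ← conj_zpow, hs']⟩
        · refine ⟨m, ?_⟩
          have := congrArg (fun x => s⁻¹ * x * s) hm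
          rw [show s⁻¹ * (s * y * s⁻¹) * s = y by group] at this
          rw [← this, show s⁻¹ * t ^ m * s = s⁻¹ * (s * t * s⁻¹) ^ m * s by rw [hs'], conj_zpow]
          group
      have hsup := IsPGroup.to_sup_of_normal_right' S.2 hp hn
      have := S.3 hsup le_sup_left
      exact this.le (mem_sup_right (mem_zpowers t))
    have hord : orderOf t = 2 := orderOf_eq_prime (by rw [pow_two, K.t_sq hi]) ht1
    have hiso : ∀ g : G, g * t * g⁻¹ ∈ S → g * t * g⁻¹ = t := by
      intro g hg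
      obtain ⟨x, hx, hxe⟩ := K.surj _ (mem_centralizer_singleton_iff.1 (hS hg))
      obtain ⟨hc, hb⟩ := (K.mask_spec hi hx).1 (hxe ▸ (isConj_iff.2 ⟨g, rfl⟩).symm)
      have hlt : clsOf i x - 1 < ncls i := by have := clsOf_lt hi hx; omega
      rw [bitOn_iff, h, Nat.testBit_two_pow, decide_eq_true_eq] at hb
      obtain ⟨k, hk1, hk2⟩ := K.class_conj hi hx hc
      rw [← hb, K.rep_kt hi, hk1, mul_inv_cancel_right] at hk2
      rw [← hxe, ← hk2]
    have hcomm := CfsgLib.ZStar.mem_oddCore_of_sylow S hord htS hiso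
    rcases IsSimpleGroup.eq_bot_or_eq_top_of_normal (Cfsg.oddCore G) inferInstance with hb | hb
    · refine hnc (eq_top_iff.2 fun g _ => ?_)
      have := hcomm g
      rw [hb, mem_bot] at this
      rw [mem_centralizer_singleton_iff]
      rw [mul_inv_eq_one, mul_inv_eq_iff_eq_mul] at this
      exact this.symm
    · have hodd := CfsgLib.ZStar.odd_card_oddCore G
      rw [hb, Nat.card_congr (topEquiv (G := G)).toEquiv] at hodd
      exact Nat.not_even_iff_odd.2 hodd (even_iff_two_dvd.2 (hord ▸ orderOf_dvd_natCard t))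
  · rw [K.reversible_mask hi] at h; simp at h
  · obtain ⟨pq, -, hpq⟩ := List.any_eq_true.1 h
    rw [no_kill K hi hS htwo pq] at hpq
    simp at hpq
  · obtain ⟨m, hm, e⟩ := List.any_eq_true.1 h
    exact ⟨h0, (Nat.eq_of_beq_eq_true e).symm ▸ hm⟩

end CfsgLib.Recog.Held
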