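import Cfsg.Agent.Lib.Recog.Held.ColourDefs

set_option autoImplicit false
set_option maxRecDepth 100000

/-! Checks on the class data of candidate 1 (owner: helper22). -/

namespace CfsgLib.Recog.Held

theorem tableOK1 : tableOK 1 0 2816 = true := by decide +kernel

theorem classesOK1 : classesOK 1 = true := by decide +kernel

theorem perClassOK1 : allBelow (ncls 1) (perClassOK 1) = true := by decide +kernel

theorem dataOK1 : DataOK 1 := ⟨tableOK1, classesOK1, perClassOK1⟩

theorem maskOK1 : allBelow (2 ^ ncls 1) (maskOK 1) = true := by decide +kernel

end CfsgLib.Recog.Held
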