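import Cfsg.Agent.Lib.Recog.Held.ColourDefs

set_option autoImplicit false
set_option maxRecDepth 100000

/-! Checks on the class data of candidate 2 (owner: helper22). -/

namespace CfsgLib.Recog.Held

theorem tableOK2 : tableOK 2 0 2816 = true := by decide +kernel

theorem classesOK2 : classesOK 2 = true := by decide +kernel

theorem perClassOK2 : allBelow (ncls 2) (perClassOK 2) = true := by decide +kernel

theorem dataOK2 : DataOK 2 := ⟨tableOK2, classesOK2, perClassOK2⟩

theorem maskOK2 : allBelow (2 ^ ncls 2) (maskOK 2) = true := by decide +kernel

end CfsgLib.Recog.Held
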