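import Cfsg.Agent.Lib.Recog.Held.ColourDefs

set_option autoImplicit false
set_option maxRecDepth 100000

/-! Checks on the class data of candidate 3 (owner: helper22). -/

namespace CfsgLib.Recog.Held

theorem tableOK3 : tableOK 3 0 2816 = true := by decide +kernel

theorem classesOK3 : classesOK 3 = true := by decide +kernel

theorem perClassOK3 : allBelow (ncls 3) (perClassOK 3) = true := by decide +kernel

theorem dataOK3 : DataOK 3 := ⟨tableOK3, classesOK3, perClassOK3⟩

theorem maskOK3 : allBelow (2 ^ ncls 3) (maskOK 3) = true := by decide +kernel

end CfsgLib.Recog.Held
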