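import Cfsg.Agent.Lib.Recog.Held.ColourDefs

set_option autoImplicit false
set_option maxRecDepth 100000

/-! Checks on the class data of candidate 4 (owner: helper22). -/

namespace CfsgLib.Recog.Held

theorem tableOK4 : tableOK 4 0 2816 = true := by decide +kernel

theorem classesOK4 : classesOK 4 = true := by decide +kernel

theorem perClassOK4 : allBelow (ncls 4) (perClassOK 4) = true := by decide +kernel

theorem dataOK4 : DataOK 4 := ⟨tableOK4, classesOK4, perClassOK4⟩

theorem maskOK4 : allBelow (2 ^ ncls 4) (maskOK 4) = true := by decide +kernel

end CfsgLib.Recog.Held
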