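import Cfsg.Agent.Lib.Recog.Held.ColourDefs

set_option autoImplicit false
set_option maxRecDepth 100000

/-! Checks on the class data of candidate 5 (owner: helper22). -/

namespace CfsgLib.Recog.Held

theorem tableOK5 : tableOK 5 0 2816 = true := by decide +kernel

theorem classesOK5 : classesOK 5 = true := by decide +kernel

theorem perClassOK5 : allBelow (ncls 5) (perClassOK 5) = true := by decide +kernel

theorem dataOK5 : DataOK 5 := ⟨tableOK5, classesOK5, perClassOK5⟩

theorem maskOK5 : allBelow (2 ^ ncls 5) (maskOK 5) = true := by decide +kernel

end CfsgLib.Recog.Held
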