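import Cfsg.Agent.Lib.Recog.Held.ColourCheck0
import Cfsg.Agent.Lib.Recog.Held.ColourCheck1
import Cfsg.Agent.Lib.Recog.Held.ColourCheck2
import Cfsg.Agent.Lib.Recog.Held.ColourCheck3
import Cfsg.Agent.Lib.Recog.Held.ColourCheck4
import Cfsg.Agent.Lib.Recog.Held.ColourCheck5
import Mathlib.Tactic.IntervalCases

set_option autoImplicit false
set_option maxRecDepth 100000

/-! Checks on the class data of the six candidates (owner: helper22). -/

namespace CfsgLib.Recog.Held

theorem slots_ok : slotsOK = true := by decide +kernel

theorem syl_ok : sylList.all sylOK = true := by decide +kernel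

theorem data_ok {i : ℕ} (h : i < 6) : DataOK i := by
  interval_cases i
  exacts [dataOK0, dataOK1, dataOK2, dataOK3, dataOK4, dataOK5]

theorem mask_ok {i : ℕ} (h : i < 6) : allBelow (2 ^ ncls i) (maskOK i) = true := by
  interval_cases i
  exacts [maskOK0, maskOK1, maskOK2, maskOK3, maskOK4, maskOK5]

end CfsgLib.Recog.Held
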