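import Cfsg.Agent.Lib.Recog.Held.ColourDefs

set_option autoImplicit false
set_option maxRecDepth 100000

/-! Checks on the class data of candidate 0 (owner: helper22). -/

namespace CfsgLib.Recog.Held

theorem tableOK0 : tableOK 0 0 2816 = true := by decide +kernel

theorem classesOK0 : classesOK 0 = true := by decide +kernel

theorem perClassOK0 : allBelow (ncls 0) (perClassOK 0) = true := by decide +kernel

theorem dataOK0 : DataOK 0 := ⟨tableOK0, classesOK0, perClassOK0⟩

theorem maskOK0 : allBelow (2 ^ ncls 0) (maskOK 0) = true := by decide +kernel

end CfsgLib.Recog.Held
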