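import Cfsg.Agent.Lib.Recog.Held.Count
import Cfsg.Agent.Lib.Recog.Held.ColourData

set_option autoImplicit false

/-!
Reading the class data of the candidate centralisers, and the checks on it (owner: helper22).
-/

namespace CfsgLib.Recog.Held

/-- Number of involution classes. -/
noncomputable def ncls (i : ℕ) : ℕ := field 8 nclsData i
/-- The class of `t`. -/
noncomputable def ktc (i : ℕ) : ℕ := field 8 ktData i
/-- A representative. -/
noncomputable def rep (i k : ℕ) : ℕ := field 16 repData (8 * i + k)
/-- A class length. -/
noncomputable def clen (i k : ℕ) : ℕ := field 16 sizeData (8 * i + k)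
/-- A centraliser order. -/
noncomputable def hsz (i k : ℕ) : ℕ := field 16 hsData (8 * i + k)
/-- Square roots of a representative. -/
noncomputable def rootU (i k : ℕ) : ℕ := field 16 rootUData (8 * i + k)
/-- Square roots of `t` commuting with a representative. -/
noncomputable def rootT (i k : ℕ) : ℕ := field 16 rootTData (8 * i + k)
/-- An element of a centraliser. -/
noncomputable def stabEl (i k j : ℕ) : ℕ := field 15 (stabData i) (field 16 offData (8 * i + k) + j)
/-- A key against the representative. -/
noncomputable def keyU (i k j : ℕ) : ℕ := field 8 (keyUData i) (field 16 offData (8 * i + k) + j)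
/-- A key against `t`. -/
noncomputable def keyT (i k j : ℕ) : ℕ := field 8 (keyTData i) (field 16 offData (8 * i + k) + j)

/-- The entry of an element in the class table; `0` off it. -/
noncomputable def entry (i x : ℕ) : ℕ :=
  cond (Nat.beq (field 8 slotData (x / 128)) 0) 0
    (field 19 (clsData i) ((field 8 slotData (x / 128) - 1) * 128 + Nat.land x 127))

/-- One more than the class of an involution, `0` for other elements. -/
noncomputable def clsOf (i x : ℕ) : ℕ := Nat.land (entry i x) 15

/-- The element of a slot. -/
noncomputable def slotX (s : ℕ) : ℕ := 128 * field 8 slotList (s / 128) + Nat.land s 127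

/-- The slots are exactly the quotient elements squaring to the identity. -/
noncomputable def slotsOK : Bool :=
  allBelow 168 (fun l => cond (Nat.beq (lMul l l) 0)
      (Nat.blt 0 (field 8 slotData l) && (Nat.blt (field 8 slotData l - 1) 22 &&
        Nat.beq (field 8 slotList (field 8 slotData l - 1)) l))
      (Nat.beq (field 8 slotData l) 0)) &&
    allBelow 22 (fun s => Nat.blt (field 8 slotList s) 168 &&
      Nat.beq (field 8 slotData (field 8 slotList s)) (s + 1))

/-- The table entry of a slot is correct. -/
noncomputable def clsOK (i s : ℕ) : Bool :=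
  cond (Nat.beq (field 19 (clsData i) s) 0)
    (Nat.beq (slotX s) 0 || !Nat.beq (mulC i (slotX s) (slotX s)) 0)
    (Nat.blt 0 (slotX s) && (Nat.beq (mulC i (slotX s) (slotX s)) 0 &&
      (Nat.blt 0 (Nat.land (field 19 (clsData i) s) 15) &&
        (Nat.ble (Nat.land (field 19 (clsData i) s) 15) (ncls i) &&
          (Nat.blt (field 19 (clsData i) s / 16) 21504 &&
            Nat.beq (mulC i (field 19 (clsData i) s / 16) (rep i (Nat.land (field 19 (clsData i) s) 15 - 1)))
              (mulC i (slotX s) (field 19 (clsData i) s / 16)))))))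

/-- The table of a candidate. -/
noncomputable def tableOK (i lo len : ℕ) : Bool := allFrom lo len (clsOK i)

/-- Facts on the classes. -/
noncomputable def classesOK (i : ℕ) : Bool :=
  Nat.blt (ktc i) (ncls i) && (Nat.ble (ncls i) 8 && (Nat.beq (rep i (ktc i)) 64 && (Nat.beq (mulC i 0 0) 0 &&
    allBelow (ncls i) fun k => Nat.blt (rep i k) 21504 && (Nat.beq (clsOf i (rep i k)) (k + 1) &&
      Nat.beq (countBelow 2816 fun s => Nat.beq (Nat.land (field 19 (clsData i) s) 15) (k + 1)) (clen i k)))))

/-- The listed centraliser. -/
noncomputable def stabOK (i k : ℕ) : Bool :=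
  Nat.beq (clen i k * hsz i k) 21504 &&
    (allBelow (hsz i k) (fun j => Nat.blt (stabEl i k j) 21504 &&
      (Nat.beq (mulC i (stabEl i k j) (rep i k)) (mulC i (rep i k) (stabEl i k j)) &&
        (Nat.beq (j + 1) (hsz i k) || Nat.blt (stabEl i k j) (stabEl i k (j + 1))))) &&
    (Nat.beq (countBelow (hsz i k) fun j => Nat.beq (mulC i (stabEl i k j) (stabEl i k j)) (rep i k)) (rootU i k) &&
      Nat.beq (countBelow (hsz i k) fun j => Nat.beq (mulC i (stabEl i k j) (stabEl i k j)) 64) (rootT i k)))

/-- The keys of a centraliser. -/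
noncomputable def keysOK (i k : ℕ) : Bool :=
  allBelow (hsz i k) fun j =>
    Nat.beq (keyU i k j) (clsOf i (stabEl i k j) * 16 + clsOf i (mulC i (stabEl i k j) (rep i k))) &&
      Nat.beq (keyT i k j) (clsOf i (stabEl i k j) * 16 + clsOf i (mulC i (stabEl i k j) 64))

/-- A key of two involutions. -/
noncomputable def both (a : ℕ) : Bool := Nat.blt 0 (a / 16) && Nat.blt 0 (Nat.land a 15)

/-- A histogram counts the keys of pairs of involutions. -/
noncomputable def histOK (n : ℕ) (key : ℕ → ℕ) (L : List ℕ) : Bool :=
  decide (L.map fun e => e % 256).Nodup &&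
    (L.all (fun e => both (e % 256) && Nat.beq (countBelow n fun j => Nat.beq (key j) (e % 256)) (e / 256)) &&
      allBelow n fun j => !both (key j) || L.any fun e => Nat.beq (e % 256) (key j))

/-- The histograms of a class. -/
noncomputable def histsOK (i k : ℕ) : Bool :=
  histOK (hsz i k) (keyU i k) ((histU i).getD k []) && histOK (hsz i k) (keyT i k) ((histT i).getD k [])

/-- A class other than `t`. -/
noncomputable def perClassOK (i k : ℕ) : Bool :=
  Nat.beq k (ktc i) || (stabOK i k && (keysOK i k && histsOK i k))

/-- All facts on a candidate. -/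
structure DataOK (i : ℕ) : Prop where
  table : tableOK i 0 2816 = true
  classes : classesOK i = true
  perClass : allBelow (ncls i) (perClassOK i) = true

/-- A class is coloured in a mask. -/
noncomputable def bitOn (m k : ℕ) : Bool := Nat.beq (field 1 m k) 1

/-- Both classes of a key are coloured. -/
noncomputable def keyOn (m a : ℕ) : Bool := bitOn m (a / 16 - 1) && bitOn m (Nat.land a 15 - 1)

/-- Coloured pairs in a centraliser, by histogram. -/
noncomputable def colPairs (L : List ℕ) (m : ℕ) : ℕ :=
  List.rec (motive := fun _ => ℕ) 0 (fun e _ ih => cond (keyOn m (e % 256)) (e / 256 + ih) ih) L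

/-- Class `b` can be the reverse of class `a`. -/
noncomputable def partner (i m a b : ℕ) : Bool :=
  !Nat.beq b (ktc i) && (bitOn m b && (Nat.beq (hsz i b) (hsz i a) &&
    (Nat.beq (rootU i b) (rootT i a) && (Nat.beq (rootT i b) (rootU i a) &&
      (Nat.beq (colPairs ((histU i).getD b []) m) (colPairs ((histT i).getD a []) m) &&
        Nat.beq (colPairs ((histT i).getD b []) m) (colPairs ((histU i).getD a []) m))))))

/-- Every coloured class has a reverse. -/
noncomputable def reversible (i m : ℕ) : Bool :=
  allBelow (ncls i) fun a => Nat.beq a (ktc i) || (!bitOn m a || !allBelow (ncls i) fun b => !partner i m a b)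

/-- The Sylow list entry. -/
noncomputable def sylAt (p : ℕ) : ℕ × ℕ × ℕ × ℕ × List ℕ × ℕ := sylList.getD p (0, 0, 0, 0, [], 0)

/-- Code of the element `j` of a Sylow entry. -/
noncomputable def sylEl (d j : ℕ) : ℕ := Nat.land (field 29 d j) 32767
/-- Parent of the element `j` of a Sylow entry. -/
noncomputable def sylPar (d j : ℕ) : ℕ := Nat.land (Nat.shiftRight (field 29 d j) 15) 1023
/-- Generator number of the element `j` of a Sylow entry. -/
noncomputable def sylGen (d j : ℕ) : ℕ := Nat.shiftRight (field 29 d j) 25

/-- A Sylow entry is a subgroup of the centraliser of its class, of the stated order and number of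
solutions of `x² = 1`. -/
noncomputable def sylOK : ℕ × ℕ × ℕ × ℕ × List ℕ × ℕ → Bool
  | (i, k, n, ninv, gs, d) =>
    decide (n = 2 ^ Nat.log2 n) && (Nat.blt k (ncls i) && (!Nat.beq k (ktc i) &&
      (gs.all (fun g => Nat.blt g 21504 && Nat.beq (mulC i g (rep i k)) (mulC i (rep i k) g)) &&
      (Nat.beq (sylEl d 0) 0 &&
      (allBelow n (fun j => Nat.blt (sylEl d j) 21504 && ((Nat.beq j 0 || (Nat.blt (sylPar d j) j &&
        (Nat.blt (sylGen d j) gs.length &&
          Nat.beq (mulC i (sylEl d (sylPar d j)) (gs.getD (sylGen d j) 0)) (sylEl d j)))) &&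
        (gs.all (fun g => !allBelow n fun l => !Nat.beq (sylEl d l) (mulC i (sylEl d j) g)) &&
          allBelow j fun l => !Nat.beq (sylEl d l) (sylEl d j)))) &&
      Nat.beq (countBelow n fun j => Nat.beq (mulC i (sylEl d j) (sylEl d j)) 0) ninv)))))

/-- Two uncoloured classes with maximal Sylow subgroups that are not isomorphic. -/
noncomputable def killPair (i m : ℕ) : ℕ × ℕ → Bool
  | (p, q) => Nat.beq (sylAt p).1 i && (Nat.beq (sylAt q).1 i && (!bitOn m (sylAt p).2.1 &&
    (!bitOn m (sylAt q).2.1 && (Nat.beq (sylAt p).2.2.1 (sylAt q).2.2.1 &&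
      (!Nat.beq (sylAt p).2.2.2.1 (sylAt q).2.2.2.1 &&
        (Nat.blt p sylList.length && (Nat.blt q sylList.length &&
          allBelow (ncls i) fun b => bitOn m b || !Nat.beq (hsz i b % (2 * (sylAt p).2.2.1)) 0)))))))

/-- The four colourings that survive. -/
def goodMasks : List ℕ := [27, 59, 91, 123]

/-- Each mask is impossible or one of the four. -/
noncomputable def maskOK (i m : ℕ) : Bool :=
  !bitOn m (ktc i) || (allBelow (ncls i) (bitOn m) || (Nat.beq m (2 ^ ktc i) ||
    (!reversible i m || (sylPairs.any (killPair i m) || (Nat.beq i 0 && goodMasks.any (Nat.beq m))))))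

end CfsgLib.Recog.Held
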