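import Cfsg.Agent.Lib.Recog.Held.ColourCheck
import Mathlib.GroupTheory.OrderOfElement
import Mathlib.GroupTheory.Index
import Mathlib.Tactic.Group

set_option autoImplicit false

/-!
The involution classes and their centralisers, read in a group with coordinates on `C(t)` (owner: helper22).
-/

namespace CfsgLib.Recog.Held

theorem land15_eq (x : ℕ) : Nat.land x 15 = x % 16 := Nat.and_two_pow_sub_one_eq_mod x 4

theorem land127_eq (x : ℕ) : Nat.land x 127 = x % 128 := Nat.and_two_pow_sub_one_eq_mod x 7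

theorem slots_fwd {l : ℕ} (hl : l < 168) :
    (lMul l l = 0 → 0 < field 8 slotData l ∧ field 8 slotData l - 1 < 22 ∧
      field 8 slotList (field 8 slotData l - 1) = l) ∧ (lMul l l ≠ 0 → field 8 slotData l = 0) := by
  have h := slots_ok
  rw [slotsOK, Bool.and_eq_true] at h
  have h2 := allBelow_spec.1 h.1 l hl
  constructor <;> intro e
  · rw [show Nat.beq (lMul l l) 0 = true by rw [e]; rfl, cond_true] at h2
    simpa [Nat.blt_eq, Nat.beq_eq] using h2
  · rw [Bool.eq_false_iff.2 fun hb => e (Nat.eq_of_beq_eq_true hb), cond_false] at h2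
    exact Nat.eq_of_beq_eq_true h2

theorem slots_back {s : ℕ} (hs : s < 22) : field 8 slotList s < 168 ∧ field 8 slotData (field 8 slotList s) = s + 1 := by
  have h := slots_ok
  rw [slotsOK, Bool.and_eq_true] at h
  simpa [Nat.blt_eq, Nat.beq_eq] using allBelow_spec.1 h.2 s hs

theorem slotX_eq (s : ℕ) : slotX s = 128 * field 8 slotList (s / 128) + s % 128 := by
  rw [slotX, land127_eq]

/-- The slot of an element. -/
noncomputable def slotOf (x : ℕ) : ℕ := (field 8 slotData (x / 128) - 1) * 128 + x % 128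

theorem slotOf_spec {x : ℕ} (hx : x < 21504) (h : 0 < field 8 slotData (x / 128)) :
    slotOf x < 2816 ∧ slotX (slotOf x) = x := by
  obtain ⟨a, b⟩ := slots_fwd (l := x / 128) (by omega)
  have hz : lMul (x / 128) (x / 128) = 0 := by
    by_contra hne
    exact h.ne' (b hne)
  obtain ⟨-, h1, h2⟩ := a hz
  have e : slotOf x / 128 = field 8 slotData (x / 128) - 1 := by unfold slotOf; omega
  have e2 : slotOf x % 128 = x % 128 := by unfold slotOf; omega
  refine ⟨by unfold slotOf; omega, ?_⟩
  rw [slotX_eq, e, e2, h2]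
  omega

theorem slotX_facts {s : ℕ} (hs : s < 2816) :
    slotX s < 21504 ∧ 0 < field 8 slotData (slotX s / 128) ∧ slotOf (slotX s) = s := by
  obtain ⟨a, b⟩ := slots_back (s := s / 128) (by omega)
  have e : slotX s / 128 = field 8 slotList (s / 128) := by rw [slotX_eq]; omega
  have e2 : slotX s % 128 = s % 128 := by rw [slotX_eq]; omega
  refine ⟨by rw [slotX_eq]; omega, by rw [e, b]; omega, ?_⟩
  rw [slotOf, e, b, e2]
  omega

theorem entry_of_slot {i x : ℕ} (h : 0 < field 8 slotData (x / 128)) :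
    entry i x = field 19 (clsData i) (slotOf x) := by
  rw [entry, Bool.eq_false_iff.2 fun hb => h.ne' (Nat.eq_of_beq_eq_true hb), cond_false, land127_eq, slotOf]

theorem entry_off {i x : ℕ} (h : field 8 slotData (x / 128) = 0) : entry i x = 0 := by
  rw [entry, h]; rfl

/-- An involution of the table and what its entry says. -/
structure IsClass (i x k h : ℕ) : Prop where
  pos : 0 < x
  sq : mulC i x x = 0
  lt : k < ncls i
  hlt : h < 21504
  conj : mulC i h (rep i k) = mulC i x h

theorem clsOf_pos {i x : ℕ} (hi : i < 6) (hx : x < 21504) (h : clsOf i x ≠ 0) :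
    ∃ g, IsClass i x (clsOf i x - 1) g := by
  rcases Nat.eq_zero_or_pos (field 8 slotData (x / 128)) with h0 | h0
  · exact absurd (by rw [clsOf, entry_off h0]; rfl) h
  obtain ⟨a, b⟩ := slotOf_spec hx h0
  have hc := allFrom_spec (data_ok hi).table (Nat.zero_le _) (by omega : slotOf x < 0 + 2816)
  have he := entry_of_slot (i := i) h0
  have hne : field 19 (clsData i) (slotOf x) ≠ 0 := fun e => h (by rw [clsOf, he, e]; rfl)
  rw [clsOK, Bool.eq_false_iff.2 fun hb => hne (Nat.eq_of_beq_eq_true hb), cond_false, b] at hc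
  simp only [Bool.and_eq_true, Nat.blt_eq, Nat.ble_eq, Nat.beq_eq] at hc
  obtain ⟨c1, c2, c3, c4, c5, c6⟩ := hc
  refine ⟨entry i x / 16, c1, c2, ?_, by rw [he]; exact c5, ?_⟩
  · rw [clsOf, he]; omega
  · rw [clsOf, he]; exact c6

theorem clsOf_ne_zero {i x : ℕ} (hi : i < 6) (hx : x < 21504) (h1 : x ≠ 0) (h2 : mulC i x x = 0) :
    clsOf i x ≠ 0 := by
  have hl : lMul (x / 128) (x / 128) = 0 := by rw [← mulC_div (i := i) hx x, h2]
  obtain ⟨h0, -, -⟩ := (slots_fwd (l := x / 128) (by omega)).1 hl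
  obtain ⟨a, b⟩ := slotOf_spec hx h0
  have hc := allFrom_spec (data_ok hi).table (Nat.zero_le _) (by omega : slotOf x < 0 + 2816)
  intro e
  rw [clsOf, entry_of_slot h0] at e
  rw [clsOK, b] at hc
  by_cases hz : field 19 (clsData i) (slotOf x) = 0
  · rw [hz, show Nat.beq 0 0 = true from rfl, cond_true, h2] at hc
    simp at hc
    exact h1 hc
  · rw [Bool.eq_false_iff.2 fun hb => hz (Nat.eq_of_beq_eq_true hb), cond_false] at hc
    simp only [Bool.and_eq_true, Nat.blt_eq, Nat.ble_eq, Nat.beq_eq] at hc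
    omega

theorem clsOf_lt {i x : ℕ} (hi : i < 6) (hx : x < 21504) : clsOf i x ≤ ncls i := by
  by_cases h : clsOf i x = 0
  · omega
  · obtain ⟨g, hg⟩ := clsOf_pos hi hx h
    have := hg.lt
    omega

/-- The static facts of a candidate. -/
theorem classes_spec {i : ℕ} (hi : i < 6) :
    ktc i < ncls i ∧ ncls i ≤ 8 ∧ rep i (ktc i) = 64 ∧ mulC i 0 0 = 0 ∧
      ∀ k < ncls i, rep i k < 21504 ∧ clsOf i (rep i k) = k + 1 ∧
        countBelow 2816 (fun s => Nat.beq (Nat.land (field 19 (clsData i) s) 15) (k + 1)) = clen i k := by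
  have h := (data_ok hi).classes
  simp only [classesOK, Bool.and_eq_true, Nat.blt_eq, Nat.ble_eq, Nat.beq_eq, allBelow_spec] at h
  exact h

theorem perClass_spec {i k : ℕ} (hi : i < 6) (hk : k < ncls i) (hkt : k ≠ ktc i) :
    stabOK i k = true ∧ keysOK i k = true ∧ histsOK i k = true := by
  have h := allBelow_spec.1 (data_ok hi).perClass k hk
  simpa [perClassOK, hkt] using h

/-- The facts of a listed centraliser. -/
theorem stab_spec {i k : ℕ} (hi : i < 6) (hk : k < ncls i) (hkt : k ≠ ktc i) :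
    clen i k * hsz i k = 21504 ∧
    (∀ j < hsz i k, stabEl i k j < 21504 ∧
      mulC i (stabEl i k j) (rep i k) = mulC i (rep i k) (stabEl i k j)) ∧
    (∀ a b, a < b → b < hsz i k → stabEl i k a < stabEl i k b) ∧
    countBelow (hsz i k) (fun j => Nat.beq (mulC i (stabEl i k j) (stabEl i k j)) (rep i k)) = rootU i k ∧
    countBelow (hsz i k) (fun j => Nat.beq (mulC i (stabEl i k j) (stabEl i k j)) 64) = rootT i k := by
  obtain ⟨hst, -, -⟩ := perClass_spec hi hk hkt
  simp only [stabOK, Bool.and_eq_true, Nat.beq_eq, Nat.blt_eq, Bool.or_eq_true, allBelow_spec,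
    and_assoc] at hst
  obtain ⟨hprod, hel', hu, ht⟩ := hst
  refine ⟨hprod, fun j hj => ⟨(hel' j hj).1, (hel' j hj).2.1⟩, ?_, hu, ht⟩
  intro a b hab hb
  induction b with
  | zero => omega
  | succ b ih =>
    have := (hel' b (by omega)).2.2.resolve_left (by omega)
    rcases Nat.lt_succ_iff_lt_or_eq.1 hab with h | rfl
    · exact lt_trans (ih h (by omega)) this
    · exact this

namespace Coord

variable {G : Type*} [Group G] {t : G} {i : ℕ} (K : Coord t i)

include K

theorem el_zero (hi : i < 6) : K.el 0 = 1 := K.mul_zero_code.1 (classes_spec hi).2.2.2.1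

/-- Involutions of `C(t)` are the elements with a class. -/
theorem sq_iff (hi : i < 6) {x : ℕ} (hx : x < 21504) :
    K.el x ≠ 1 ∧ K.el x * K.el x = 1 ↔ clsOf i x ≠ 0 := by
  constructor
  · rintro ⟨h1, h2⟩
    refine clsOf_ne_zero hi hx (fun e => h1 (by rw [e, K.el_zero hi])) ?_
    rw [← K.el_zero hi, K.mul_eq_iff hx hx (by norm_num)] at h2
    exact h2
  · intro h
    obtain ⟨g, hg⟩ := clsOf_pos hi hx h
    refine ⟨fun e => hg.pos.ne' (K.el_inj x hx 0 (by norm_num) (e.trans (K.el_zero hi).symm)), ?_⟩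
    rw [← K.el_zero hi, K.mul_eq_iff hx hx (by norm_num)]
    exact hg.sq

/-- An involution is conjugate to the representative of its class by an element of `C(t)`. -/
theorem class_conj (hi : i < 6) {x : ℕ} (hx : x < 21504) (h : clsOf i x ≠ 0) :
    ∃ g : G, g * t = t * g ∧ g * K.el (rep i (clsOf i x - 1)) * g⁻¹ = K.el x := by
  obtain ⟨g, hg⟩ := clsOf_pos hi hx h
  have hr := ((classes_spec hi).2.2.2.2 _ hg.lt).1
  refine ⟨K.el g, K.mem g hg.hlt, ?_⟩
  rw [mul_inv_eq_iff_eq_mul, K.el_mul g hg.hlt _ hr, K.el_mul x hx g hg.hlt, hg.conj]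

theorem commute_t {g : G} (hg : g * t = t * g) : ∃ x < 21504, K.el x = g := K.surj g hg

theorem card_cent : Nat.card {g : G // g * t = t * g} = 21504 := by
  refine (card_eq_countBelow K.el 21504 (fun _ => true) _ (fun a ha b hb => K.el_inj a ha b hb)
    (fun a ha => iff_of_true rfl (K.mem a ha)) fun g hg => K.surj g hg).trans ?_
  rw [countBelow_eq, Finset.filter_true_of_mem (fun _ _ => rfl), Finset.card_range]

/-- The listed centraliser of a representative. -/
theorem stab_iff [Finite G] (hi : i < 6) {k : ℕ} (hk : k < ncls i) (hkt : k ≠ ktc i) (g : G) :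
    (g * t = t * g ∧ g * K.el (rep i k) = K.el (rep i k) * g) ↔ ∃ j < hsz i k, K.el (stabEl i k j) = g := by
  classical
  obtain ⟨hprod, hel, mono, -, -⟩ := stab_spec hi hk hkt
  obtain ⟨hr, -, hlen⟩ := (classes_spec hi).2.2.2.2 k hk
  have hback : ∀ j < hsz i k, K.el (stabEl i k j) * t = t * K.el (stabEl i k j) ∧
      K.el (stabEl i k j) * K.el (rep i k) = K.el (rep i k) * K.el (stabEl i k j) := fun j hj =>
    ⟨K.mem _ (hel j hj).1, (K.commute_iff (hel j hj).1 hr).2 (hel j hj).2⟩
  refine ⟨fun hg => ?_, fun ⟨j, hj, e⟩ => e ▸ hback j hj⟩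
  have hinj : Set.InjOn (fun j => K.el (stabEl i k j)) (Finset.range (hsz i k)) := fun a ha b hb e => by
    have ha' := Finset.mem_range.1 ha
    have hb' := Finset.mem_range.1 hb
    have e' := K.el_inj _ (hel a ha').1 _ (hel b hb').1 e
    rcases Nat.lt_trichotomy a b with h | h | h
    · exact absurd e' (mono a b h hb').ne
    · exact h
    · exact absurd e'.symm (mono b a h ha').ne
  let A := {g : G // g * t = t * g ∧ g * K.el (rep i k) = K.el (rep i k) * g}
  have hlenle : clen i k * Nat.card A ≤ 21504 := by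
    have hw : ∀ x : ↥((Finset.range 2816).filter fun s =>
        Nat.beq (Nat.land (field 19 (clsData i) s) 15) (k + 1) = true),
        ∃ h : G, h * t = t * h ∧ h * K.el (rep i k) * h⁻¹ = K.el (slotX x.1) := by
      intro x
      obtain ⟨hs, he⟩ := Finset.mem_filter.1 x.2
      have hs' := Finset.mem_range.1 hs
      obtain ⟨a, b, c⟩ := slotX_facts hs'
      have hcl : clsOf i (slotX x.1) = k + 1 := by
        rw [clsOf, entry_of_slot b, c]; exact Nat.eq_of_beq_eq_true he
      obtain ⟨h, h1, h2⟩ := K.class_conj hi a (by omega)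
      rw [hcl, Nat.add_sub_cancel] at h2
      exact ⟨h, h1, h2⟩
    choose h hh1 hh2 using hw
    let F : _ × A → {g : G // g * t = t * g} := fun p => ⟨h p.1 * p.2.1, by
      rw [mul_assoc, p.2.2.1, ← mul_assoc, hh1, mul_assoc]⟩
    have hF : Function.Injective F := by
      rintro ⟨x, a⟩ ⟨y, b⟩ e
      have e1 : h x * a.1 = h y * b.1 := congrArg Subtype.val e
      have hxy : x = y := by
        apply Subtype.ext
        have hx' := Finset.mem_range.1 (Finset.mem_filter.1 x.2).1
        have hy' := Finset.mem_range.1 (Finset.mem_filter.1 y.2).1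
        have key : K.el (slotX x.1) = K.el (slotX y.1) := by
          rw [← hh2 x, ← hh2 y]
          have fix' : ∀ c : A, c.1 * K.el (rep i k) * c.1⁻¹ = K.el (rep i k) := fun c =>
            mul_inv_eq_iff_eq_mul.2 c.2.2
          calc h x * K.el (rep i k) * (h x)⁻¹ = h x * (a.1 * K.el (rep i k) * a.1⁻¹) * (h x)⁻¹ := by
                rw [fix' a]
            _ = (h x * a.1) * K.el (rep i k) * (h x * a.1)⁻¹ := by group
            _ = (h y * b.1) * K.el (rep i k) * (h y * b.1)⁻¹ := by rw [e1]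
            _ = h y * (b.1 * K.el (rep i k) * b.1⁻¹) * (h y)⁻¹ := by group
            _ = _ := by rw [fix' b]
        rw [← (slotX_facts hx').2.2, ← (slotX_facts hy').2.2,
          K.el_inj _ (slotX_facts hx').1 _ (slotX_facts hy').1 key]
      subst hxy
      exact Prod.ext rfl (Subtype.ext (mul_left_cancel e1))
    have := Nat.card_le_card_of_injective F hF
    rwa [Nat.card_prod, Nat.card_eq_finsetCard, ← countBelow_eq, hlen, K.card_cent] at this
  have hsle : Nat.card A ≤ hsz i k := by
    by_contra hc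
    have hpos : 0 < clen i k := by rcases Nat.eq_zero_or_pos (clen i k) with e | e <;> simp_all
    have := Nat.mul_lt_mul_of_pos_left (not_le.1 hc) hpos
    omega
  let S : Finset G := (Finset.range (hsz i k)).image fun j => K.el (stabEl i k j)
  have hSc : S.card = hsz i k := by rw [Finset.card_image_of_injOn hinj, Finset.card_range]
  have := Fintype.ofFinite G
  have hsub : S ⊆ Finset.univ.filter fun g : G => g * t = t * g ∧ g * K.el (rep i k) = K.el (rep i k) * g := by
    intro x hx
    obtain ⟨j, hj, rfl⟩ := Finset.mem_image.1 hx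
    exact Finset.mem_filter.2 ⟨Finset.mem_univ _, hback j (Finset.mem_range.1 hj)⟩
  have heq := Finset.eq_of_subset_of_card_le hsub (by
    rw [hSc, ← Fintype.card_subtype, ← Nat.card_eq_fintype_card]; exact hsle)
  have : g ∈ S := heq ▸ Finset.mem_filter.2 ⟨Finset.mem_univ _, hg⟩
  obtain ⟨j, hj, e⟩ := Finset.mem_image.1 this
  exact ⟨j, Finset.mem_range.1 hj, e⟩

theorem stabEl_lt (hi : i < 6) {k j : ℕ} (hk : k < ncls i) (hkt : k ≠ ktc i) (hj : j < hsz i k) :
    stabEl i k j < 21504 :=
  ((stab_spec hi hk hkt).2.1 j hj).1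

theorem stabEl_inj (hi : i < 6) {k : ℕ} (hk : k < ncls i) (hkt : k ≠ ktc i) :
    ∀ a < hsz i k, ∀ b < hsz i k, K.el (stabEl i k a) = K.el (stabEl i k b) → a = b := by
  intro a ha b hb e
  obtain ⟨-, hel, mono, -, -⟩ := stab_spec hi hk hkt
  have e' := K.el_inj _ (hel a ha).1 _ (hel b hb).1 e
  rcases Nat.lt_trichotomy a b with h | h | h
  · exact absurd e' (mono a b h hb).ne
  · exact h
  · exact absurd e'.symm (mono b a h ha).ne

/-- Counting in a listed centraliser. -/
theorem card_stab [Finite G] (hi : i < 6) {k : ℕ} (hk : k < ncls i) (hkt : k ≠ ktc i) (P : G → Prop)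
    (f : ℕ → Bool) (hf : ∀ j < hsz i k, (f j = true ↔ P (K.el (stabEl i k j)))) :
    Nat.card {g : G // (g * t = t * g ∧ g * K.el (rep i k) = K.el (rep i k) * g) ∧ P g} =
      countBelow (hsz i k) f :=
  card_eq_countBelow (fun j => K.el (stabEl i k j)) _ f _ (K.stabEl_inj hi hk hkt)
    (fun j hj => ⟨fun h => ⟨(K.stab_iff hi hk hkt _).2 ⟨j, hj, rfl⟩, (hf j hj).1 h⟩,
      fun h => (hf j hj).2 h.2⟩)
    (fun g hg => (K.stab_iff hi hk hkt g).1 hg.1)

end Coord

end CfsgLib.Recog.Held
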