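import Cfsg.Agent.Lib.Recog.SporBound.HeldL5.Valid
import Cfsg.Agent.Lib.Recog.SporBound.HeldL5.TableChecks
import Cfsg.Agent.Lib.Recog.SporBound.HeldM24.Valid
import Cfsg.Agent.Lib.Recog.SporBound.HeldM24.TableChecks

set_option autoImplicit false

/-!
The two coset enumerations of the fusion patterns with `L5(2)` and `M24` (owner: helper11): five involutions
satisfying the relators generate a group of order `465 * 21504`, respectively `1771 * 138240`.
-/

namespace CfsgLib.Recog.Held

open CfsgLib.Recog.SporBound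
open CfsgLib.ThreeTrans.CosetIndex (eqLetter)

/-- The relators of the pattern of `L5(2)` (squares, pair orders, extra words). -/
noncomputable def relsL5 : List (List ℕ) := HeldL5.cert.rels

/-- The relators of the pattern of `M24` (squares, pair orders, extra words). -/
noncomputable def relsM24 : List (List ℕ) := HeldM24.cert.rels

variable {G : Type*} [Group G]

/-- The five involutions extended by ones. -/
def five (a : ℕ → G) (x : ℕ) : G := if x < 5 then a x else 1

theorem five_inv {a : ℕ → G} (inv : ∀ x < 5, a x * a x = 1) (x : ℕ) : five a x * five a x = 1 := by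
  unfold five
  split_ifs with h
  · exact inv x h
  · exact one_mul 1

theorem five_eq (a : ℕ → G) : five a eqLetter = 1 := rfl

theorem five_prod (a : ℕ → G) {w : List ℕ} (hw : ∀ x ∈ w, x < 5) : (w.map (five a)).prod = (w.map a).prod := by
  congr 1
  exact List.map_congr_left fun x hx => if_pos (hw x hx)

theorem five_set (a : ℕ → G) :
    {g | ∃ x ∈ [0, 1, 2, 3, 4], g = five a x} = {g | ∃ x < 5, g = a x} := by
  ext g
  constructor
  · rintro ⟨x, hx, rfl⟩
    have h : x < 5 := by simp only [List.mem_cons, List.not_mem_nil, or_false] at hx; omega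
    exact ⟨x, h, if_pos h⟩
  · rintro ⟨x, hx, rfl⟩
    exact ⟨x, by simp only [List.mem_cons, List.not_mem_nil, or_false]; omega, (if_pos hx).symm⟩

/-- The enumeration over the involution centraliser. -/
theorem enum_l5 (a : ℕ → G) (inv : ∀ x < 5, a x * a x = 1) (hrel : ∀ w ∈ relsL5, (w.map a).prod = 1)
    (C : Subgroup G) (hgen : C = Subgroup.closure {g | ∃ x < 4, g = a x}) (hC : Nat.card C = 21504)
    (hk : 113 ≤ C.relIndex (Subgroup.closure {g | ∃ x < 5, g = a x})) :
    Nat.card (Subgroup.closure {g | ∃ x < 5, g = a x}) = 465 * 21504 := by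
  have hw : ∀ w ∈ HeldL5.cert.rels, ∀ x ∈ w, x < 5 := by decide +kernel
  have hsub : HeldL5.cert.subs = [[0], [1], [2], [3]] := rfl
  have hkl : HeldL5.cert.kl = [0, 1, 2, 3, 4] := rfl
  have h := Enum.card_closure (a := five a) (five_inv inv) (five_eq a) HeldL5.ok HeldL5.table_ok
    HeldL5.invol_ok HeldL5.span_ok HeldL5.stab_ok HeldL5.merge_ok HeldL5.merge_len
    (fun w hw' => (five_prod a (hw w hw')).trans (hrel w hw')) C ?_
  · rw [hkl, five_set] at h
    refine (h ?_ (by omega)).trans ?_
    · rw [hgen]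
      refine Subgroup.closure_mono ?_
      rintro g ⟨x, hx, rfl⟩
      exact ⟨x, by omega, rfl⟩
    · rw [hC]; rfl
  · have hm : ∀ x < 4, five a x ∈ C := fun x hx => by
      rw [hgen, five, if_pos (by omega)]
      exact Subgroup.subset_closure ⟨x, hx, rfl⟩
    rw [hsub]
    simp only [List.mem_cons, List.not_mem_nil, or_false]
    rintro w (rfl | rfl | rfl | rfl) <;> simpa using hm _ (by decide)

/-- The enumeration over the normaliser of the four-group. -/
theorem enum_m24 (a : ℕ → G) (inv : ∀ x < 5, a x * a x = 1) (hrel : ∀ w ∈ relsM24, (w.map a).prod = 1)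
    (N : Subgroup G) (hgen : N = Subgroup.closure {g | ∃ x < 5, x ≠ 2 ∧ g = a x})
    (hN : Nat.card N = 138240) (hn : a 2 ∉ N) :
    Nat.card (Subgroup.closure {g | ∃ x < 5, g = a x}) = 1771 * 138240 := by
  have hw : ∀ w ∈ HeldM24.cert.rels, ∀ x ∈ w, x < 5 := by decide +kernel
  have hsub : HeldM24.cert.subs = [[0], [1], [3], [4]] := rfl
  have hkl : HeldM24.cert.kl = [0, 1, 2, 3, 4] := rfl
  have hsubs : ∀ w ∈ HeldM24.cert.subs, (w.map (five a)).prod ∈ N := by
    have hm : ∀ x < 5, x ≠ 2 → five a x ∈ N := fun x hx h2 => by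
      rw [hgen, five, if_pos hx]
      exact Subgroup.subset_closure ⟨x, hx, h2, rfl⟩
    rw [hsub]
    simp only [List.mem_cons, List.not_mem_nil, or_false]
    rintro w (rfl | rfl | rfl | rfl) <;> simpa using hm _ (by decide) (by decide)
  have h := Enum.card_closure (a := five a) (five_inv inv) (five_eq a) HeldM24.ok HeldM24.table_ok
    HeldM24.invol_ok HeldM24.span_ok HeldM24.stab_ok HeldM24.merge_ok HeldM24.merge_len
    (fun w hw' => (five_prod a (hw w hw')).trans (hrel w hw')) N hsubs
  have hle : N ≤ Subgroup.closure {g | ∃ x < 5, g = a x} := by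
    rw [hgen]
    refine Subgroup.closure_mono ?_
    rintro g ⟨x, hx, -, rfl⟩
    exact ⟨x, hx, rfl⟩
  have hmem : a 2 ∈ Subgroup.closure {g | ∃ x < 5, g = a x} :=
    Subgroup.subset_closure ⟨2, by decide, rfl⟩
  rw [hkl, five_set] at h
  refine (h hle ?_).trans (by rw [hN]; rfl)
  rcases Nat.lt_or_ge 1 (N.relIndex (Subgroup.closure {g | ∃ x < 5, g = a x})) with h1 | h1
  · exact h1
  exfalso
  rcases Nat.le_one_iff_eq_zero_or_eq_one.1 h1 with h0 | h0
  · have hfin : Finite N := Nat.finite_of_card_ne_zero (by omega)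
    obtain ⟨hfinK, -⟩ := Cert.card_le (five_inv inv) (five_eq a) HeldM24.ok N
      (Subgroup.closure {g | ∃ x < 5, g = a x})
      (fun w hw' => (five_prod a (hw w hw')).trans (hrel w hw')) hsubs
      (by rw [hkl, five_set])
    exact Subgroup.index_ne_zero_of_finite (H := N.subgroupOf (Subgroup.closure {g | ∃ x < 5, g = a x})) h0
  · exact hn (Subgroup.relIndex_eq_one.1 h0 hmem)

end CfsgLib.Recog.Held
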