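import Cfsg.Agent.Lib.Recog.SporBound.Sound

set_option autoImplicit false

/-!
The exact order from a closure certificate: the table of the cosets is transitive, and a merge certificate shows
that two equal cosets would leave at most `m` of them (owner: helper11; notes `notes/held/local25`).
-/

namespace CfsgLib.Recog.Held.Enum

open CfsgLib.Recog.SporBound
open CfsgLib.ThreeTrans.CosetIndex (fld flet eqLetter forallFrom forallFrom_elim Good)

/-- Field `j` of item `i`: 32 items of four fields to a leaf. -/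
noncomputable def item (T : Q ℕ) (i j : ℕ) : ℕ :=
  fld (T.get (Nat.shiftRight i 5)) (Nat.add (Nat.mul 4 (Nat.land i 31)) j)

/-- The final chain of coset `c` and letter number `x`. -/
noncomputable def entry (C : Cert) (i : ℕ) : ℕ :=
  (C.finals.get (Nat.shiftRight i 6)).getD (Nat.land i 63) 0

/-- The table. -/
noncomputable def tgt (C : Cert) (c x : ℕ) : ℕ := fld (entry C (Nat.add (Nat.mul c C.kl.length) x)) 0

/-- The final chains read the table. -/
noncomputable def tableOK (C : Cert) : Bool :=
  forallFrom (fun i => C.finalOK i (entry C i)) 0 (C.n * C.kl.length)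

/-- The letters act as involutions on the table. -/
noncomputable def involOK (C : Cert) : Bool :=
  forallFrom (fun i => Nat.beq (tgt C (tgt C (i / C.kl.length) (i % C.kl.length)) (i % C.kl.length))
    (i / C.kl.length)) 0 (C.n * C.kl.length)

/-- A spanning tree of the table: parent, letter, depth. -/
noncomputable def spanOK (C : Cert) (T : Q ℕ) : Bool :=
  forallFrom (fun c => Nat.beq c 0 ||
    (Nat.blt (item T c 0) C.n && Nat.blt (item T c 1) C.kl.length &&
      Nat.blt (item T (item T c 0) 2) (item T c 2) && Nat.beq (tgt C (item T c 0) (item T c 1)) c &&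
      Nat.beq (tgt C c (item T c 1)) (item T c 0))) 0 C.n

/-- Every point other than the base goes to a representative by letters fixing the base. -/
noncomputable def stabOK (C : Cert) (T : Q ℕ) (sl reps : List ℕ) : Bool :=
  forallFrom (fun c => Nat.beq c 0 || reps.any (Nat.beq c) ||
    (Nat.blt (item T c 0) C.n && sl.any (Nat.beq (item T c 1)) && Nat.blt (item T c 1) C.kl.length &&
      Nat.blt (item T (item T c 0) 2) (item T c 2) && Nat.beq (tgt C c (item T c 1)) (item T c 0) &&
      Nat.beq (tgt C 0 (item T c 1)) 0)) 0 C.n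

/-- The pairs forced equal by `0 = r`. -/
noncomputable def edgesOK (C : Cert) (r ne : ℕ) (E : Q ℕ) : Bool :=
  forallFrom (fun i => (Nat.beq (item E i 0) 0 && Nat.beq (item E i 1) r) ||
    (Nat.blt (item E i 2) i && Nat.blt (item E i 3) C.kl.length && Nat.blt (item E (item E i 2) 0) C.n &&
      Nat.blt (item E (item E i 2) 1) C.n &&
      Nat.beq (tgt C (item E (item E i 2) 0) (item E i 3)) (item E i 0) &&
      Nat.beq (tgt C (item E (item E i 2) 1) (item E i 3)) (item E i 1))) 0 ne

/-- The forest of the pairs. -/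
noncomputable def nodesOK (C : Cert) (ne : ℕ) (E N : Q ℕ) (roots : List ℕ) : Bool :=
  forallFrom (fun c => roots.any (Nat.beq c) ||
    (Nat.blt 0 (item N c 0) && Nat.ble (item N c 0) ne && Nat.blt (item N c 1) C.n &&
      Nat.blt (item N (item N c 1) 2) (item N c 2) &&
      ((Nat.beq (item E (item N c 0 - 1) 0) c && Nat.beq (item E (item N c 0 - 1) 1) (item N c 1)) ||
       (Nat.beq (item E (item N c 0 - 1) 1) c && Nat.beq (item E (item N c 0 - 1) 0) (item N c 1))))) 0 C.n

/-- A merge certificate. -/
noncomputable def mergeOK (C : Cert) (m : ℕ) (M : ℕ × ℕ × Q ℕ × Q ℕ) (roots : List ℕ) : Bool :=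
  Nat.blt M.1 C.n && edgesOK C M.1 M.2.1 M.2.2.1 && nodesOK C M.2.1 M.2.2.1 M.2.2.2 roots &&
    Nat.ble roots.length m

variable {G : Type*} [Group G] {a : ℕ → G} {C : Cert}

theorem table (hinv : ∀ x, a x * a x = 1) (he : a eqLetter = 1) (hC : C.OK) (hT : tableOK C = true)
    {H : Subgroup G} {v : ℕ → G ⧸ H} (good : ∀ i < C.nf, Good a v (C.fact i)) {c j : ℕ} (hc : c < C.n)
    (hj : j < C.kl.length) :
    tgt C c j < C.n ∧ a (C.kl.getD j 0) • v (C.nodeOf c) = v (C.nodeOf (tgt C c j)) := by
  have hlt : c * C.kl.length + j < C.n * C.kl.length := by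
    have := Nat.mul_le_mul_right C.kl.length hc
    rw [Nat.succ_mul] at this
    omega
  have h := forallFrom_elim hT (i := c * C.kl.length + j) (Nat.zero_le _) (by omega)
  have e1 : (c * C.kl.length + j) / C.kl.length = c := by
    rw [Nat.mul_comm, Nat.mul_add_div (by omega), Nat.div_eq_of_lt hj, Nat.add_zero]
  have e2 : (c * C.kl.length + j) % C.kl.length = j := by
    rw [Nat.mul_comm, Nat.mul_add_mod, Nat.mod_eq_of_lt hj]
  rw [Cert.finalOK, e1, e2] at h
  unfold Cert.endsAt at h
  show fld (entry C (c * C.kl.length + j)) 0 < C.n ∧ _ = v (C.nodeOf (fld (entry C (c * C.kl.length + j)) 0))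
  cases hw : C.walk C.nf (entry C (c * C.kl.length + j)) 2 (fld (entry C (c * C.kl.length + j)) 1)
      (C.nodeOf c, [C.kl.getD j 0]) with
  | none => rw [hw] at h; simp at h
  | some r =>
    rw [hw] at h
    simp only [Bool.and_eq_true, Nat.beq_eq, List.isEmpty_iff] at h
    obtain ⟨u, hu, hu'⟩ := Cert.walk_sound hinv he good hw
    rw [h.2.2, List.append_nil] at hu
    dsimp only at hu hu'
    rw [← hu] at hu'
    simp only [CfsgLib.ThreeTrans.CosetIndex.actW] at hu'
    exact ⟨by simpa using h.1, by rw [hu', h.2.1]⟩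

/-- The exact order. -/
theorem card_closure (hinv : ∀ x, a x * a x = 1) (he : a eqLetter = 1) (hC : C.OK) (hT : tableOK C = true)
    {span stab : Q ℕ} {sl : List ℕ} {merges : List (ℕ × ℕ × Q ℕ × Q ℕ)} {roots : List (List ℕ)} {m : ℕ}
    (hI : involOK C = true) (hspan : spanOK C span = true) (hstab : stabOK C stab sl (merges.map Prod.fst) = true)
    (hmerge : (List.zip merges roots).all (fun p => mergeOK C m p.1 p.2) = true)
    (hlen : merges.length ≤ roots.length)
    (hrel : ∀ w ∈ C.rels, (w.map a).prod = 1) (M : Subgroup G)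
    (hsub : ∀ w ∈ C.subs, (w.map a).prod ∈ M)
    (hMK : M ≤ Subgroup.closure {g | ∃ x ∈ C.kl, g = a x})
    (hm : m < M.relIndex (Subgroup.closure {g | ∃ x ∈ C.kl, g = a x})) :
    Nat.card (Subgroup.closure {g | ∃ x ∈ C.kl, g = a x}) = C.n * Nat.card M := by
  classical
  set K := Subgroup.closure {g | ∃ x ∈ C.kl, g = a x} with hK
  obtain ⟨v, hv0, good, horb⟩ := Cert.exists_orbit hinv he hC M hrel hsub
  have hbase : 0 < C.n ∧ C.nodeOf 0 = 0 ∧ C.nd ≤ C.nf := by simpa [and_assoc] using hC.base
  set f : ℕ → G ⧸ M := fun c => v (C.nodeOf c) with hf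
  have hf0 : f 0 = ((1 : G) : G ⧸ M) := by rw [hf]; show v (C.nodeOf 0) = _; rw [hbase.2.1, hv0]
  have tab : ∀ {c j : ℕ}, c < C.n → j < C.kl.length →
      tgt C c j < C.n ∧ a (C.kl.getD j 0) • f c = f (tgt C c j) := fun hc hj => table hinv he hC hT good hc hj
  have hmemK : ∀ {j : ℕ}, j < C.kl.length → a (C.kl.getD j 0) ∈ K := fun {j} hj =>
    Subgroup.subset_closure ⟨_, by rw [List.getD_eq_getElem _ _ hj]; exact List.getElem_mem hj, rfl⟩
  have hinvo : ∀ c < C.n, ∀ j, j < C.kl.length → tgt C (tgt C c j) j = c := fun c hc j hj => by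
    have hlt : c * C.kl.length + j < C.n * C.kl.length := by
      have := Nat.mul_le_mul_right C.kl.length hc
      rw [Nat.succ_mul] at this
      omega
    have h := forallFrom_elim hI (i := c * C.kl.length + j) (Nat.zero_le _) (by omega)
    simp only [Nat.beq_eq] at h
    rwa [Nat.mul_comm c, Nat.mul_add_div (by omega), Nat.div_eq_of_lt hj, Nat.add_zero, Nat.mul_add_mod,
      Nat.mod_eq_of_lt hj] at h
  -- the map from the cosets of `M` in `K`
  set Mk : Subgroup K := M.subgroupOf K
  have hkey : ∀ k k' : K, ((k : K) : K ⧸ Mk) = (k' : K ⧸ Mk) ↔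
      ((k : G) : G ⧸ M) = ((k' : G) : G ⧸ M) := fun k k' => by
    rw [QuotientGroup.eq, QuotientGroup.eq, Subgroup.mem_subgroupOf]; simp
  choose cc hcc hccv using fun k : K => horb k.1 k.2
  have hcc' : ∀ k : K, f (cc k) = ((k : G) : G ⧸ M) := fun k => by
    rw [hf]
    show v (C.nodeOf (cc k)) = _
    rw [← hccv k, hv0, MulAction.Quotient.smul_coe, smul_eq_mul, mul_one]
  -- every coset of the table is met
  have hreach : ∀ d, ∀ c < C.n, item span c 2 = d → ∃ k : K, f c = ((k : G) : G ⧸ M) := by
    intro d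
    induction d using Nat.strong_induction_on with
    | _ d ih =>
      intro c hc hd
      by_cases h0 : c = 0
      · exact ⟨1, by rw [h0, hf0]; rfl⟩
      have h := forallFrom_elim hspan (i := c) (Nat.zero_le _) (by omega)
      simp only [Bool.or_eq_true, Bool.and_eq_true, Nat.beq_eq, Nat.blt_eq, h0, false_or] at h
      obtain ⟨k, hk⟩ := ih _ (hd ▸ h.1.1.2) _ h.1.1.1.1 rfl
      refine ⟨⟨_, hmemK h.1.1.1.2⟩ * k, ?_⟩
      have e := (tab h.1.1.1.1 h.1.1.1.2).2
      rw [h.1.2, hk] at e
      rw [← e]
      rfl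
  have hindex : Mk.index = M.relIndex K := rfl
  -- the table is faithful
  have hzero : ∀ c < C.n, c ≠ 0 → f c ≠ f 0 := by
    have hrep : ∀ r ∈ merges.map Prod.fst, f r ≠ f 0 := by
      intro r hr e
      obtain ⟨M', hM', rfl⟩ := List.mem_map.1 hr
      obtain ⟨i, hi, rfl⟩ := List.getElem_of_mem hM'
      have hz : (merges[i], roots[i]'(by omega)) ∈ List.zip merges roots := by
        rw [List.mem_iff_getElem]
        exact ⟨i, by rw [List.length_zip]; omega, List.getElem_zip⟩
      have hok := List.all_eq_true.1 hmerge _ hz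
      set M' := merges[i]
      set rt := roots[i]'(by omega)
      simp only [mergeOK, Bool.and_eq_true, Nat.blt_eq, Nat.ble_eq] at hok
      obtain ⟨⟨⟨hr, hE⟩, hN⟩, hcard⟩ := hok
      have hedge : ∀ j < M'.2.1, f (item M'.2.2.1 j 0) = f (item M'.2.2.1 j 1) := by
        intro j
        induction j using Nat.strong_induction_on with
        | _ j ih =>
          intro hj
          have h := forallFrom_elim hE (i := j) (Nat.zero_le _) (by omega)
          simp only [Bool.or_eq_true, Bool.and_eq_true, Nat.beq_eq, Nat.blt_eq] at h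
          rcases h with ⟨h1, h2⟩ | ⟨⟨⟨⟨⟨h1, h2⟩, h3⟩, h4⟩, h5⟩, h6⟩
          · rw [h1, h2, e]
          · have e1 := (tab h3 h2).2
            have e2 := (tab h4 h2).2
            rw [h5] at e1
            rw [h6] at e2
            rw [← e1, ← e2, ih _ h1 (by omega)]
      have hroot : ∀ d, ∀ c < C.n, item M'.2.2.2 c 2 = d → ∃ s ∈ rt, f c = f s := by
        intro d
        induction d using Nat.strong_induction_on with
        | _ d ih =>
          intro c hc hd
          have h := forallFrom_elim hN (i := c) (Nat.zero_le _) (by omega)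
          simp only [Bool.or_eq_true, Bool.and_eq_true, Nat.beq_eq, Nat.blt_eq, Nat.ble_eq,
            List.any_eq_true] at h
          rcases h with ⟨s, hs, e'⟩ | ⟨⟨⟨⟨h1, h2⟩, h3⟩, h4⟩, h5⟩
          · exact ⟨s, hs, by rw [e']⟩
          · obtain ⟨s, hs, e'⟩ := ih _ (hd ▸ h4) _ h3 rfl
            refine ⟨s, hs, ?_⟩
            rw [← e']
            rcases h5 with ⟨e1, e2⟩ | ⟨e1, e2⟩
            · have := hedge (item M'.2.2.2 c 0 - 1) (by omega)
              rwa [e1, e2] at this
            · have := hedge (item M'.2.2.2 c 0 - 1) (by omega)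
              rwa [e1, e2, eq_comm] at this
      choose s hs hfs using fun k : K => hroot _ _ (hcc k) rfl
      have hle : Mk.index ≤ rt.length := by
        let F : K ⧸ Mk → Fin rt.length := fun q =>
          ⟨rt.idxOf (s q.out), List.idxOf_lt_length_iff.2 (hs _)⟩
        have hF : Function.Injective F := by
          intro q q' hqq
          have e1 : s q.out = s q'.out := (List.idxOf_inj (hs _)).1 (congrArg Fin.val hqq)
          have e2 : ((q.out : K) : K ⧸ Mk) = (q'.out : K) := (hkey _ _).2 (by
            rw [← hcc', ← hcc', hfs, hfs, e1])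
          rwa [QuotientGroup.out_eq', QuotientGroup.out_eq'] at e2
        simpa [Subgroup.index] using Nat.card_le_card_of_injective F hF
      omega
    have hprop : ∀ d, ∀ c < C.n, c ≠ 0 → item stab c 2 = d → f c ≠ f 0 := by
      intro d
      induction d using Nat.strong_induction_on with
      | _ d ih =>
        intro c hc h0 hd e
        have h := forallFrom_elim hstab (i := c) (Nat.zero_le _) (by omega)
        simp only [Bool.or_eq_true, Bool.and_eq_true, Nat.beq_eq, Nat.blt_eq, h0, false_or,
          List.any_eq_true] at h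
        rcases h with ⟨r, hr, rfl⟩ | ⟨⟨⟨⟨⟨h1, -⟩, h3⟩, h4⟩, h5⟩, h6⟩
        · exact hrep c hr e
        · have e1 := (tab hc h3).2
          rw [h5, e, (tab hbase.1 h3).2, h6] at e1
          by_cases h7 : item stab c 0 = 0
          · refine h0 ?_
            rw [h7] at h5
            exact (hinvo c hc _ h3).symm.trans (by rw [h5, h6])
          · exact ih _ (hd ▸ h4) _ h1 h7 rfl e1.symm
    exact fun c hc h0 => hprop _ c hc h0 rfl
  have hinj : ∀ d, ∀ c < C.n, item span c 2 = d → ∀ c' < C.n, f c = f c' → c = c' := by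
    intro d
    induction d using Nat.strong_induction_on with
    | _ d ih =>
      intro c hc hd c' hc' e
      by_cases h0 : c = 0
      · subst h0
        by_contra hne
        exact hzero c' hc' (Ne.symm hne) e.symm
      have h := forallFrom_elim hspan (i := c) (Nat.zero_le _) (by omega)
      simp only [Bool.or_eq_true, Bool.and_eq_true, Nat.beq_eq, Nat.blt_eq, h0, false_or] at h
      have e1 := (tab hc h.1.1.1.2).2
      rw [h.2, e, (tab hc' h.1.1.1.2).2] at e1
      have e2 := ih _ (hd ▸ h.1.1.2) _ h.1.1.1.1 rfl _ (tab hc' h.1.1.1.2).1 e1.symm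
      rw [← hinvo c' hc' _ h.1.1.1.2, ← e2, h.1.2]
  choose kk hkk using fun c : Fin C.n => hreach _ c.1 c.2 rfl
  have hbij : Function.Bijective (fun c : Fin C.n => ((kk c : K) : K ⧸ Mk)) := by
    refine ⟨fun c c' e => Fin.ext (hinj _ _ c.2 rfl _ c'.2 ?_), fun q => ?_⟩
    · rw [hkk, hkk]; exact (hkey _ _).1 e
    · refine ⟨⟨cc q.out, hcc _⟩, ?_⟩
      show ((kk _ : K) : K ⧸ Mk) = q
      conv_rhs => rw [← QuotientGroup.out_eq' q]
      rw [hkey, ← hkk, hcc']
  have hn : Mk.index = C.n := by
    rw [Subgroup.index, ← Nat.card_eq_of_bijective _ hbij, Nat.card_eq_fintype_card, Fintype.card_fin]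
  rw [← Nat.card_congr (Subgroup.subgroupOfEquivOfLe hMK).toEquiv, ← hn, Mk.index_mul_card]

end CfsgLib.Recog.Held.Enum
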