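import Cfsg.Agent.Lib.Recog.Held.FrameTable

set_option autoImplicit false

/-!
Coordinates on an involution centraliser `2^{1+6}.L3(2)`.
-/

namespace CfsgLib.Recog.Held

open Subgroup
open scoped MatrixGroups

/-- The centraliser of `t` has the multiplication table of one of the six candidates. -/
theorem exists_coord {G : Type*} [Group G] [Finite G] (t : G) (ht : orderOf t = 2)
    (Q : Subgroup (centralizer ({t} : Set G))) [Q.Normal] (hQ : Cfsg.IsExtraspecial 2 Q)
    (hcard : Nat.card Q = 2 ^ 7)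
    (h2c : centralizer (Q : Set (centralizer ({t} : Set G))) ≤ Q)
    (e : (centralizer ({t} : Set G)) ⧸ Q ≃* SL(3, ZMod 2)) :
    ∃ i < 6, Nonempty (Coord t i) := by
  obtain ⟨S, ⟨h⟩⟩ := Frame.nonempty_setting t ht Q hQ hcard h2c e
  obtain ⟨X, ty, rv, a, c, hX, hXS, L, hcase⟩ := h.exists_letters
  rcases hcase with ⟨i, hi, rfl, hv⟩ | ⟨j, hj, rfl, hv⟩
  · exact ⟨i, hi, Frame.exists_coord_of_letters hX h hXS hi L hv⟩
  · exact (Frame.no_fail hX hj L hv).elim

end CfsgLib.Recog.Held
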