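import Cfsg.Agent.Lib.Recog.Held.Defs
import Cfsg.Agent.Lib.Recog.Held.FrameData
import Mathlib.Data.List.Basic

set_option autoImplicit false

/-!
Kernel checks for the coordinates of a candidate.
-/

namespace CfsgLib.Recog.Held.Frame

/-- The four relator words. -/
def relW : ℕ → List ℕ
  | 0 => [0, 0]
  | 1 => [1, 1, 1, 1, 1, 1, 1]
  | 2 => [0, 1, 0, 1, 0, 1]
  | _ => [0, 1, 0, 1, 1, 1, 1, 1, 1, 0, 1, 0, 1, 1, 1, 1, 1, 1,
          0, 1, 0, 1, 1, 1, 1, 1, 1, 0, 1, 0, 1, 1, 1, 1, 1, 1]

/-- The tree word of an element of the quotient. -/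
noncomputable def wordL (l : ℕ) : List ℕ := (List.range (wordLen l)).map (wordBit l)

/-- End of a walk. -/
noncomputable def endW : List ℕ → ℕ → ℕ
  | [], l => l
  | s :: w, l => endW w (nextL l s)

/-- The accumulated cocycle along a walk. -/
noncomputable def accW (d : ℕ → ℕ) : List ℕ → ℕ → ℕ → ℕ
  | [], _, p => p
  | s :: w, l, p => accW d w (nextL l s) (qMul p (d (2 * l + s)))

/-- All edges of a walk are known. -/
noncomputable def known (mask : ℕ) : List ℕ → ℕ → Bool
  | [], _ => true
  | s :: w, l => Nat.beq (field 1 mask (2 * l + s)) 1 && (Nat.ble (s + 1) 2 && known mask w (nextL l s))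

/-- Conjugation by a tree word, by type. -/
noncomputable def conjT (ty l q : ℕ) : ℕ := applyAut (field 42 (actData ty) l) q

/-- One deduction. -/
noncomputable def stepOK (ty : ℕ) (d rv : ℕ → ℕ) (mask r k l : ℕ) : Bool :=
  let w := relW r
  let pre := w.take k
  let s := w.getD k 0
  let post := w.drop (k + 1)
  let l1 := endW pre l
  let l2 := nextL l1 s
  known mask pre l && (known mask post l2 && (Nat.ble (k + 1) w.length && (Nat.ble (l + 1) 168 &&
    (Nat.beq (endW post l2) l &&
      Nat.beq (accW d post l2 (qMul (accW d pre l 0) (d (2 * l1 + s)))) (conjT ty l (rv r))))))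

/-- The edge derived by a step. -/
noncomputable def stepEdge (r k l : ℕ) : ℕ :=
  2 * endW ((relW r).take k) l + (relW r).getD k 0

/-- A list of deductions; the result is the final mask, `0` on failure. -/
noncomputable def run (ty : ℕ) (d rv : ℕ → ℕ) : List ℕ → ℕ → ℕ
  | [], mask => mask
  | z :: zs, mask =>
    cond (stepOK ty d rv mask (z % 4) (z / 4 % 64) (z / 256))
      (run ty d rv zs (Nat.lor mask (2 ^ stepEdge (z % 4) (z / 4 % 64) (z / 256)))) 0

/-- The steps packed in a number. -/
noncomputable def steps (data n : ℕ) : List ℕ := (List.range n).map (field 16 data)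

/-- The edge values of a candidate. -/
noncomputable def candD (i n : ℕ) : ℕ := field 7 (deltaData i) n

/-- The edge values of a failing pair. -/
noncomputable def failD (j n : ℕ) : ℕ := field 7 (badData j) n

/-- The relator values of a failing pair. -/
noncomputable def failV (j r : ℕ) : ℕ := field 7 badRel (4 * j + r)

/-- A tree edge. -/
noncomputable def treeOK (d : ℕ → ℕ) (n : ℕ) : Bool :=
  !(Nat.beq (field 1 treeMask n) 1) ||
    (Nat.beq (d n) 0 && (wordL (nextL (n / 2) (n % 2)) == wordL (n / 2) ++ [n % 2]))

/-- All checks for a surviving pair. -/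
noncomputable def goodOK (i : ℕ) : Bool :=
  (List.range 336).all (treeOK (candD i)) &&
    Nat.beq (run (i / 2) (candD i) (relVal i) (steps goodSteps 169) treeMask) (2 ^ 336 - 1)

/-- All checks for a failing pair. -/
noncomputable def failOK (j : ℕ) : Bool :=
  let mask := run (j / 2) (failD j) (failV j) (steps badSteps 131) treeMask
  (List.range 336).all (treeOK (failD j)) &&
    (known mask (relW 2) 114 && (Nat.beq (endW (relW 2) 114) 114 &&
      !(Nat.beq (accW (failD j) (relW 2) 114 0) (conjT (j / 2) 114 (failV j 2)))))

/-- The composite of two packed automorphisms on the six generators. -/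
noncomputable def compOK (f g h : ℕ) : Bool :=
  (List.range 6).all fun j => Nat.beq (field 7 h j) (applyAut f (field 7 g j))

/-- The tree actions are compatible with the letters. -/
noncomputable def actOK (ty : ℕ) : Bool :=
  Nat.beq (field 42 (actData ty) 0) (1 + 2 * 2 ^ 7 + 4 * 2 ^ 14 + 8 * 2 ^ 21 + 16 * 2 ^ 28 + 32 * 2 ^ 35) &&
    (List.range 336).all fun n => !(Nat.beq (field 1 treeMask n) 1) ||
      compOK (field 42 (actData ty) (n / 2)) (field 42 genData (2 * ty + n % 2))
        (field 42 (actData ty) (nextL (n / 2) (n % 2)))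

/-- The mask selecting six residues modulo `t`. -/
def lowMask : ℕ := 63 + 63 * 2 ^ 7 + 63 * 2 ^ 14 + 63 * 2 ^ 21 + 63 * 2 ^ 28 + 63 * 2 ^ 35

/-- The actions modulo `t` are different. -/
noncomputable def distinctOK (ty : ℕ) : Bool :=
  (List.range 168).all fun l =>
    (List.range l).all fun m =>
      !(Nat.beq (Nat.land (field 42 (actData ty) l) lowMask) (Nat.land (field 42 (actData ty) m) lowMask))

theorem good_checks : (List.range 6).all goodOK = true := by decide +kernel

theorem fail_checks : (List.range 6).all failOK = true := by decide +kernel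

theorem act_checks : (List.range 3).all actOK = true := by decide +kernel

theorem distinct_checks : (List.range 3).all distinctOK = true := by decide +kernel

end CfsgLib.Recog.Held.Frame
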