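import Cfsg.Agent.Lib.Recog.Held.FrameSeven

set_option autoImplicit false

/-!
The two lifted generators act on `2^{1+6}` as in one of the tabulated pairs.
-/

namespace CfsgLib.Recog.Held.Frame

open Subgroup
open scoped MatrixGroups

/-- The partial products of an automorphism on a code. -/
noncomputable def autAcc (A q : ℕ) : ℕ → ℕ
  | 0 => 0
  | j + 1 => cond (Nat.beq (field 1 q j) 1) (qMul (autAcc A q j) (field 7 A j)) (autAcc A q j)

theorem applyAut_eq (A q : ℕ) : applyAut A q = Nat.xor (Nat.land q 64) (autAcc A q 6) := rfl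

theorem field7_lt (A j : ℕ) : field 7 A j < 128 := by
  rw [field_eq]; exact Nat.mod_lt _ (by norm_num)

theorem field1_eq (q j : ℕ) : field 1 q j = q / 2 ^ j % 2 := by rw [field_eq, one_mul]; rfl

theorem autAcc_lt (A q : ℕ) : ∀ n, autAcc A q n < 128
  | 0 => by norm_num [autAcc]
  | n + 1 => by
    have h := autAcc_lt A q n
    show cond _ _ _ < 128
    cases Nat.beq (field 1 q n) 1
    · exact h
    · exact qMul_lt h (field7_lt _ _)

theorem xor_land_table : ∀ p : Fin 128, ∀ a : Fin 128,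
    Nat.xor (Nat.land (p : ℕ) 64) a = qMul a (Nat.land (p : ℕ) 64) ∧
      Nat.land (p : ℕ) 64 = 64 * (p / 64 % 2) ∧ qMul a (Nat.land (p : ℕ) 64) % 64 = a % 64 := by
  decide +kernel

theorem applyAut_lt (A : ℕ) {q : ℕ} (hq : q < 128) : applyAut A q < 128 := by
  rw [applyAut_eq]
  obtain ⟨e, e2, -⟩ := xor_land_table ⟨q, hq⟩ ⟨_, autAcc_lt A q 6⟩
  simp only [Fin.val_mk] at e e2
  rw [e]
  exact qMul_lt (autAcc_lt _ _ _) (by omega)

/-- The six basic codes agree modulo `64`. -/
def LowEq (A B : ℕ) : Prop := ∀ j < 6, field 7 A j % 64 = field 7 B j % 64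

theorem qMul_low {p q p' q' : ℕ} (hp : p < 128) (hq : q < 128) (hp' : p' < 128) (hq' : q' < 128)
    (e : p % 64 = p' % 64) (e' : q % 64 = q' % 64) : qMul p q % 64 = qMul p' q' % 64 := by
  obtain ⟨a1, a2, -, -⟩ := qMul_spec hp hq
  obtain ⟨b1, b2, -, -⟩ := qMul_spec hp' hq'
  have f1 : p % 8 = p' % 8 := by omega
  have f2 : q % 8 = q' % 8 := by omega
  have g1 : p / 8 % 8 = p' / 8 % 8 := by omega
  have g2 : q / 8 % 8 = q' / 8 % 8 := by omega
  rw [f1, f2, ← b1] at a1
  rw [g1, g2, ← b2] at a2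
  omega

theorem applyAut_low {A B p q : ℕ} (h : LowEq A B) (hp : p < 128) (hq : q < 128) (e : p % 64 = q % 64) :
    applyAut A p % 64 = applyAut B q % 64 := by
  have hacc : ∀ n ≤ 6, autAcc A p n % 64 = autAcc B q n % 64 := by
    intro n hn
    induction n with
    | zero => rfl
    | succ k ih =>
      have hb : field 1 p k = field 1 q k := by
        rw [field1_eq, field1_eq]
        have hk : k = 0 ∨ k = 1 ∨ k = 2 ∨ k = 3 ∨ k = 4 ∨ k = 5 := by omega
        rcases hk with rfl | rfl | rfl | rfl | rfl | rfl <;> norm_num <;> omega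
      show cond _ _ _ % 64 = cond _ _ _ % 64
      rw [hb]
      cases Nat.beq (field 1 q k) 1
      · exact ih (by omega)
      · exact qMul_low (autAcc_lt _ _ _) (field7_lt _ _) (autAcc_lt _ _ _) (field7_lt _ _) (ih (by omega))
          (h k (by omega))
  rw [applyAut_eq, applyAut_eq]
  obtain ⟨e1, -, l1⟩ := xor_land_table ⟨p, hp⟩ ⟨_, autAcc_lt A p 6⟩
  obtain ⟨e2, -, l2⟩ := xor_land_table ⟨q, hq⟩ ⟨_, autAcc_lt B q 6⟩
  simp only [Fin.val_mk] at e1 e2 l1 l2
  rw [e1, e2, l1, l2]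
  exact hacc 6 le_rfl

theorem evalF_lt (fa fc : ℕ) : ∀ (w : List ℕ) {q : ℕ}, q < 128 → evalF fa fc w q < 128
  | [], _, hq => hq
  | _ :: w, _, hq => applyAut_lt _ (evalF_lt fa fc w hq)

theorem evalF_low {fa fb fc : ℕ} (h : LowEq fa fb) : ∀ (w : List ℕ) {p q : ℕ}, p < 128 → q < 128 →
    p % 64 = q % 64 → evalF fa fc w p % 64 = evalF fb fc w q % 64
  | [], _, _, _, _, e => e
  | s :: w, p, q, hp, hq, e => by
    show applyAut _ _ % 64 = applyAut _ _ % 64
    refine applyAut_low ?_ (evalF_lt _ _ w hp) (evalF_lt _ _ w hq) (evalF_low h w hp hq e)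
    cases Nat.beq s 0
    · exact fun _ _ => rfl
    · exact h

theorem pack_field (v : ℕ → ℕ) (hv : ∀ j < 6, v j < 128) :
    ∀ j < 6, field 7 (pack ((List.range 6).map v)) j = v j := by
  intro j hj
  have e : pack ((List.range 6).map v) =
      v 0 + 128 * (v 1 + 128 * (v 2 + 128 * (v 3 + 128 * (v 4 + 128 * (v 5 + 128 * 0))))) := rfl
  rw [e, field_eq]
  have := hv 0 (by norm_num); have := hv 1 (by norm_num); have := hv 2 (by norm_num)
  have := hv 3 (by norm_num); have := hv 4 (by norm_num); have := hv 5 (by norm_num)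
  interval_cases j <;> norm_num <;> omega

theorem getD_map_range (f : ℕ → ℕ) {j n : ℕ} (h : j < n) : ((List.range n).map f).getD j 0 = f j := by
  rw [List.getD_eq_getElem?_getD, List.getElem?_map, List.getElem?_range h]; rfl

theorem cb_table : ∀ p : Fin 128, ∀ r : Fin 128,
    qMul p r = qMul (qMul r p) (64 * cb p r) ∧ cb p r < 2 ∧
      cb p r = cb ((p : ℕ) % 64) ((r : ℕ) % 64) := by
  decide +kernel

theorem sb_table : ∀ p : Fin 128, qMul p p = 64 * sb p ∧ sb p = sb ((p : ℕ) % 64) := by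
  decide +kernel

theorem flip_table : ∀ e : Fin 64, ∃ r : Fin 64, ∀ j : Fin 6, cb r (2 ^ (j : ℕ)) = (e : ℕ) / 2 ^ (j : ℕ) % 2 := by
  decide +kernel

theorem srch_spec (v : ℕ → ℕ) (hv : ∀ m < 6, v m < 64)
    (hg : ∀ m < 6, guard ((List.range m).map v) (v m) = true) :
    ∀ n k : ℕ, k + n = 6 → srch n ((List.range k).map v) = true → leaf ((List.range 6).map v) = true
  | 0, k, e, h => by
    obtain rfl : k = 6 := by omega
    exact h
  | n + 1, k, e, h => by
    refine srch_spec v hv hg n (k + 1) (by omega) ?_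
    have h' : ((List.range 64).all fun w =>
        !(guard ((List.range k).map v) w) || srch n ((List.range k).map v ++ [w])) = true := h
    rw [List.all_eq_true] at h'
    have := h' (v k) (List.mem_range.2 (hv k (by omega)))
    rw [hg k (by omega)] at this
    rw [List.range_succ, List.map_append]
    simpa using this

variable {G : Type*} [Group G]

/-- The element of a word in two letters. -/
def wd (a c : G) : List ℕ → G
  | [] => 1
  | s :: w => (if s = 0 then a else c) * wd a c w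

namespace QGens

variable {t : G} {X : ℕ → G} (hQ : QGens t X)
include hQ

theorem qel_cb {p r : ℕ} (hp : p < 128) (hr : r < 128) :
    qel t X p * qel t X r = qel t X r * qel t X p * t ^ cb p r := by
  obtain ⟨e, l, -⟩ := cb_table ⟨p, hp⟩ ⟨r, hr⟩
  simp only [Fin.val_mk] at e l
  rw [hQ.qel_mul hp hr, e, ← hQ.qel_mul (qMul_lt hr hp) (by omega), ← hQ.qel_mul hr hp]
  rcases (show cb p r = 0 ∨ cb p r = 1 by omega) with z | z <;> rw [z]
  · rw [Nat.mul_zero, hQ.qel_zero, pow_zero]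
  · rw [Nat.mul_one, hQ.qel_t, pow_one]

theorem qel_comm_iff {p r : ℕ} (hp : p < 128) (hr : r < 128) :
    qel t X p * qel t X r = qel t X r * qel t X p ↔ cb p r = 0 := by
  rw [hQ.qel_cb hp hr, mul_eq_left]
  obtain ⟨-, l, -⟩ := cb_table ⟨p, hp⟩ ⟨r, hr⟩
  simp only [Fin.val_mk] at l
  rcases (show cb p r = 0 ∨ cb p r = 1 by omega) with z | z <;> simp [z, hQ.t1]

theorem qel_mul_t {p : ℕ} (hp : p < 128) : qel t X p * t = qel t X (qMul p 64) := by
  rw [← hQ.qel_mul hp (by norm_num), hQ.qel_t]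

theorem qel_mod {p : ℕ} (hp : p < 128) : qel t X p = qel t X (p % 64) * t ^ (p / 64) := by
  rcases (show p / 64 = 0 ∨ p / 64 = 1 by omega) with z | z <;> rw [z]
  · rw [pow_zero, mul_one, Nat.mod_eq_of_lt (by omega)]
  · have e : ∀ q < 128, q / 64 = 1 → q = qMul (q % 64) 64 := by decide +kernel
    conv_lhs => rw [e p hp z]
    rw [← hQ.qel_mul (by omega) (by norm_num), hQ.qel_t, pow_one]

/-- Conjugation is computed by the packed images. -/
theorem conj_qel {g : G} (hg : Commute g t) {A : ℕ}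
    (hA : ∀ j < 6, g * X j * g⁻¹ = qel t X (field 7 A j)) {q : ℕ} (hq : q < 128) :
    g * qel t X q * g⁻¹ = qel t X (applyAut A q) := by
  have step : ∀ n < 6, qel t X (autAcc A q (n + 1)) = qel t X (autAcc A q n) * (g * X n * g⁻¹) ^ (q / 2 ^ n % 2) := by
    intro n hn
    show qel t X (cond _ _ _) = _
    rw [field1_eq]
    rcases (show q / 2 ^ n % 2 = 0 ∨ q / 2 ^ n % 2 = 1 by omega) with z | z <;> rw [z]
    · rw [pow_zero, mul_one]; rfl
    · rw [pow_one, hA n hn, hQ.qel_mul (autAcc_lt _ _ _) (field7_lt _ _)]; rfl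
  have h0 : qel t X (autAcc A q 0) = 1 := hQ.qel_zero
  obtain ⟨e, e2, -⟩ := xor_land_table ⟨q, hq⟩ ⟨_, autAcc_lt A q 6⟩
  simp only [Fin.val_mk] at e e2
  rw [applyAut_eq, e, ← hQ.qel_mul (autAcc_lt _ _ _) (by omega), step 5 (by norm_num), step 4 (by norm_num),
    step 3 (by norm_num), step 2 (by norm_num), step 1 (by norm_num), step 0 (by norm_num), h0, e2]
  have ht : qel t X (64 * (q / 64 % 2)) = g * t ^ (q / 64 % 2) * g⁻¹ := by
    rw [(hg.pow_right _).eq, mul_inv_cancel_right]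
    rcases (show q / 64 % 2 = 0 ∨ q / 64 % 2 = 1 by omega) with z | z <;> rw [z]
    · rw [Nat.mul_zero, hQ.qel_zero, pow_zero]
    · rw [Nat.mul_one, hQ.qel_t, pow_one]
  simp only [conj_pow]
  rw [ht, qel, three, three, show q % 8 % 2 = q / 2 ^ 0 % 2 by omega, show q % 8 / 2 % 2 = q / 2 ^ 1 % 2 by omega,
    show q % 8 / 4 % 2 = q / 2 ^ 2 % 2 by omega, show q / 8 % 8 % 2 = q / 2 ^ 3 % 2 by omega,
    show q / 8 % 8 / 2 % 2 = q / 2 ^ 4 % 2 by omega, show q / 8 % 8 / 4 % 2 = q / 2 ^ 5 % 2 by omega]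
  group

theorem conj_wd {a c : G} (ha : Commute a t) (hc : Commute c t) {fa fc : ℕ}
    (hA : ∀ j < 6, a * X j * a⁻¹ = qel t X (field 7 fa j))
    (hC : ∀ j < 6, c * X j * c⁻¹ = qel t X (field 7 fc j)) :
    ∀ (w : List ℕ) {q : ℕ}, q < 128 → wd a c w * qel t X q * (wd a c w)⁻¹ = qel t X (evalF fa fc w q) := by
  intro w
  induction w with
  | nil => intro q _; simp [wd, evalF]
  | cons s w ih =>
    intro q hq
    show _ = qel t X (applyAut _ _)
    rw [wd, mul_inv_rev, show ∀ x y z : G, x * y * z * (y⁻¹ * x⁻¹) = x * (y * z * y⁻¹) * x⁻¹ by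
      intro x y z; group, ih hq]
    rcases Nat.eq_zero_or_pos s with rfl | hs
    · rw [if_pos rfl]; exact hQ.conj_qel ha hA (evalF_lt _ _ w hq)
    · rw [if_neg (by omega), show Nat.beq s 0 = false from Bool.eq_false_iff.2 fun e => by
        have := Nat.eq_of_beq_eq_true e; omega]
      exact hQ.conj_qel hc hC (evalF_lt _ _ w hq)

/-- Signs on the generators come from conjugation inside the group. -/
theorem sign_fix (e : ℕ → ℕ) : ∃ r < 64, ∀ j < 6, qel t X r * X j * (qel t X r)⁻¹ = X j * t ^ e j := by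
  obtain ⟨r, hr⟩ := flip_table ⟨e 0 % 2 + 2 * (e 1 % 2) + 4 * (e 2 % 2) + 8 * (e 3 % 2) + 16 * (e 4 % 2) +
    32 * (e 5 % 2), by omega⟩
  refine ⟨r, r.isLt, fun j hj => ?_⟩
  have hr' := hr ⟨j, hj⟩
  simp only [Fin.val_mk] at hr'
  have h2 : (2 : ℕ) ^ j < 128 := lt_of_lt_of_le (Nat.pow_lt_pow_right one_lt_two hj) (by norm_num)
  rw [← hQ.qel_gen j hj, hQ.qel_cb (by omega) h2, hr', mul_assoc, mul_assoc,
    (((hQ.comm_qel r).pow_left _).inv_right).eq, mul_inv_cancel_left, ← hQ.tpow (e j)]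
  congr 2
  interval_cases j <;> norm_num <;> omega

end QGens

/-- A solution of the frame problem for the two generators. -/
structure Letters (t : G) (X : ℕ → G) (ty : ℕ) (rv : ℕ → ℕ) (a c : G) : Prop where
  ty_lt : ty < 3
  at' : Commute a t
  ct : Commute c t
  actA : ∀ j < 6, a * X j * a⁻¹ = qel t X (field 7 (field 42 genData (2 * ty)) j)
  actC : ∀ j < 6, c * X j * c⁻¹ = qel t X (field 7 (field 42 genData (2 * ty + 1)) j)
  rel : ∀ r < 4, wd a c (relW r) = qel t X (rv r)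

namespace Setting

variable {t : G} {S : Subgroup G} (h : Setting t S)
include h

theorem exists_letters [Finite G] :
    ∃ (X : ℕ → G) (ty : ℕ) (rv : ℕ → ℕ) (a c : G), QGens t X ∧ (∀ j < 6, X j ∈ S) ∧ Letters t X ty rv a c ∧
      ((∃ i < 6, i / 2 = ty ∧ ∀ r < 4, rv r = relVal i r) ∨
        ∃ j < 6, j / 2 = ty ∧ ∀ r < 4, rv r = failV j r) := by
  classical
  obtain ⟨c₀, hcd⟩ : ∃ c₀ : SL(3, ZMod 2), (c₀ : Matrix (Fin 3) (Fin 3) (ZMod 2)) =
      !![0, 0, 1; 1, 0, 1; 0, 1, 0] := ⟨⟨_, by decide +kernel⟩, rfl⟩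
  obtain ⟨a₀, had⟩ : ∃ a₀ : SL(3, ZMod 2), (a₀ : Matrix (Fin 3) (Fin 3) (ZMod 2)) =
      !![0, 0, 1; 1, 1, 1; 1, 0, 0] := ⟨⟨_, by decide +kernel⟩, rfl⟩
  have hmat : c₀ ^ 7 = 1 ∧ c₀ ≠ 1 ∧ a₀ ≠ 1 ∧ a₀ * a₀ = 1 ∧ (a₀ * c₀) ^ 3 = 1 ∧
      (a₀ * c₀ * a₀ * c₀ ^ 6) ^ 4 = 1 := by
    refine ⟨Subtype.ext ?_, fun e => ?_, fun e => ?_, Subtype.ext ?_, Subtype.ext ?_, Subtype.ext ?_⟩
    · rw [Matrix.SpecialLinearGroup.coe_pow, hcd, Matrix.SpecialLinearGroup.coe_one]; decide +kernel
    · rw [e, Matrix.SpecialLinearGroup.coe_one] at hcd; revert hcd; decide +kernel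
    · rw [e, Matrix.SpecialLinearGroup.coe_one] at had; revert had; decide +kernel
    · rw [Matrix.SpecialLinearGroup.coe_mul, had, Matrix.SpecialLinearGroup.coe_one]; decide +kernel
    · rw [Matrix.SpecialLinearGroup.coe_pow, Matrix.SpecialLinearGroup.coe_mul, had, hcd,
        Matrix.SpecialLinearGroup.coe_one]
      decide +kernel
    · rw [Matrix.SpecialLinearGroup.coe_pow, Matrix.SpecialLinearGroup.coe_mul,
        Matrix.SpecialLinearGroup.coe_mul, Matrix.SpecialLinearGroup.coe_mul,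
        Matrix.SpecialLinearGroup.coe_pow, had, hcd, Matrix.SpecialLinearGroup.coe_one]
      decide +kernel
  obtain ⟨hc7', hc1, ha1, ha2, hac, hacc⟩ := hmat
  haveI : Fact (Nat.Prime 7) := ⟨by norm_num⟩
  obtain ⟨c, hcC, hc7, hψc, hcS⟩ := h.exists_seven c₀ (orderOf_eq_prime hc7' hc1)
  have hct : Commute c t := mem_centralizer_singleton_iff.1 hcC
  obtain ⟨X, hQ, hX, hC⟩ := h.exists_gens c hct hc7 hcS
  have hmem : ∀ p, qel t X p ∈ S := fun p =>
    mul_mem (mul_mem (mul_mem (mul_mem (pow_mem (hX 0 (by norm_num)) _) (pow_mem (hX 1 (by norm_num)) _))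
      (pow_mem (hX 2 (by norm_num)) _))
      (mul_mem (mul_mem (pow_mem (hX 3 (by norm_num)) _) (pow_mem (hX 4 (by norm_num)) _))
      (pow_mem (hX 5 (by norm_num)) _))) (pow_mem h.tS _)
  have hsurj := hQ.surj S h.card h.tS hX
  have h2j : ∀ j < 6, (2 : ℕ) ^ j < 128 := fun j hj =>
    lt_of_lt_of_le (Nat.pow_lt_pow_right one_lt_two hj) (by norm_num)
  obtain ⟨a, hψa⟩ := h.ψ_surj a₀
  have hat : Commute (a : G) t := mem_centralizer_singleton_iff.1 a.2
  -- codes of the images
  have hcode : ∀ j, ∃ p, j < 6 → p < 128 ∧ qel t X p = (a : G) * X j * (a : G)⁻¹ := fun j => by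
    by_cases hj : j < 6
    · obtain ⟨p, hp, e⟩ := hsurj _ (h.conj_mem _ hat _ (hX j hj))
      exact ⟨p, fun _ => ⟨hp, e⟩⟩
    · exact ⟨0, fun h => absurd h hj⟩
  choose u hu using hcode
  let v : ℕ → ℕ := fun j => u j % 64
  have hv : ∀ m < 6, v m < 64 := fun m _ => Nat.mod_lt _ (by norm_num)
  obtain ⟨Au, hAu⟩ : ∃ A, A = pack ((List.range 6).map u) := ⟨_, rfl⟩
  have hAf : ∀ j < 6, field 7 Au j = u j := hAu ▸ pack_field u fun j hj => (hu j hj).1
  have hA : ∀ j < 6, (a : G) * X j * (a : G)⁻¹ = qel t X (field 7 Au j) := fun j hj => by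
    rw [hAf j hj, (hu j hj).2]
  obtain ⟨Av, hAv⟩ : ∃ A, A = pack ((List.range 6).map v) := ⟨_, rfl⟩
  have hlow : LowEq Av Au := fun j hj => by
    rw [hAf j hj, hAv, pack_field v (fun j hj => by have := hv j hj; omega) j hj]
    exact Nat.mod_mod _ _
  -- squares and commutators
  have hψ1 : ∀ g : centralizer ({t} : Set G), h.ψ g = 1 → ∀ q < 128, ∃ n : ℕ,
      (g : G) * qel t X q * (g : G)⁻¹ = qel t X q * t ^ n := by
    intro g hg q hq
    have hgS := (h.ψ_ker g).1 hg
    rcases h.comm _ hgS _ (hmem q) with e | e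
    · exact ⟨0, by rw [e, pow_zero, mul_one, mul_inv_cancel_right]⟩
    · exact ⟨1, by rw [e, pow_one, mul_assoc (qel t X q * g) t, (h.le _ (inv_mem hgS)).symm.eq, mul_assoc,
        mul_inv_cancel_left]⟩
  have hψlow : ∀ g : centralizer ({t} : Set G), h.ψ g = 1 → ∀ q < 128, ∀ p < 128,
      (g : G) * qel t X q * (g : G)⁻¹ = qel t X p → p % 64 = q % 64 := by
    intro g hg q hq p hp e
    obtain ⟨n, hn⟩ := hψ1 g hg q hq
    rw [e, ← hQ.tpow n] at hn
    have h64 : ∀ q < 128, qMul q 0 % 64 = q % 64 ∧ qMul q 64 % 64 = q % 64 := by decide +kernel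
    rcases Nat.mod_two_eq_zero_or_one n with z | z <;> rw [z] at hn
    · rw [pow_zero, mul_one] at hn
      rw [hQ.qel_inj hp hq hn]
    · rw [pow_one, hQ.qel_mul_t hq] at hn
      rw [hQ.qel_inj hp (qMul_lt hq (by norm_num)) hn]
      exact (h64 q hq).2
  have hψaa : h.ψ (a * a) = 1 := by rw [map_mul, hψa, ha2]
  -- the guard
  have hguard : ∀ m < 6, guard ((List.range m).map v) (v m) = true := by
    intro m hm
    obtain ⟨hum, hue⟩ := hu m hm
    have hv0 : v m ≠ 0 := by
      intro e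
      have e1 : (a : G) * X m * (a : G)⁻¹ = t ^ (u m / 64) := by
        rw [← hue, hQ.qel_mod hum, show u m % 64 = 0 from e, hQ.qel_zero, one_mul]
      have e2 : X m = t ^ (u m / 64) := by
        calc X m = (a : G)⁻¹ * ((a : G) * X m * (a : G)⁻¹) * a := by group
          _ = _ := by rw [e1, ((hat.inv_left).pow_right _).eq, inv_mul_cancel_right]
      have e3 : qel t X (2 ^ m) = qel t X (64 * (u m / 64)) := by
        rw [hQ.qel_gen m hm, e2]
        rcases (show u m / 64 = 0 ∨ u m / 64 = 1 by omega) with z | z <;> rw [z]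
        · rw [Nat.mul_zero, hQ.qel_zero, pow_zero]
        · rw [Nat.mul_one, hQ.qel_t, pow_one]
      have e4 := hQ.qel_inj (h2j m hm) (by omega) e3
      have : (2 : ℕ) ^ m ≤ 32 := (Nat.pow_le_pow_right (by norm_num) (show m ≤ 5 by omega)).trans (by norm_num)
      have : (2 : ℕ) ^ m ≠ 0 := by positivity
      omega
    have hsb : sb (v m) = 0 := by
      obtain ⟨e, e'⟩ := sb_table ⟨u m, hum⟩
      simp only [Fin.val_mk] at e e'
      have h0 : qel t X (qMul (u m) (u m)) = qel t X 0 := by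
        rw [← hQ.qel_mul hum hum, hue, hQ.qel_zero]
        calc (a : G) * X m * (a : G)⁻¹ * ((a : G) * X m * (a : G)⁻¹) = a * (X m * X m) * (a : G)⁻¹ := by group
          _ = 1 := by rw [hQ.sq m hm]; group
      have h1 := hQ.qel_inj (qMul_lt hum hum) (by norm_num) h0
      show sb (u m % 64) = 0
      omega
    have hpair : ∀ j < m, cb (v m) (v j) = cb (2 ^ m) (2 ^ j) ∧ cb (v m) (2 ^ j) = cb (2 ^ m) (v j) := by
      intro j hj
      have hj6 : j < 6 := by omega
      obtain ⟨huj, huje⟩ := hu j hj6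
      have low : ∀ {p r : ℕ}, p < 128 → r < 128 → cb p r = cb (p % 64) (r % 64) ∧ cb p r < 2 := fun {p r} hp hr => by
        obtain ⟨-, l, e⟩ := cb_table ⟨p, hp⟩ ⟨r, hr⟩
        exact ⟨e, l⟩
      have bit_eq : ∀ {x y : ℕ}, x < 2 → y < 2 → (x = 0 ↔ y = 0) → x = y := fun {x y} _ _ _ => by omega
      have hm64 : (2 : ℕ) ^ m % 64 = 2 ^ m ∧ (2 : ℕ) ^ j % 64 = 2 ^ j :=
        ⟨Nat.mod_eq_of_lt (by
          have := (Nat.pow_le_pow_right (show 0 < 2 by norm_num) (show m ≤ 5 by omega)); omega),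
        Nat.mod_eq_of_lt (by
          have := (Nat.pow_le_pow_right (show 0 < 2 by norm_num) (show j ≤ 5 by omega)); omega)⟩
      constructor
      · show cb (u m % 64) (u j % 64) = _
        rw [← (low hum huj).1]
        refine bit_eq (low hum huj).2 (low (h2j m hm) (h2j j hj6)).2 ?_
        rw [← hQ.qel_comm_iff hum huj, ← hQ.qel_comm_iff (h2j m hm) (h2j j hj6), hue, huje, hQ.qel_gen m hm,
          hQ.qel_gen j hj6]
        exact ⟨fun e => by simpa [mul_assoc] using congrArg (fun x => (a : G)⁻¹ * x * a) e,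
          fun e => by simpa [mul_assoc] using congrArg (fun x => (a : G) * x * (a : G)⁻¹) e⟩
      · show cb (u m % 64) (2 ^ j) = cb (2 ^ m) (u j % 64)
        have l1 := low hum (h2j j hj6)
        have l2 := low (h2j m hm) huj
        rw [hm64.2] at l1
        rw [hm64.1] at l2
        rw [← l1.1, ← l2.1]
        refine bit_eq l1.2 l2.2 ?_
        rw [← hQ.qel_comm_iff hum (h2j j hj6), ← hQ.qel_comm_iff (h2j m hm) huj, hue, huje]
        obtain ⟨n, hn⟩ := hψ1 (a * a) hψaa (2 ^ m) (h2j m hm)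
        rw [hQ.qel_gen m hm] at hn ⊢
        rw [hQ.qel_gen j hj6, Subgroup.coe_mul] at *
        have tc : ∀ x : G, Commute t x → ∀ y : G, X m * t ^ n * y = y * (X m * t ^ n) → Commute t y →
            X m * y = y * X m := by
          intro x _ y e hy
          rw [mul_assoc, (hy.pow_left n).eq, ← mul_assoc, ← mul_assoc] at e
          exact mul_right_cancel e
        have hty : Commute t ((a : G) * X j * (a : G)⁻¹) :=
          (h.le _ (h.conj_mem _ hat _ (hX j hj6))).symm
        constructor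
        · intro e
          refine tc _ (hQ.tc m hm) _ ?_ hty
          rw [← hn]
          simpa [mul_assoc] using congrArg (fun x => (a : G) * x * (a : G)⁻¹) e
        · intro e
          have e' : X m * t ^ n * ((a : G) * X j * (a : G)⁻¹) = (a : G) * X j * (a : G)⁻¹ * (X m * t ^ n) := by
            rw [mul_assoc, (hty.pow_left n).eq, ← mul_assoc, e, mul_assoc]
          rw [← hn] at e'
          simpa [mul_assoc] using congrArg (fun x => (a : G)⁻¹ * x * a) e'
    unfold guard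
    simp only [Bool.and_eq_true, Bool.not_eq_true', List.all_eq_true, List.mem_range, List.length_map,
      List.length_range]
    refine ⟨Bool.eq_false_iff.2 fun e => hv0 (Nat.eq_of_beq_eq_true e), by rw [hsb]; rfl, fun j hj => ?_⟩
    rw [getD_map_range v hj, (hpair j hj).1, (hpair j hj).2]
    exact ⟨Nat.beq_refl _, Nat.beq_refl _⟩
  have hleaf := srch_spec v hv hguard 6 0 rfl search_check
  unfold leaf at hleaf
  rw [← hAv] at hleaf
  simp only [Bool.or_eq_true, Bool.not_eq_true'] at hleaf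
  -- lifts of the quotient
  have land63 : ∀ n, Nat.land n 63 = n % 64 := fun n => Nat.and_two_pow_sub_one_eq_mod n 6
  have beqself : ∀ n, Nat.beq n n = true := Nat.beq_refl
  have hinv : ((List.range 6).all fun j =>
      Nat.beq (Nat.land (applyAut Av (((List.range 6).map v).getD j 0)) 63) (2 ^ j)) = true := by
    simp only [List.all_eq_true, List.mem_range]
    intro j hj
    rw [getD_map_range v hj, land63]
    have hl := applyAut_low hlow (by have := hv j hj; omega) (hu j hj).1 (Nat.mod_mod _ _)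
    have := hψlow (a * a) hψaa (2 ^ j) (h2j j hj) (applyAut Au (u j)) (applyAut_lt _ (hu j hj).1) (by
      rw [hQ.qel_gen j hj, ← hQ.conj_qel hat hA (hu j hj).1, (hu j hj).2, Subgroup.coe_mul]
      group)
    rw [hl, this, Nat.mod_eq_of_lt (show (2 : ℕ) ^ j < 64 from Nat.pow_lt_pow_right (a := 2) one_lt_two hj)]
    exact beqself _
  have hnid : ((List.range 6).all fun j => Nat.beq (((List.range 6).map v).getD j 0) (2 ^ j)) = false := by
    rw [Bool.eq_false_iff]
    intro e
    simp only [List.all_eq_true, List.mem_range] at e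
    obtain ⟨r, -, hr⟩ := hQ.sign_fix fun j => u j / 64
    have hcen : ∀ j < 6, (qel t X r)⁻¹ * a * X j * ((qel t X r)⁻¹ * a)⁻¹ = X j := fun j hj => by
      have e1 := Nat.eq_of_beq_eq_true (e j hj)
      rw [getD_map_range v hj] at e1
      have e2 : (a : G) * X j * (a : G)⁻¹ = qel t X r * X j * (qel t X r)⁻¹ := by
        rw [hr j hj, ← (hu j hj).2, hQ.qel_mod (hu j hj).1, show u j % 64 = 2 ^ j from e1, hQ.qel_gen j hj]
      calc (qel t X r)⁻¹ * a * X j * ((qel t X r)⁻¹ * a)⁻¹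
          = (qel t X r)⁻¹ * ((a : G) * X j * (a : G)⁻¹) * qel t X r := by group
        _ = X j := by rw [e2]; group
    have hgt : Commute ((qel t X r)⁻¹ * a) t := ((hQ.comm_qel r).symm.inv_left).mul_left hat
    have hall := h.cent _ hgt fun q hq => by
      obtain ⟨p, -, rfl⟩ := hsurj q hq
      have cj : ∀ j < 6, Commute ((qel t X r)⁻¹ * a) (X j) := fun j hj => mul_inv_eq_iff_eq_mul.1 (hcen j hj)
      exact ((((cj 0 (by norm_num)).pow_right _).mul_right ((cj 1 (by norm_num)).pow_right _)).mul_right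
        ((cj 2 (by norm_num)).pow_right _) |>.mul_right
        ((((cj 3 (by norm_num)).pow_right _).mul_right ((cj 4 (by norm_num)).pow_right _)).mul_right
        ((cj 5 (by norm_num)).pow_right _)) |>.mul_right (hgt.pow_right _)).eq
    have haS : (a : G) ∈ S := by
      have := mul_mem (hmem r) hall
      rwa [mul_inv_cancel_left] at this
    exact ha1 (hψa ▸ (h.ψ_ker a).2 haS)
  -- words
  have wdC : ∀ (g : centralizer ({t} : Set G)) (w : List ℕ),
      wd (g : G) c w = (wd g (⟨c, hcC⟩ : centralizer ({t} : Set G)) w : centralizer ({t} : Set G)) := by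
    intro g w
    induction w with
    | nil => rfl
    | cons s w ih =>
      simp only [wd, Subgroup.coe_mul, ih]
      split_ifs <;> rfl
  have ψwd : ∀ (g : centralizer ({t} : Set G)) (w : List ℕ), h.ψ (wd g ⟨c, hcC⟩ w) = wd (h.ψ g) c₀ w := by
    intro g w
    induction w with
    | nil => exact map_one _
    | cons s w ih =>
      simp only [wd, map_mul, ih]
      split_ifs
      · rfl
      · rw [hψc]
  have hwd : ∀ x y : SL(3, ZMod 2), x * x = 1 → y ^ 7 = 1 → (x * y) ^ 3 = 1 → (x * y * x * y ^ 6) ^ 4 = 1 →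
      ∀ r, wd x y (relW r) = 1 := by
    intro x y e0 e1 e2 e3 r
    match r with
    | 0 => simpa [wd, relW] using e0
    | 1 => simpa [wd, relW, pow_succ, mul_assoc] using e1
    | 2 => simpa [wd, relW, pow_succ, mul_assoc] using e2
    | n + 3 => simpa [wd, relW, pow_succ, mul_assoc] using e3
  have hrelev : ∀ r, ((List.range 6).all fun j =>
      Nat.beq (Nat.land (evalF Av genC (relW r) (2 ^ j)) 63) (2 ^ j)) = true := by
    intro r
    simp only [List.all_eq_true, List.mem_range]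
    intro j hj
    rw [land63, evalF_low hlow (relW r) (h2j j hj) (h2j j hj) rfl]
    have := hψlow (wd a ⟨c, hcC⟩ (relW r)) (by rw [ψwd, hψa]; exact hwd _ _ ha2 hc7' hac hacc r) (2 ^ j)
      (h2j j hj) _ (evalF_lt Au genC (relW r) (h2j j hj)) (by
        rw [← wdC]; exact hQ.conj_wd hat hct hA hC (relW r) (h2j j hj))
    rw [this, Nat.mod_eq_of_lt (show (2 : ℕ) ^ j < 64 from Nat.pow_lt_pow_right (a := 2) one_lt_two hj)]
    exact beqself _
  rw [hinv, hnid, hrelev 2, hrelev 3] at hleaf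
  simp only [Bool.false_eq_true, Bool.true_eq_false, false_or, List.any_eq_true, List.all_eq_true,
    List.mem_range] at hleaf
  obtain ⟨k, hk, ty, hty, hleaf⟩ := hleaf
  -- powers of the element of order seven
  have hpow : ∀ n q : ℕ, q < 128 → ∃ p < 128, c ^ n * qel t X q * (c ^ n)⁻¹ = qel t X p ∧
      p % 64 = powC n q % 64 ∧ powC n q < 128 := by
    intro n q hq
    induction n with
    | zero => exact ⟨q, hq, by simp, rfl, hq⟩
    | succ i ih =>
      obtain ⟨p, hp, e, e', hlt⟩ := ih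
      refine ⟨applyAut genC p, applyAut_lt _ hp, ?_, ?_, ?_⟩
      · rw [← hQ.conj_qel hct hC hp, ← e, pow_succ']; group
      · show _ = Nat.land (applyAut genC (powC i q)) 63 % 64
        rw [land63, Nat.mod_mod, applyAut_low (fun _ _ => rfl) hp hlt e']
      · show Nat.land (applyAut genC (powC i q)) 63 < 128
        rw [land63]; omega
  obtain ⟨A, hAd⟩ : ∃ A, A = field 42 genData (2 * ty) := ⟨_, rfl⟩
  -- the conjugate
  obtain ⟨b, hbd⟩ : ∃ b : centralizer ({t} : Set G),
      b = (⟨c, hcC⟩ : centralizer ({t} : Set G)) ^ k * a * ((⟨c, hcC⟩ : centralizer ({t} : Set G)) ^ k)⁻¹ := ⟨_, rfl⟩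
  have hbG : (b : G) = c ^ k * a * (c ^ k)⁻¹ := by rw [hbd]; simp
  have hbt : Commute (b : G) t := mem_centralizer_singleton_iff.1 b.2
  have hkinv : (c ^ k)⁻¹ = c ^ (7 - k) := inv_eq_of_mul_eq_one_right (by
    rw [← pow_add, show k + (7 - k) = 7 by omega, hc7])
  have hbconj : ∀ j, ∃ e, j < 6 → (b : G) * X j * (b : G)⁻¹ = qel t X (field 7 A j) * t ^ e := by
    intro j
    by_cases hj : j < 6
    swap
    · exact ⟨0, fun h => absurd h hj⟩
    obtain ⟨p1, hp1, e1, l1, q1⟩ := hpow (7 - k) (2 ^ j) (h2j j hj)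
    have hq2 : Nat.land (applyAut Av (powC (7 - k) (2 ^ j))) 63 < 128 := by rw [land63]; omega
    obtain ⟨p2, hp2, e2, l2, -⟩ := hpow k (applyAut Au p1) (applyAut_lt _ hp1)
    have e : (b : G) * X j * (b : G)⁻¹ = qel t X p2 := by
      rw [← e2, ← hQ.conj_qel hat hA hp1, ← e1, hQ.qel_gen j hj, hbG, ← hkinv]
      group
    have low : p2 % 64 = field 7 A j % 64 := by
      have hl := Nat.eq_of_beq_eq_true (hleaf j hj)
      rw [land63 (field 7 _ j)] at hl
      rw [l2, hAd, ← hl]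
      obtain ⟨q, hq, -, lq, -⟩ := hpow k (Nat.land (applyAut Av (powC (7 - k) (2 ^ j))) 63) hq2
      have same : ∀ n, powC n (applyAut Au p1) % 64 =
          powC n (Nat.land (applyAut Av (powC (7 - k) (2 ^ j))) 63) % 64 ∧
          powC n (applyAut Au p1) < 128 ∧ powC n (Nat.land (applyAut Av (powC (7 - k) (2 ^ j))) 63) < 128 := by
        intro n
        induction n with
        | zero =>
          refine ⟨?_, applyAut_lt _ hp1, hq2⟩
          show applyAut Au p1 % 64 = Nat.land _ 63 % 64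
          rw [land63, Nat.mod_mod, applyAut_low hlow q1 hp1 l1.symm]
        | succ i ih =>
          obtain ⟨i1, i2, i3⟩ := ih
          have step : ∀ x, powC (i + 1) x = applyAut genC (powC i x) % 64 := fun x => land63 _
          exact ⟨by rw [step, step, Nat.mod_mod, Nat.mod_mod, applyAut_low (fun _ _ => rfl) i2 i3 i1],
            by rw [step]; omega, by rw [step]; omega⟩
      rw [(same k).1]
      have hz : ∀ n x, x < 128 → powC n x < 128 := fun n x hx => (hpow n x hx).choose_spec.2.2.2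
      rcases Nat.eq_zero_or_pos k with rfl | hk0
      · show Nat.land _ 63 % 64 = Nat.land _ 63
        rw [land63, Nat.mod_mod]
      · obtain ⟨i, rfl⟩ : ∃ i, k = i + 1 := ⟨k - 1, by omega⟩
        simp only [powC, land63]
        rw [Nat.mod_mod]
    refine ⟨p2 / 64 + field 7 A j / 64, fun _ => ?_⟩
    have := field7_lt A j
    rw [e, hQ.qel_mod hp2, hQ.qel_mod this, low, mul_assoc, ← pow_add, ← hQ.tpow (field 7 A j / 64 + _)]
    conv_lhs => rw [← hQ.tpow]
    congr 2
    omega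
  choose ε hε using hbconj
  obtain ⟨r, -, hr⟩ := hQ.sign_fix ε
  -- sign-fixed lift
  obtain ⟨d, hdd⟩ : ∃ d : centralizer ({t} : Set G),
      d = b * ⟨qel t X r, mem_centralizer_singleton_iff.2 (hQ.comm_qel r).symm.eq⟩ := ⟨_, rfl⟩
  have hdt : Commute (d : G) t := mem_centralizer_singleton_iff.1 d.2
  have hdA : ∀ j < 6, (d : G) * X j * (d : G)⁻¹ = qel t X (field 7 A j) := by
    intro j hj
    calc (d : G) * X j * (d : G)⁻¹ = b * (qel t X r * X j * (qel t X r)⁻¹) * (b : G)⁻¹ := by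
          rw [hdd, Subgroup.coe_mul]; group
      _ = (b : G) * X j * (b : G)⁻¹ * ((b : G) * t ^ ε j * (b : G)⁻¹) := by rw [hr j hj]; group
      _ = qel t X (field 7 A j) := by
        rw [hε j hj, (hbt.pow_right _).eq, mul_inv_cancel_right, mul_assoc, ← pow_add, ← two_mul, pow_mul,
          pow_two, h.t2, one_pow, mul_one]
  have hψd : h.ψ d = c₀ ^ k * a₀ * (c₀ ^ k)⁻¹ := by
    rw [hdd, map_mul, (h.ψ_ker ⟨qel t X r, _⟩).2 (hmem r), mul_one, hbd, map_mul, map_mul, map_inv, map_pow,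
      hψc, hψa]
  -- relators
  have hval : ∀ g : centralizer ({t} : Set G), h.ψ g = h.ψ d →
      (∀ j < 6, (g : G) * X j * (g : G)⁻¹ = qel t X (field 7 A j)) → ∀ r < 4,
      ∃ p < 128, wd (g : G) c (relW r) = qel t X p ∧
        (r ≠ 1 → p = relVal (2 * ty) r ∨ p = Nat.xor (relVal (2 * ty) r) 64) := by
    intro g hg hgA r hr4
    have hgt : Commute (g : G) t := mem_centralizer_singleton_iff.1 g.2
    have hone : h.ψ (wd g ⟨c, hcC⟩ (relW r)) = 1 := by
      rw [ψwd, hg, hψd]
      have hc0 : MulAut.conj (c₀ ^ k) c₀ = c₀ := by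
        rw [MulAut.conj_apply, ((Commute.refl c₀).pow_left k).eq, mul_inv_cancel_right]
      rw [← MulAut.conj_apply]
      rw [show wd (MulAut.conj (c₀ ^ k) a₀) c₀ = wd (MulAut.conj (c₀ ^ k) a₀) (MulAut.conj (c₀ ^ k) c₀) by rw [hc0]]
      refine hwd _ _ ?_ ?_ ?_ ?_ r
      · rw [← map_mul, ha2, map_one]
      · rw [← map_pow, hc7', map_one]
      · rw [← map_mul, ← map_pow, hac, map_one]
      · rw [← map_pow, ← map_mul, ← map_mul, ← map_mul, ← map_pow, hacc, map_one]
    obtain ⟨p, hp, hpw⟩ := hsurj _ ((h.ψ_ker _).1 hone)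
    rw [← wdC] at hpw
    refine ⟨p, hp, hpw.symm, fun hr1 => ?_⟩
    have hc' : valOK ty r = true := by
      have := List.all_eq_true.1 val_checks ty (List.mem_range.2 hty)
      simp only [Bool.and_eq_true] at this
      obtain ⟨a1, a2, a3⟩ := this
      rcases (show r = 0 ∨ r = 2 ∨ r = 3 by omega) with rfl | rfl | rfl <;> assumption
    unfold valOK at hc'
    simp only [List.all_eq_true, List.mem_range, Bool.or_eq_true, Bool.not_eq_true'] at hc'
    rcases hc' p hp with bad | good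
    · exfalso
      rw [Bool.eq_false_iff] at bad
      apply bad
      simp only [List.all_eq_true, List.mem_range]
      intro j hj
      have e := hQ.conj_wd hgt hct hgA hC (relW r) (h2j j hj)
      rw [← hpw] at e
      have e' : qel t X (qMul p (2 ^ j)) = qel t X (qMul (evalF A genC (relW r) (2 ^ j)) p) := by
        rw [← hQ.qel_mul hp (h2j j hj), ← hQ.qel_mul (evalF_lt _ _ _ (h2j j hj)) hp, ← e, inv_mul_cancel_right]
      have := hQ.qel_inj (qMul_lt hp (h2j j hj)) (qMul_lt (evalF_lt _ _ _ (h2j j hj)) hp) e'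
      rw [← hAd, this]
      exact beqself _
    · exact good.imp Nat.eq_of_beq_eq_true Nat.eq_of_beq_eq_true
  have hcrel : ∀ g : G, wd g c (relW 1) = qel t X 0 := fun g => by
    rw [hQ.qel_zero]
    simpa [wd, relW, pow_succ, mul_assoc] using hc7
  obtain ⟨T, hTd⟩ : ∃ T : centralizer ({t} : Set G), T = ⟨t, mem_centralizer_singleton_iff.2 rfl⟩ := ⟨_, rfl⟩
  have hψT : h.ψ T = 1 := hTd ▸ (h.ψ_ker ⟨t, _⟩).2 h.tS
  have hrv64 : ∀ ty < 3, qMul (Nat.xor (relVal (2 * ty) 2) 64) 64 = relVal (2 * ty) 2 ∧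
      Nat.xor (relVal (2 * ty) 2) 64 < 128 := by decide +kernel
  obtain ⟨g, hgψ, hgA, hg2⟩ : ∃ g : centralizer ({t} : Set G), h.ψ g = h.ψ d ∧
      (∀ j < 6, (g : G) * X j * (g : G)⁻¹ = qel t X (field 7 A j)) ∧
      wd (g : G) c (relW 2) = qel t X (relVal (2 * ty) 2) := by
    obtain ⟨p, hp, e, hp'⟩ := hval d rfl hdA 2 (by norm_num)
    rcases hp' (by norm_num) with rfl | rfl
    · exact ⟨d, rfl, hdA, e⟩
    refine ⟨d * T, by rw [map_mul, hψT, mul_one], fun j hj => ?_, ?_⟩
    · rw [Subgroup.coe_mul, hTd]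
      calc (d : G) * t * X j * ((d : G) * t)⁻¹ = d * (t * X j * t⁻¹) * (d : G)⁻¹ := by group
        _ = _ := by rw [(hQ.tc j hj).eq, mul_inv_cancel_right, hdA j hj]
    · have hsh : wd (((d * T : centralizer ({t} : Set G)) : G)) c (relW 2) = wd (d : G) c (relW 2) * t := by
        rw [Subgroup.coe_mul, hTd]
        have t3 : t ^ 3 = t := by rw [pow_succ, pow_two, h.t2, one_mul]
        have e3 : ((d : G) * t * c) ^ 3 = ((d : G) * c) ^ 3 * t := by
          rw [mul_assoc (d : G), hct.symm.eq, ← mul_assoc, (hdt.mul_left hct).mul_pow, t3]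
        simpa [wd, relW, pow_succ, mul_assoc] using e3
      rw [hsh, e, hQ.qel_mul_t (hrv64 ty hty).2, (hrv64 ty hty).1]
  choose pv hpv1 hpv2 hpv3 using hval g hgψ hgA
  let rv : ℕ → ℕ := fun r => if r = 0 then pv 0 (by norm_num) else if r = 1 then 0 else
    if r = 2 then relVal (2 * ty) 2 else pv 3 (by norm_num)
  have hgenC : ∀ ty < 3, field 42 genData (2 * ty + 1) = genC := by decide +kernel
  refine ⟨X, ty, rv, g, c, hQ, hX, ⟨hty, mem_centralizer_singleton_iff.1 g.2, hct, hAd ▸ hgA,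
    by rw [hgenC ty hty]; exact hC, fun r hr4 => ?_⟩, ?_⟩
  · rcases (show r = 0 ∨ r = 1 ∨ r = 2 ∨ r = 3 by omega) with rfl | rfl | rfl | rfl
    · exact hpv2 0 _
    · exact hcrel _
    · exact hg2
    · exact hpv2 3 _
  have hpc := List.all_eq_true.1 pair_checks ty (List.mem_range.2 hty)
  unfold pairOK at hpc
  simp only [List.all_eq_true, Bool.or_eq_true, List.any_eq_true, List.mem_range, Bool.and_eq_true,
    List.mem_cons, List.not_mem_nil, or_false] at hpc
  have := hpc (pv 0 (by norm_num)) (hpv3 0 _ (by norm_num)) (pv 3 (by norm_num)) (hpv3 3 _ (by norm_num))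
  rcases this with ⟨i, hi, e, e0, e1, e2, e3⟩ | ⟨i, hi, e, e0, e1, e2, e3⟩
  · refine Or.inl ⟨i, hi, Nat.eq_of_beq_eq_true e, fun r hr4 => ?_⟩
    rcases (show r = 0 ∨ r = 1 ∨ r = 2 ∨ r = 3 by omega) with rfl | rfl | rfl | rfl <;> simp [rv]
    · exact (Nat.eq_of_beq_eq_true e0).symm
    · exact (Nat.eq_of_beq_eq_true e1).symm
    · exact (Nat.eq_of_beq_eq_true e2).symm
    · exact (Nat.eq_of_beq_eq_true e3).symm
  · refine Or.inr ⟨i, hi, Nat.eq_of_beq_eq_true e, fun r hr4 => ?_⟩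
    rcases (show r = 0 ∨ r = 1 ∨ r = 2 ∨ r = 3 by omega) with rfl | rfl | rfl | rfl <;> simp [rv]
    · exact (Nat.eq_of_beq_eq_true e0).symm
    · exact (Nat.eq_of_beq_eq_true e1).symm
    · exact (Nat.eq_of_beq_eq_true e2).symm
    · exact (Nat.eq_of_beq_eq_true e3).symm

end Setting

end CfsgLib.Recog.Held.Frame
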