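import Cfsg.Agent.Lib.Recog.Held.FrameSearch
import Mathlib

set_option autoImplicit false

/-!
Six generators of an extraspecial group in coordinates.
-/

namespace CfsgLib.Recog.Held.Frame

variable {G : Type*} [Group G]

/-- Six involutions pairing to `t`. -/
structure QGens (t : G) (X : ℕ → G) : Prop where
  t2 : t * t = 1
  t1 : t ≠ 1
  sq : ∀ j < 6, X j * X j = 1
  tc : ∀ j < 6, Commute t (X j)
  xx : ∀ i < 3, ∀ j < 3, Commute (X i) (X j)
  yy : ∀ i < 3, ∀ j < 3, Commute (X (3 + i)) (X (3 + j))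
  yx : ∀ i < 3, ∀ j < 3, X (3 + i) * X j = X j * X (3 + i) * t ^ (if i = j then 1 else 0)

/-- Three bits to exponents. -/
def three (x y z : G) (a : ℕ) : G := x ^ (a % 2) * y ^ (a / 2 % 2) * z ^ (a / 4 % 2)

/-- The element of a code. -/
def qel (t : G) (X : ℕ → G) (q : ℕ) : G :=
  three (X 0) (X 1) (X 2) (q % 8) * three (X 3) (X 4) (X 5) (q / 8 % 8) * t ^ (q / 64 % 2)

theorem pow_mod_two {g : G} (h : g * g = 1) (n : ℕ) : g ^ (n % 2) = g ^ n := by
  conv_rhs => rw [← Nat.mod_add_div n 2, pow_add, pow_mul, pow_two, h, one_pow, mul_one]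

theorem field_eq (w x k : ℕ) : field w x k = x / 2 ^ (w * k) % 2 ^ w := by
  show Nat.land (Nat.shiftRight x (w * k)) (2 ^ w - 1) = _
  rw [show Nat.shiftRight x (w * k) = x >>> (w * k) from rfl, Nat.shiftRight_eq_div_pow]
  exact Nat.and_two_pow_sub_one_eq_mod _ _

theorem bit_add : ∀ a < 8, ∀ b < 8, (a ^^^ b) % 2 = (a % 2 + b % 2) % 2 ∧
    (a ^^^ b) / 2 % 2 = (a / 2 % 2 + b / 2 % 2) % 2 ∧ (a ^^^ b) / 4 % 2 = (a / 4 % 2 + b / 4 % 2) % 2 := by
  decide +kernel

theorem three_mul {x y z : G} (hx : x * x = 1) (hy : y * y = 1) (hz : z * z = 1) (hxy : Commute x y)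
    (hxz : Commute x z) (hyz : Commute y z) {a b : ℕ} (ha : a < 8) (hb : b < 8) :
    three x y z a * three x y z b = three x y z (a ^^^ b) := by
  obtain ⟨h1, h2, h3⟩ := bit_add a ha b hb
  unfold three
  rw [h1, h2, h3, pow_mod_two hx (a % 2 + b % 2), pow_mod_two hy (a / 2 % 2 + b / 2 % 2),
    pow_mod_two hz (a / 4 % 2 + b / 4 % 2), pow_add, pow_add, pow_add]
  simp only [mul_assoc]
  rw [← mul_assoc (z ^ (a / 4 % 2)), ((hxz.symm).pow_pow _ _).eq, mul_assoc, ← mul_assoc (y ^ (a / 2 % 2)),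
    ((hxy.symm).pow_pow _ _).eq, mul_assoc, ← mul_assoc (z ^ (a / 4 % 2)), ((hyz.symm).pow_pow _ _).eq, mul_assoc]

/-- `g` and `h` commute up to a power of `t`. -/
def Cx (t g h : G) (n : ℕ) : Prop := g * h = h * g * t ^ n

theorem Cx.one_left {t h : G} : Cx t 1 h 0 := by simp [Cx]

theorem Cx.one_right {t g : G} : Cx t g 1 0 := by simp [Cx]

theorem Cx.mul_left {t g g' h : G} {m n : ℕ} (a : Cx t g h m) (b : Cx t g' h n) (hc : Commute t g') :
    Cx t (g * g') h (m + n) := by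
  unfold Cx at *
  calc g * g' * h = g * (g' * h) := mul_assoc _ _ _
    _ = (g * h) * (g' * t ^ n) := by rw [b]; simp only [mul_assoc]
    _ = h * g * (t ^ m * g') * t ^ n := by rw [a]; simp only [mul_assoc]
    _ = h * (g * g') * t ^ (m + n) := by rw [(hc.pow_left m).eq, pow_add]; simp only [mul_assoc]

theorem Cx.mul_right {t g h h' : G} {m n : ℕ} (a : Cx t g h m) (b : Cx t g h' n) (hc : Commute t h') :
    Cx t g (h * h') (m + n) := by
  unfold Cx at *
  calc g * (h * h') = (g * h) * h' := (mul_assoc _ _ _).symm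
    _ = h * g * (t ^ m * h') := by rw [a]; simp only [mul_assoc]
    _ = h * (g * h') * t ^ m := by rw [(hc.pow_left m).eq]; simp only [mul_assoc]
    _ = h * h' * g * (t ^ n * t ^ m) := by rw [b]; simp only [mul_assoc]
    _ = h * h' * g * t ^ (m + n) := by rw [← pow_add, add_comm n m]

theorem Cx.pow_pow {t g h : G} {e : ℕ} (a : Cx t g h e) (hg : Commute t g) (hh : Commute t h) :
    ∀ m n : ℕ, Cx t (g ^ m) (h ^ n) (m * n * e) := by
  intro m n
  have h1 : Cx t g (h ^ n) (n * e) := by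
    induction n with
    | zero => simpa using Cx.one_right
    | succ k ih => rw [pow_succ, show (k + 1) * e = k * e + e by ring]; exact ih.mul_right a hh
  induction m with
  | zero => simpa using Cx.one_left
  | succ k ih => rw [pow_succ, show (k + 1) * n * e = k * n * e + n * e by ring]; exact ih.mul_left h1 hg

/-- The pairing bit. -/
def par (b a : ℕ) : ℕ := (b % 2 * (a % 2) + b / 2 % 2 * (a / 2 % 2) + b / 4 % 2 * (a / 4 % 2)) % 2

theorem qMul_spec_table : (List.range 128).all (fun p => (List.range 128).all fun q =>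
    Nat.beq (qMul p q % 8) (Nat.xor (p % 8) (q % 8)) && (Nat.beq (qMul p q / 8 % 8) (Nat.xor (p / 8 % 8) (q / 8 % 8)) &&
      (Nat.beq (qMul p q / 64 % 2) ((p / 64 % 2 + q / 64 % 2 + par (p / 8 % 8) (q % 8)) % 2) &&
        Nat.ble (qMul p q + 1) 128))) = true := by
  decide +kernel

theorem qMul_spec {p q : ℕ} (hp : p < 128) (hq : q < 128) :
    qMul p q % 8 = (p % 8) ^^^ (q % 8) ∧ qMul p q / 8 % 8 = (p / 8 % 8) ^^^ (q / 8 % 8) ∧
      qMul p q / 64 % 2 = (p / 64 % 2 + q / 64 % 2 + par (p / 8 % 8) (q % 8)) % 2 ∧ qMul p q < 128 := by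
  have h := qMul_spec_table
  simp only [List.all_eq_true, List.mem_range, Bool.and_eq_true] at h
  obtain ⟨h1, h2, h3, h4⟩ := h p hp q hq
  exact ⟨Nat.eq_of_beq_eq_true h1, Nat.eq_of_beq_eq_true h2, Nat.eq_of_beq_eq_true h3,
    Nat.le_of_ble_eq_true h4⟩

theorem qMul_lt {p q : ℕ} (hp : p < 128) (hq : q < 128) : qMul p q < 128 := (qMul_spec hp hq).2.2.2

namespace QGens

variable {t : G} {X : ℕ → G} (hQ : QGens t X)
include hQ

theorem tpow : ∀ n : ℕ, t ^ (n % 2) = t ^ n := pow_mod_two hQ.t2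

theorem comm_three_x (a : ℕ) : Commute t (three (X 0) (X 1) (X 2) a) :=
  (((hQ.tc 0 (by norm_num)).pow_right _).mul_right ((hQ.tc 1 (by norm_num)).pow_right _)).mul_right
    ((hQ.tc 2 (by norm_num)).pow_right _)

theorem comm_three_y (a : ℕ) : Commute t (three (X 3) (X 4) (X 5) a) :=
  (((hQ.tc 3 (by norm_num)).pow_right _).mul_right ((hQ.tc 4 (by norm_num)).pow_right _)).mul_right
    ((hQ.tc 5 (by norm_num)).pow_right _)

theorem comm_qel (q : ℕ) : Commute t (qel t X q) :=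
  ((hQ.comm_three_x _).mul_right (hQ.comm_three_y _)).mul_right ((Commute.refl t).pow_right _)

theorem cross (b a : ℕ) :
    Cx t (three (X 3) (X 4) (X 5) b) (three (X 0) (X 1) (X 2) a)
      (b % 2 * (a % 2) + b / 2 % 2 * (a / 2 % 2) + b / 4 % 2 * (a / 4 % 2)) := by
  have tc := hQ.tc
  have base : ∀ i < 3, ∀ m : ℕ, Cx t (X (3 + i) ^ m) (three (X 0) (X 1) (X 2) a)
      (m * (if i = 0 then a % 2 else if i = 1 then a / 2 % 2 else a / 4 % 2)) := by
    intro i hi m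
    have h : ∀ j < 3, ∀ n : ℕ, Cx t (X (3 + i) ^ m) (X j ^ n) (m * n * (if i = j then 1 else 0)) := fun j hj n =>
      Cx.pow_pow (hQ.yx i hi j hj) (tc _ (by omega)) (tc _ (by omega)) m n
    have h' := ((h 0 (by norm_num) (a % 2)).mul_right (h 1 (by norm_num) (a / 2 % 2))
      ((tc 1 (by norm_num)).pow_right _)).mul_right (h 2 (by norm_num) (a / 4 % 2)) ((tc 2 (by norm_num)).pow_right _)
    have e : m * (a % 2) * (if i = 0 then 1 else 0) + m * (a / 2 % 2) * (if i = 1 then 1 else 0) +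
        m * (a / 4 % 2) * (if i = 2 then 1 else 0) =
        m * (if i = 0 then a % 2 else if i = 1 then a / 2 % 2 else a / 4 % 2) := by
      interval_cases i <;> simp
    rw [e] at h'
    exact h'
  have h0 := base 0 (by norm_num) (b % 2)
  have h1 := base 1 (by norm_num) (b / 2 % 2)
  have h2 := base 2 (by norm_num) (b / 4 % 2)
  simp only [if_true, Nat.one_ne_zero, if_false, OfNat.ofNat_ne_zero, OfNat.ofNat_ne_one] at h0 h1 h2
  exact (h0.mul_left h1 ((tc _ (by norm_num)).pow_right _)).mul_left h2 ((tc _ (by norm_num)).pow_right _)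

theorem qel_mul {p q : ℕ} (hp : p < 128) (hq : q < 128) : qel t X p * qel t X q = qel t X (qMul p q) := by
  obtain ⟨e1, e2, e3, -⟩ := qMul_spec hp hq
  have hX : ∀ a < 8, ∀ b < 8, three (X 0) (X 1) (X 2) a * three (X 0) (X 1) (X 2) b =
      three (X 0) (X 1) (X 2) (a ^^^ b) := fun a ha b hb =>
    three_mul (hQ.sq 0 (by norm_num)) (hQ.sq 1 (by norm_num)) (hQ.sq 2 (by norm_num))
      (hQ.xx 0 (by norm_num) 1 (by norm_num)) (hQ.xx 0 (by norm_num) 2 (by norm_num))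
      (hQ.xx 1 (by norm_num) 2 (by norm_num)) ha hb
  have hY : ∀ a < 8, ∀ b < 8, three (X 3) (X 4) (X 5) a * three (X 3) (X 4) (X 5) b =
      three (X 3) (X 4) (X 5) (a ^^^ b) := fun a ha b hb =>
    three_mul (hQ.sq 3 (by norm_num)) (hQ.sq 4 (by norm_num)) (hQ.sq 5 (by norm_num))
      (hQ.yy 0 (by norm_num) 1 (by norm_num)) (hQ.yy 0 (by norm_num) 2 (by norm_num))
      (hQ.yy 1 (by norm_num) 2 (by norm_num)) ha hb
  unfold qel
  rw [e1, e2, e3, ← hX _ (Nat.mod_lt _ (by norm_num)) _ (Nat.mod_lt _ (by norm_num)),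
    ← hY _ (Nat.mod_lt _ (by norm_num)) _ (Nat.mod_lt _ (by norm_num)), hQ.tpow (p / 64 % 2 + q / 64 % 2 + par (p / 8 % 8) (q % 8)), par, pow_add, pow_add]
  obtain ⟨u, hu⟩ : ∃ u, u = three (X 0) (X 1) (X 2) (p % 8) := ⟨_, rfl⟩
  obtain ⟨v, hv⟩ : ∃ v, v = three (X 3) (X 4) (X 5) (p / 8 % 8) := ⟨_, rfl⟩
  obtain ⟨u', hu'⟩ : ∃ u, u = three (X 0) (X 1) (X 2) (q % 8) := ⟨_, rfl⟩
  obtain ⟨v', hv'⟩ : ∃ v, v = three (X 3) (X 4) (X 5) (q / 8 % 8) := ⟨_, rfl⟩
  obtain ⟨n, hn⟩ : ∃ n, n = p / 8 % 8 % 2 * (q % 8 % 2) + p / 8 % 8 / 2 % 2 * (q % 8 / 2 % 2) +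
      p / 8 % 8 / 4 % 2 * (q % 8 / 4 % 2) := ⟨_, rfl⟩
  have hc : Cx t v u' n := hn ▸ hv ▸ hu' ▸ hQ.cross _ _
  unfold Cx at hc
  rw [← hu, ← hv, ← hu', ← hv', ← hn, hQ.tpow n]
  have c1 : Commute t u' := hu' ▸ hQ.comm_three_x _
  have c2 : Commute t v' := hv' ▸ hQ.comm_three_y _
  calc u * v * t ^ (p / 64 % 2) * (u' * v' * t ^ (q / 64 % 2))
      = u * (v * u') * v' * (t ^ (p / 64 % 2) * t ^ (q / 64 % 2)) := by
        rw [mul_assoc (u * v), ← mul_assoc (t ^ (p / 64 % 2)), ((c1.mul_right c2).pow_left _).eq]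
        simp only [mul_assoc]
    _ = u * u' * (v * v') * (t ^ (p / 64 % 2) * t ^ (q / 64 % 2) * t ^ n) := by
        rw [hc]
        calc u * (u' * v * t ^ n) * v' * (t ^ (p / 64 % 2) * t ^ (q / 64 % 2))
            = u * u' * v * (t ^ n * v') * (t ^ (p / 64 % 2) * t ^ (q / 64 % 2)) := by simp only [mul_assoc]
          _ = u * u' * (v * v') * (t ^ n * (t ^ (p / 64 % 2) * t ^ (q / 64 % 2))) := by
              rw [(c2.pow_left n).eq]; simp only [mul_assoc]
          _ = _ := by rw [← pow_add, ← pow_add, ← pow_add, add_comm n]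

theorem qel_zero : qel t X 0 = 1 := by simp [qel, three]

theorem qel_t : qel t X 64 = t := by simp [qel, three]

theorem qel_gen : ∀ j < 6, qel t X (2 ^ j) = X j := by
  intro j hj
  interval_cases j <;> simp [qel, three]

theorem qel_inj {p q : ℕ} (hp : p < 128) (hq : q < 128) (h : qel t X p = qel t X q) : p = q := by
  -- commutators with the generators read off the bits
  have hne : ∀ r < 128, qel t X (Nat.xor r 64) ≠ qel t X r := by
    intro r hr he
    have h64 : ∀ r < 128, qMul r 64 = Nat.xor r 64 := by decide +kernel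
    rw [← h64 r hr, ← hQ.qel_mul hr (by norm_num), hQ.qel_t, mul_eq_left] at he
    exact hQ.t1 he
  -- comparing products with a generator
  have key : ∀ (a b : ℕ), a < 128 → b < 128 → qel t X a = qel t X b → a % 64 = b % 64 →
      a / 64 % 2 = b / 64 % 2 := by
    intro a b ha hb hab hlow
    by_contra hne'
    have : a = Nat.xor b 64 := by
      have hx : ∀ r : Fin 128, Nat.xor (r : ℕ) 64 = if (r : ℕ) < 64 then (r : ℕ) + 64 else (r : ℕ) - 64 := by decide +kernel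
      have hb' := hx ⟨b, hb⟩
      simp only [Fin.val_mk] at hb'
      rw [hb']
      split_ifs <;> omega
    exact hne b hb (this ▸ hab)
  by_cases hlow : p % 64 = q % 64
  · have := key p q hp hq h hlow
    omega
  · exfalso
    -- a generator separates the low parts
    have hsep : ∀ p q : Fin 128, (p : ℕ) % 64 ≠ (q : ℕ) % 64 → ∃ j : Fin 6,
        (cb p (2 ^ (j : ℕ))) ≠ cb q (2 ^ (j : ℕ)) := by decide +kernel
    obtain ⟨j, hj⟩ := hsep ⟨p, hp⟩ ⟨q, hq⟩ hlow
    have hX : (2 : ℕ) ^ (j : ℕ) < 128 := lt_of_lt_of_le (Nat.pow_lt_pow_right one_lt_two j.isLt) (by norm_num)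
    have hswap : ∀ p : Fin 128, ∀ j : Fin 6, qMul p (2 ^ (j : ℕ)) =
        qMul (qMul (2 ^ (j : ℕ)) p) (64 * cb p (2 ^ (j : ℕ))) ∧ cb p (2 ^ (j : ℕ)) < 2 := by decide +kernel
    obtain ⟨e1, l1⟩ := hswap ⟨p, hp⟩ j
    obtain ⟨e2, l2⟩ := hswap ⟨q, hq⟩ j
    simp only [Fin.val_mk] at e1 e2 l1 l2
    have hh : qel t X (qMul p (2 ^ (j : ℕ))) = qel t X (qMul q (2 ^ (j : ℕ))) := by
      rw [← hQ.qel_mul hp hX, ← hQ.qel_mul hq hX, h]
    have hh' : qel t X (qMul (2 ^ (j : ℕ)) p) = qel t X (qMul (2 ^ (j : ℕ)) q) := by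
      rw [← hQ.qel_mul hX hp, ← hQ.qel_mul hX hq, h]
    rw [e1, e2, ← hQ.qel_mul (qMul_lt hX hp) (by omega), ← hQ.qel_mul (qMul_lt hX hq) (by omega), hh',
      mul_right_inj] at hh
    simp only [Fin.val_mk] at hj
    rcases (show cb p (2 ^ (j : ℕ)) = 0 ∨ cb p (2 ^ (j : ℕ)) = 1 by omega) with a | a <;>
      rcases (show cb q (2 ^ (j : ℕ)) = 0 ∨ cb q (2 ^ (j : ℕ)) = 1 by omega) with b | b <;>
      rw [a, b] at hh hj
    all_goals first | exact hj rfl | skip
    · rw [Nat.mul_zero, Nat.mul_one, hQ.qel_zero, hQ.qel_t] at hh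
      exact hQ.t1 hh.symm
    · rw [Nat.mul_zero, Nat.mul_one, hQ.qel_zero, hQ.qel_t] at hh
      exact hQ.t1 hh

theorem surj (S : Subgroup G) [Finite S] (hS : Nat.card S = 128) (ht : t ∈ S) (hX : ∀ j < 6, X j ∈ S) :
    ∀ g ∈ S, ∃ p < 128, qel t X p = g := by
  have hmem : ∀ p, qel t X p ∈ S := fun p =>
    mul_mem (mul_mem (mul_mem (mul_mem (pow_mem (hX 0 (by norm_num)) _) (pow_mem (hX 1 (by norm_num)) _))
      (pow_mem (hX 2 (by norm_num)) _))
      (mul_mem (mul_mem (pow_mem (hX 3 (by norm_num)) _) (pow_mem (hX 4 (by norm_num)) _))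
      (pow_mem (hX 5 (by norm_num)) _))) (pow_mem ht _)
  let F : Fin 128 → S := fun p => ⟨qel t X p, hmem p⟩
  have hF : Function.Bijective F := (Nat.bijective_iff_injective_and_card F).2
    ⟨fun p q h => Fin.ext (hQ.qel_inj p.isLt q.isLt (congrArg Subtype.val h)), by rw [Nat.card_fin, hS]⟩
  intro g hg
  obtain ⟨p, hp⟩ := hF.2 ⟨g, hg⟩
  exact ⟨p, p.isLt, congrArg Subtype.val hp⟩

end QGens

end CfsgLib.Recog.Held.Frame
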