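import Cfsg.Agent.Lib.Recog.Held.FrameCheck

set_option autoImplicit false

/-!
Kernel search for the second generator modulo `t`, and the possible relator values.
-/

namespace CfsgLib.Recog.Held.Frame

/-- Commutator bit of two codes. -/
noncomputable def cb (p r : ℕ) : ℕ :=
  Nat.xor (field 1 0x96 (Nat.land (Nat.land (Nat.shiftRight p 3) 7) (Nat.land r 7)))
    (field 1 0x96 (Nat.land (Nat.land (Nat.shiftRight r 3) 7) (Nat.land p 7)))

/-- Square bit of a code. -/
noncomputable def sb (p : ℕ) : ℕ :=
  field 1 0x96 (Nat.land (Nat.land (Nat.shiftRight p 3) 7) (Nat.land p 7))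

/-- The admissibility of the next image. -/
noncomputable def guard (pre : List ℕ) (v : ℕ) : Bool :=
  !(Nat.beq v 0) && (Nat.beq (sb v) 0 &&
    (List.range pre.length).all fun j =>
      Nat.beq (cb v (pre.getD j 0)) (cb (2 ^ pre.length) (2 ^ j)) &&
        Nat.beq (cb v (2 ^ j)) (cb (2 ^ pre.length) (pre.getD j 0)))

/-- Six images in a number. -/
noncomputable def pack : List ℕ → ℕ
  | [] => 0
  | v :: r => v + 128 * pack r

/-- Conjugation by a word. -/
noncomputable def evalF (fa fc : ℕ) : List ℕ → ℕ → ℕ
  | [], q => q
  | s :: w, q => applyAut (cond (Nat.beq s 0) fa fc) (evalF fa fc w q)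

/-- The image of the generator of order seven. -/
noncomputable def genC : ℕ := field 42 genData 1

/-- Powers of the generator of order seven modulo `t`. -/
noncomputable def powC : ℕ → ℕ → ℕ
  | 0, q => q
  | n + 1, q => Nat.land (applyAut genC (powC n q)) 63

/-- The conclusion for six images. -/
noncomputable def leaf (ims : List ℕ) : Bool :=
  let A := pack ims
  let lin := fun q => Nat.land (applyAut A q) 63
  !((List.range 6).all fun j => Nat.beq (lin (ims.getD j 0)) (2 ^ j)) ||
    ((List.range 6).all fun j => Nat.beq (ims.getD j 0) (2 ^ j)) ||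
    !((List.range 6).all fun j => Nat.beq (Nat.land (evalF A genC (relW 2) (2 ^ j)) 63) (2 ^ j)) ||
    !((List.range 6).all fun j => Nat.beq (Nat.land (evalF A genC (relW 3) (2 ^ j)) 63) (2 ^ j)) ||
    (List.range 7).any fun k => (List.range 3).any fun ty => (List.range 6).all fun j =>
      Nat.beq (powC k (lin (powC (7 - k) (2 ^ j)))) (Nat.land (field 7 (field 42 genData (2 * ty)) j) 63)

/-- The search. -/
noncomputable def srch : ℕ → List ℕ → Bool
  | 0, pre => leaf pre
  | n + 1, pre => (List.range 64).all fun v => !(guard pre v) || srch n (pre ++ [v])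

/-- Candidates for the value of a relator. -/
noncomputable def valOK (ty r : ℕ) : Bool :=
  (List.range 128).all fun p =>
    !((List.range 6).all fun j => Nat.beq (qMul p (2 ^ j))
      (qMul (evalF (field 42 genData (2 * ty)) genC (relW r) (2 ^ j)) p)) ||
      (Nat.beq p (relVal (2 * ty) r) || Nat.beq p (Nat.xor (relVal (2 * ty) r) 64))

/-- A pair of values belongs to a surviving or to a failing parameter pair. -/
noncomputable def pairOK (ty : ℕ) : Bool :=
  [relVal (2 * ty) 0, Nat.xor (relVal (2 * ty) 0) 64].all fun p0 =>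
    [relVal (2 * ty) 3, Nat.xor (relVal (2 * ty) 3) 64].all fun p3 =>
      ((List.range 6).any fun i => Nat.beq (i / 2) ty && (Nat.beq (relVal i 0) p0 &&
        (Nat.beq (relVal i 1) 0 && (Nat.beq (relVal i 2) (relVal (2 * ty) 2) && Nat.beq (relVal i 3) p3)))) ||
      (List.range 6).any fun j => Nat.beq (j / 2) ty && (Nat.beq (failV j 0) p0 &&
        (Nat.beq (failV j 1) 0 && (Nat.beq (failV j 2) (relVal (2 * ty) 2) && Nat.beq (failV j 3) p3)))

theorem search_check : srch 6 [] = true := by decide +kernel

theorem val_checks : (List.range 3).all (fun ty => valOK ty 0 && (valOK ty 2 && valOK ty 3)) = true := by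
  decide +kernel

theorem pair_checks : (List.range 3).all pairOK = true := by decide +kernel

end CfsgLib.Recog.Held.Frame
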