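import Cfsg.Agent.Lib.Recog.Held.FrameQ
import Cfsg.Agent.Lib.Recog.Held.FrameSetting

set_option autoImplicit false

/-!
An element of order seven and six generators on which it acts in standard form.
-/

namespace CfsgLib.Recog.Held.Frame

open Subgroup
open scoped MatrixGroups commutatorElement

variable {G : Type*} [Group G]

/-- The commutator bit. -/
noncomputable def bb (q r : G) : ZMod 2 :=
  haveI := Classical.dec (q * r = r * q)
  if q * r = r * q then 0 else 1

theorem bb_zero {q r : G} : bb q r = 0 ↔ q * r = r * q := by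
  unfold bb
  split_ifs with h <;> simp [h]

theorem bb_symm (q r : G) : bb q r = bb r q := by
  unfold bb
  split_ifs with h h' h' <;> first | rfl | exact absurd h.symm h' | exact absurd h'.symm h

theorem zmod_cases : ∀ a : ZMod 2, a = 0 ∨ a = 1 := by decide

theorem modEq_of_eq {a b n : ℕ} (h : a = b) : a ≡ b [MOD n] := h ▸ rfl

theorem card_fixed {β : Type*} [Finite β] (σ : Equiv.Perm β) (h : σ ^ 7 = 1) :
    Nat.card β ≡ Nat.card {x : β // σ x = x} [MOD 7] := by
  classical
  have : Fact (Nat.Prime 7) := ⟨by norm_num⟩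
  have hp : IsPGroup 7 (zpowers σ) := fun ⟨x, hx⟩ => ⟨1, Subtype.ext (by
    obtain ⟨k, rfl⟩ := mem_zpowers_iff.1 hx
    show (σ ^ k) ^ 7 ^ 1 = 1
    rw [pow_one, ← zpow_natCast, ← zpow_mul, mul_comm, zpow_mul, zpow_natCast, h, one_zpow])⟩
  refine (hp.card_modEq_card_fixedPoints β).trans ?_
  refine modEq_of_eq (Nat.card_congr (Equiv.subtypeEquivRight fun x => ⟨fun hx => hx ⟨σ, mem_zpowers σ⟩,
    fun hx g => ?_⟩))
  have hs : σ ∈ MulAction.stabilizer (Equiv.Perm β) x := hx
  exact (zpowers_le.2 hs) g.2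

namespace Setting

variable {t : G} {S : Subgroup G} (h : Setting t S)
include h

theorem tne (q r : G) (hq : q ∈ S) (hr : r ∈ S) (hb : bb q r ≠ 0) : q * r = r * q * t :=
  (h.comm q hq r hr).resolve_left fun e => hb (bb_zero.2 e)

theorem bb_val {q r : G} (hq : q ∈ S) (hr : r ∈ S) : q * r = r * q * t ^ (bb q r).val := by
  rcases zmod_cases (bb q r) with e | e <;> rw [e]
  · rw [ZMod.val_zero, pow_zero, mul_one]; exact bb_zero.1 e
  · rw [ZMod.val_one, pow_one]; exact h.tne q r hq hr (by rw [e]; exact one_ne_zero)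

theorem bb_mul {q q' r : G} (hq : q ∈ S) (hq' : q' ∈ S) (hr : r ∈ S) : bb (q * q') r = bb q r + bb q' r := by
  have h1 := Cx.mul_left (t := t) (h.bb_val hq hr) (h.bb_val hq' hr) (h.le q' hq').symm
  unfold Cx at h1
  have h2 := h.bb_val (mul_mem hq hq') hr
  rw [h2, mul_right_inj] at h1
  rw [← pow_mod_two h.t2 ((bb q r).val + (bb q' r).val), ← ZMod.val_add] at h1
  rcases zmod_cases (bb (q * q') r) with e | e <;> rcases zmod_cases (bb q r + bb q' r) with e' | e' <;>
    rw [e, e'] at h1 ⊢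
  · rw [ZMod.val_zero, ZMod.val_one, pow_zero, pow_one] at h1
    exact absurd h1.symm h.t1
  · rw [ZMod.val_zero, ZMod.val_one, pow_zero, pow_one] at h1
    exact absurd h1 h.t1

theorem bb_mul' {q r r' : G} (hq : q ∈ S) (hr : r ∈ S) (hr' : r' ∈ S) : bb q (r * r') = bb q r + bb q r' := by
  rw [bb_symm, h.bb_mul hr hr' hq, bb_symm r q, bb_symm r' q]

theorem bb_t {r : G} (hr : r ∈ S) : bb t r = 0 := bb_zero.2 (h.le r hr).eq.symm

/-- Central elements of `S` have zero pairing. -/
theorem bb_Z {q r : G} (hr : r ∈ S) (hq : q = 1 ∨ q = t) : bb q r = 0 := by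
  rcases hq with rfl | rfl
  · exact bb_zero.2 (by rw [one_mul, mul_one])
  · exact h.bb_t hr

/-- An element of order seven outside `S`. -/
theorem exists_seven [Finite G] (c₀ : SL(3, ZMod 2)) (hc₀ : orderOf c₀ = 7) :
    ∃ (c : G) (hc : c ∈ centralizer ({t} : Set G)), c ^ 7 = 1 ∧ h.ψ ⟨c, hc⟩ = c₀ ∧ c ∉ S := by
  obtain ⟨g, hg⟩ := h.ψ_surj c₀
  have h7 : (g : G) ^ 7 ∈ S := by
    have : h.ψ (g ^ 7) = 1 := by rw [map_pow, hg, ← hc₀, pow_orderOf_eq_one]
    simpa using (h.ψ_ker _).1 this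
  have h4 : ((g : G) ^ 7) ^ 4 = 1 := by
    rcases h.sq _ h7 with e | e
    · rw [show 4 = 2 * 2 from rfl, pow_mul, pow_two ((g : G) ^ 7), e, one_pow]
    · rw [show 4 = 2 * 2 from rfl, pow_mul, pow_two ((g : G) ^ 7), e, pow_two, h.t2]
  refine ⟨(g : G) ^ 8, pow_mem g.2 8, ?_, ?_, ?_⟩
  · rw [← pow_mul, show 8 * 7 = 7 * 4 * 2 by norm_num, pow_mul, pow_mul, h4, one_pow]
  · show h.ψ (g ^ 8) = c₀
    rw [map_pow, hg, pow_succ, ← hc₀, pow_orderOf_eq_one, one_mul]
  · intro hS
    have h1 : h.ψ (g ^ 8) = 1 := (h.ψ_ker _).2 (by simpa using hS)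
    rw [map_pow, hg, pow_succ, ← hc₀, pow_orderOf_eq_one, one_mul] at h1
    rw [h1, orderOf_one] at hc₀
    omega

/-- Six generators adapted to an element of order seven. -/
theorem exists_gens [Finite G] (c : G) (hct : Commute c t) (hc7 : c ^ 7 = 1) (hcS : c ∉ S) :
    ∃ X : ℕ → G, QGens t X ∧ (∀ j < 6, X j ∈ S) ∧ ∀ j < 6, c * X j * c⁻¹ = qel t X (field 7 genC j) := by
  classical
  let φ : G →* G := (MulAut.conj c).toMonoidHom
  have φS : ∀ {q}, q ∈ S → φ q ∈ S := fun hq => h.conj_mem c hct _ hq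
  have φt : φ t = t := by
    show c * t * c⁻¹ = t
    rw [hct.eq, mul_inv_cancel_right]
  have φ7 : ∀ q, φ (φ (φ (φ (φ (φ (φ q)))))) = q := by
    intro q
    show c * (c * (c * (c * (c * (c * (c * q * c⁻¹) * c⁻¹) * c⁻¹) * c⁻¹) * c⁻¹) * c⁻¹) * c⁻¹ = q
    calc _ = c ^ 7 * q * (c ^ 7)⁻¹ := by simp only [pow_succ, pow_zero, one_mul]; group
      _ = q := by rw [hc7]; group
  have φinj : Function.Injective φ := (MulAut.conj c).injective
  have bφ : ∀ q r, bb (φ q) (φ r) = bb q r := by
    intro q r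
    have : (φ q * φ r = φ r * φ q) ↔ (q * r = r * q) := by
      rw [← map_mul, ← map_mul]; exact φinj.eq_iff
    rcases zmod_cases (bb q r) with e | e
    · rw [e, bb_zero, this]; exact bb_zero.1 e
    · rw [e]
      rcases zmod_cases (bb (φ q) (φ r)) with e' | e'
      · rw [bb_zero, this, ← bb_zero, e] at e'
        exact absurd e' one_ne_zero
      · exact e'
  have fixed_eq : ∀ {q}, q ∈ S → φ q = q * t → False := by
    intro q hq he
    have := φ7 q
    simp only [map_mul, he, φt, mul_assoc, h.t2, mul_one] at this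
    exact h.t1 (mul_eq_left.1 this)
  -- fixed elements
  have hfix : ∀ q ∈ S, φ q = q → q = 1 ∨ q = t := by
    let σ₀ : Equiv.Perm G := (MulAut.conj c).toEquiv
    let P : Subgroup G := S ⊓ φ.eqLocus (MonoidHom.id G)
    have hP : ∀ {q}, q ∈ P ↔ q ∈ S ∧ φ q = q := fun {q} => Iff.rfl
    have hσS : ∀ q, σ₀ q ∈ S ↔ q ∈ S := fun q => Iff.symm ⟨φS, fun hq => by
      have := h.conj_mem c⁻¹ hct.inv_left _ hq
      rwa [show c⁻¹ * σ₀ q * c⁻¹⁻¹ = q by show c⁻¹ * (c * q * c⁻¹) * c⁻¹⁻¹ = q; group] at this⟩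
    have hcard : Nat.card P ≡ 128 [MOD 7] := by
      have h1 := card_fixed (σ₀.subtypePerm (p := fun q => q ∈ S) hσS) (by
        refine Equiv.ext fun q => Subtype.ext ?_
        rw [Equiv.Perm.subtypePerm_pow]
        show (σ₀ ^ 7) (q : G) = q
        simp only [pow_succ, pow_zero, one_mul, Equiv.Perm.mul_apply]
        exact φ7 q)
      rw [show Nat.card {q // q ∈ S} = 128 from h.card] at h1
      refine Nat.ModEq.trans (modEq_of_eq (Nat.card_congr
        ⟨fun p => ⟨⟨p.1, p.2.1⟩, Subtype.ext p.2.2⟩, fun p => ⟨p.1.1, p.1.2, congrArg Subtype.val p.2⟩,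
          fun p => rfl, fun p => rfl⟩)) h1.symm
    obtain ⟨k, hk⟩ := (IsPGroup.of_card (n := 7) (by rw [h.card]; norm_num) : IsPGroup 2 S).to_le
      (inf_le_left : P ≤ S) |>.exists_card_eq
    have hcen : ∀ z ∈ P, (∀ r ∈ P, z * r = r * z) → z = 1 ∨ z = t := by
      intro z hz hcz
      obtain ⟨hzS, hzφ⟩ := hP.1 hz
      refine h.center z hzS fun r hr => bb_zero.1 ?_
      have inv : ∀ q, bb z (φ q) = bb z q := fun q => by
        conv_lhs => rw [← hzφ]
        exact bφ z q
      obtain ⟨N, hN⟩ : ∃ N, N = r * φ r * φ (φ r) * φ (φ (φ r)) * φ (φ (φ (φ r))) *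
          φ (φ (φ (φ (φ r)))) * φ (φ (φ (φ (φ (φ r))))) := ⟨_, rfl⟩
      have m1 := φS hr
      have m2 := φS m1
      have m3 := φS m2
      have m4 := φS m3
      have m5 := φS m4
      have m6 := φS m5
      have hNS : N ∈ S :=
        hN ▸ mul_mem (mul_mem (mul_mem (mul_mem (mul_mem (mul_mem hr m1) m2) m3) m4) m5) m6
      have hzN : bb z N = 7 * bb z r := by
        rw [hN, h.bb_mul' hzS (mul_mem (mul_mem (mul_mem (mul_mem (mul_mem hr m1) m2) m3) m4) m5) m6,
          h.bb_mul' hzS (mul_mem (mul_mem (mul_mem (mul_mem hr m1) m2) m3) m4) m5,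
          h.bb_mul' hzS (mul_mem (mul_mem (mul_mem hr m1) m2) m3) m4,
          h.bb_mul' hzS (mul_mem (mul_mem hr m1) m2) m3, h.bb_mul' hzS (mul_mem hr m1) m2,
          h.bb_mul' hzS hr m1, inv (φ (φ (φ (φ (φ r))))), inv (φ (φ (φ (φ r)))), inv (φ (φ (φ r))),
          inv (φ (φ r)), inv (φ r), inv r]
        ring
      have hφN : φ N = N := by
        have h1 : φ N = r⁻¹ * N * r := by
          rw [hN]
          simp only [map_mul, φ7 r]
          group
        rcases h.comm N hNS r hr with e | e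
        · rw [h1, mul_assoc, e, inv_mul_cancel_left]
        · refine absurd (h1.trans ?_) (fixed_eq hNS)
          rw [mul_assoc, e, ← mul_assoc, inv_mul_cancel_left]
      have hzero : bb z N = 0 := bb_zero.2 (hcz N (hP.2 ⟨hNS, hφN⟩))
      rw [hzN] at hzero
      revert hzero
      rcases zmod_cases (bb z r) with e | e <;> rw [e] <;> decide
    have tP : t ∈ P := hP.2 ⟨h.tS, φt⟩
    have hk7 : k ≤ 7 := by
      have := card_le_of_le (inf_le_left : P ≤ S)
      rw [hk, h.card, show 128 = 2 ^ 7 from rfl] at this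
      exact (Nat.pow_le_pow_iff_right one_lt_two).1 this
    have hkcases : k = 1 ∨ k = 4 ∨ k = 7 := by
      rw [hk] at hcard
      unfold Nat.ModEq at hcard
      interval_cases k <;> norm_num at hcard <;> omega
    intro q hq hφq
    rcases hkcases with rfl | rfl | rfl
    · by_contra hne
      push Not at hne
      have : ({1, t, q} : Finset G).card ≤ Nat.card P := by
        have hsub : ∀ x ∈ ({1, t, q} : Finset G), x ∈ P := by
          simp only [Finset.mem_insert, Finset.mem_singleton]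
          rintro x (rfl | rfl | rfl)
          exacts [one_mem P, tP, hP.2 ⟨hq, hφq⟩]
        have hinj : Function.Injective
            (fun x : ({1, t, q} : Finset G) => (⟨x.1, hsub x.1 x.2⟩ : P)) :=
          fun x y e => Subtype.ext (congrArg Subtype.val e :)
        simpa only [Nat.card_eq_finsetCard] using Nat.card_le_card_of_injective _ hinj
      rw [hk, Finset.card_insert_of_notMem, Finset.card_insert_of_notMem, Finset.card_singleton] at this
      · norm_num at this
      · simpa using fun e => hne.2 e.symm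
      · simp [Ne.symm h.t1, Ne.symm hne.1]
    · exfalso
      have hna : ¬ IsMulCommutative P := fun hc => by
        have hle : P ≤ zpowers t := fun z hz => by
          rcases hcen z hz (fun r hr => congrArg Subtype.val (hc.is_comm.comm ⟨z, hz⟩ ⟨r, hr⟩)) with e | e
          · rw [e]; exact one_mem _
          · rw [e]; exact mem_zpowers t
        have := card_le_of_le hle
        rw [hk, Nat.card_zpowers, orderOf_eq_prime (by rw [pow_two, h.t2]) h.t1] at this
        norm_num at this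
      have hce : Cfsg.IsExtraspecial 2 P := by
        have hcenter : Subgroup.center P = zpowers (⟨t, tP⟩ : P) := by
          refine le_antisymm (fun z hz => ?_) (zpowers_le.2 (mem_center_iff.2 fun r =>
            Subtype.ext (show (r : G) * t = t * r from (h.le r (hP.1 r.2).1).eq)))
          rcases hcen z z.2 (fun r hr => congrArg Subtype.val (mem_center_iff.1 hz ⟨r, hr⟩).symm) with e | e
          · rw [show z = 1 from Subtype.ext e]; exact one_mem _
          · rw [show z = ⟨t, tP⟩ from Subtype.ext e]; exact mem_zpowers _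
        refine CfsgLib.PGroups.isExtraspecial_of (IsPGroup.of_card hk) hna ?_ ?_ ?_
        · rw [hcenter, Nat.card_zpowers, orderOf_eq_prime (p := 2) (Subtype.ext (by simp [pow_two, h.t2]))
            fun e => h.t1 (congrArg Subtype.val e)]
        · rw [_root_.commutator_def, Subgroup.commutator_le]
          rintro x - y -
          rw [hcenter]
          rcases h.comm x (hP.1 x.2).1 y (hP.1 y.2).1 with e | e
          · rw [show ⁅x, y⁆ = 1 from commutatorElement_eq_one_iff_mul_comm.2 (Subtype.ext e)]; exact one_mem _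
          · have : ⁅x, y⁆ = ⟨t, tP⟩ := by
              rw [commutatorElement_def]
              refine Subtype.ext ?_
              show (x : G) * y * (x : G)⁻¹ * (y : G)⁻¹ = t
              rw [e, mul_assoc ((y : G) * x) t, (h.le _ (inv_mem (hP.1 x.2).1)).eq.symm]
              rw [mul_assoc ((y : G) * x), mul_assoc (x : G)⁻¹, (h.le _ (inv_mem (hP.1 y.2).1)).eq.symm]
              group
            rw [this]; exact mem_zpowers _
        · intro x
          rw [hcenter, pow_two]
          rcases h.sq x (hP.1 x.2).1 with e | e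
          · rw [show x * x = 1 from Subtype.ext e]; exact one_mem _
          · rw [show x * x = ⟨t, tP⟩ from Subtype.ext e]; exact mem_zpowers _
      obtain ⟨n, -, hn, -⟩ := CfsgLib.PGroups.IsExtraspecial.exists_card hce
      rw [hk] at hn
      have := (Nat.pow_right_injective le_rfl) hn
      omega
    · exfalso
      have hPS : P = S := eq_of_le_of_card_ge inf_le_left (by rw [hk, h.card]; norm_num)
      refine hcS (h.cent c hct fun r hr => ?_)
      have : φ r = r := (hP.1 (hPS.symm ▸ hr)).2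
      exact mul_inv_eq_iff_eq_mul.1 this
  -- the two halves
  let M1 : G → G := fun q => φ (φ (φ q)) * φ q * q
  let M2 : G → G := fun q => φ (φ (φ q)) * φ (φ q) * q
  let Z : G → Prop := fun q => q = 1 ∨ q = t
  have m : ∀ {q}, q ∈ S → φ q ∈ S ∧ φ (φ q) ∈ S ∧ φ (φ (φ q)) ∈ S := fun hq =>
    ⟨φS hq, φS (φS hq), φS (φS (φS hq))⟩
  have b1 : ∀ {q r}, q ∈ S → r ∈ S → bb (M1 q) r = bb (φ (φ (φ q))) r + bb (φ q) r + bb q r := fun hq hr => by
    rw [h.bb_mul (mul_mem (m hq).2.2 (m hq).1) hq hr, h.bb_mul (m hq).2.2 (m hq).1 hr]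
  have b2 : ∀ {q r}, q ∈ S → r ∈ S → bb (M2 q) r = bb (φ (φ (φ q))) r + bb (φ (φ q)) r + bb q r := fun hq hr => by
    rw [h.bb_mul (mul_mem (m hq).2.2 (m hq).2.1) hq hr, h.bb_mul (m hq).2.2 (m hq).2.1 hr]
  have M1S : ∀ {q}, q ∈ S → M1 q ∈ S := fun hq => mul_mem (mul_mem (m hq).2.2 (m hq).1) hq
  have M2S : ∀ {q}, q ∈ S → M2 q ∈ S := fun hq => mul_mem (mul_mem (m hq).2.2 (m hq).2.1) hq
  -- products of the two maps are central
  have hprod : ∀ q ∈ S, Z (M1 (M2 q)) := by
    intro q hq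
    obtain ⟨s1, s2, s3⟩ := m hq
    have s4 := φS s3
    have s5 := φS s4
    have s6 := φS s5
    obtain ⟨N, hN⟩ : ∃ N, N = q * φ q * φ (φ q) * φ (φ (φ q)) * φ (φ (φ (φ q))) *
        φ (φ (φ (φ (φ q)))) * φ (φ (φ (φ (φ (φ q))))) := ⟨_, rfl⟩
    have hNS : N ∈ S :=
      hN ▸ mul_mem (mul_mem (mul_mem (mul_mem (mul_mem (mul_mem hq s1) s2) s3) s4) s5) s6
    have hbN : ∀ r ∈ S, bb N r = bb q r + bb (φ q) r + bb (φ (φ q)) r + bb (φ (φ (φ q))) r +
        bb (φ (φ (φ (φ q)))) r + bb (φ (φ (φ (φ (φ q))))) r + bb (φ (φ (φ (φ (φ (φ q)))))) r := fun r hr => by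
      rw [hN, h.bb_mul (mul_mem (mul_mem (mul_mem (mul_mem (mul_mem hq s1) s2) s3) s4) s5) s6 hr,
        h.bb_mul (mul_mem (mul_mem (mul_mem (mul_mem hq s1) s2) s3) s4) s5 hr,
        h.bb_mul (mul_mem (mul_mem (mul_mem hq s1) s2) s3) s4 hr,
        h.bb_mul (mul_mem (mul_mem hq s1) s2) s3 hr, h.bb_mul (mul_mem hq s1) s2 hr, h.bb_mul hq s1 hr]
    have hφN : φ N = N := by
      have h1 : φ N = q⁻¹ * N * q := by
        rw [hN]
        simp only [map_mul, φ7 q]
        group
      rcases h.comm N hNS q hq with e | e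
      · rw [h1, mul_assoc, e, inv_mul_cancel_left]
      · refine absurd (h1.trans ?_) (fixed_eq hNS)
        rw [mul_assoc, e, ← mul_assoc, inv_mul_cancel_left]
    refine h.center _ (M1S (M2S hq)) fun r hr => bb_zero.1 ?_
    have hz : bb N r = 0 := h.bb_Z hr (hfix N hNS hφN)
    have e3 : φ (φ (φ (M2 q))) = φ (φ (φ (φ (φ (φ q))))) * φ (φ (φ (φ (φ q)))) * φ (φ (φ q)) := by
      simp only [M2, map_mul]
    have e1 : φ (M2 q) = φ (φ (φ (φ q))) * φ (φ (φ q)) * φ q := by simp only [M2, map_mul]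
    rw [b1 (M2S hq) hr, e3, e1, h.bb_mul (mul_mem s6 s5) s3 hr, h.bb_mul s6 s5 hr,
      h.bb_mul (mul_mem s4 s3) s1 hr, h.bb_mul s4 s3 hr, b2 hq hr]
    rw [hbN r hr] at hz
    have key : ∀ a b c d e f g : ZMod 2, a + b + c + d + e + f + g = 0 →
        g + f + d + (e + d + b) + (d + c + a) = 0 := by decide
    exact key _ _ _ _ _ _ _ hz
  -- shifted pairings
  have hsym : ∀ {v : G}, v ∈ S → ∀ w ∈ S, bb (φ v) w = bb v (φ (φ (φ (φ (φ (φ w)))))) := by
    intro v hv w hw
    conv_lhs => rw [← φ7 w]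
    rw [bφ]
  -- existence of both halves
  have exist : ∀ (M : G → G), (M = M1 ∨ M = M2) → ∃ x ∈ S, ¬ Z x ∧ Z (M x) := by
    intro M hM
    by_contra hno
    push Not at hno
    have hall : ∀ q ∈ S, Z (if M = M1 then M2 q else M1 q) := by
      intro q hq
      by_cases e : M = M1
      · rw [if_pos e]
        by_contra hne
        exact hno _ (M2S hq) hne (e ▸ hprod q hq)
      · rw [if_neg e]
        by_contra hne
        refine hno _ (M1S hq) hne ?_
        have e2 : M = M2 := hM.resolve_left e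
        rw [e2]
        refine h.center _ (M2S (M1S hq)) fun r hr => bb_zero.1 ?_
        have h0 := h.bb_Z hr (hprod q hq)
        obtain ⟨s1, s2, s3⟩ := m hq
        have s4 := φS s3
        have s5 := φS s4
        have s6 := φS s5
        rw [b1 (M2S hq) hr] at h0
        rw [b2 (M1S hq) hr]
        simp only [M1, M2, map_mul] at h0 ⊢
        rw [h.bb_mul (mul_mem s6 s5) s3 hr, h.bb_mul s6 s5 hr, h.bb_mul (mul_mem s4 s3) s1 hr,
          h.bb_mul s4 s3 hr, h.bb_mul (mul_mem s3 s2) hq hr, h.bb_mul s3 s2 hr] at h0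
        rw [h.bb_mul (mul_mem s6 s4) s3 hr, h.bb_mul s6 s4 hr, h.bb_mul (mul_mem s5 s3) s2 hr,
          h.bb_mul s5 s3 hr, h.bb_mul (mul_mem s3 s1) hq hr, h.bb_mul s3 s1 hr]
        rw [← h0]; ring
    -- the adjoint vanishes too
    obtain ⟨w₀, hw₀, hw₀'⟩ : ∃ w ∈ S, ¬ Z w := by
      by_contra hcon
      push Not at hcon
      have hle : S ≤ zpowers t := fun z hz => by
        rcases hcon z hz with e | e
        · rw [e]; exact one_mem _
        · rw [e]; exact mem_zpowers t
      have := card_le_of_le hle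
      rw [h.card, Nat.card_zpowers, orderOf_eq_prime (by rw [pow_two, h.t2]) h.t1] at this
      norm_num at this
    have adj : ∀ q ∈ S, Z (M1 q) ∧ Z (M2 q) := by
      intro q hq
      by_cases e : M = M1
      · have h2 : ∀ q ∈ S, Z (M2 q) := fun q hq => by simpa [e] using hall q hq
        refine ⟨h.center _ (M1S hq) fun r hr => bb_zero.1 ?_, h2 q hq⟩
        obtain ⟨r', hr', rfl⟩ : ∃ r' ∈ S, φ (φ (φ r')) = r := by
          exact ⟨φ (φ (φ (φ r))), φS (φS (φS (φS hr))), φ7 r⟩
        have h0 := h.bb_Z hq (h2 r' hr')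
        rw [b2 hr' hq] at h0
        rw [b1 hq (m hr').2.2]
        rw [bφ, bφ, bφ, bb_symm q r', bb_symm q (φ (φ (φ r'))), bb_symm (φ q) (φ (φ (φ r')))]
        rw [bφ (φ (φ r')) q, ← h0]
        ring
      · have h1 : ∀ q ∈ S, Z (M1 q) := fun q hq => by simpa [e] using hall q hq
        refine ⟨h1 q hq, h.center _ (M2S hq) fun r hr => bb_zero.1 ?_⟩
        obtain ⟨r', hr', rfl⟩ : ∃ r' ∈ S, φ (φ (φ r')) = r := by
          exact ⟨φ (φ (φ (φ r))), φS (φS (φS (φS hr))), φ7 r⟩
        have h0 := h.bb_Z hq (h1 r' hr')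
        rw [b1 hr' hq] at h0
        rw [b2 hq (m hr').2.2]
        rw [bφ, bφ, bφ, bb_symm q r', bb_symm q (φ (φ (φ r'))), bb_symm (φ (φ q)) (φ (φ (φ r')))]
        rw [bφ (φ (φ r')) (φ q), bφ (φ r') q, ← h0]
        ring
    -- then `T = 1`
    refine hw₀' (hfix w₀ hw₀ ?_)
    have hd : ∀ r ∈ S, bb (φ w₀ * (φ (φ w₀))) r = 0 := by
      intro r hr
      have a := h.bb_Z hr (adj w₀ hw₀).1
      have b := h.bb_Z hr (adj w₀ hw₀).2
      rw [b1 hw₀ hr] at a
      rw [b2 hw₀ hr] at b
      rw [h.bb_mul (m hw₀).1 (m hw₀).2.1 hr]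
      calc bb (φ w₀) r + bb (φ (φ w₀)) r
          = (bb (φ (φ (φ w₀))) r + bb (φ w₀) r + bb w₀ r) + (bb (φ (φ (φ w₀))) r + bb (φ (φ w₀)) r + bb w₀ r) := by
            generalize bb (φ w₀) r = a, bb (φ (φ w₀)) r = b, bb (φ (φ (φ w₀))) r = c, bb w₀ r = d
            revert a b c d; decide
        _ = 0 := by rw [a, b, add_zero]
    have hz := h.center _ (mul_mem (m hw₀).1 (m hw₀).2.1) (fun r hr => bb_zero.1 (hd r hr))
    rw [← map_mul] at hz
    have hz' : w₀ * φ w₀ = 1 ∨ w₀ * φ w₀ = t := by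
      rcases hz with e | e
      · exact Or.inl (φinj (e.trans (map_one φ).symm))
      · exact Or.inr (φinj (e.trans φt.symm))
    -- `φ w₀ = w₀` or `φ w₀ = w₀ t`
    rcases h.sq w₀ hw₀ with e | e <;> rcases hz' with e' | e'
    · exact mul_left_cancel (e'.trans e.symm)
    · refine absurd (mul_left_cancel (a := w₀) (e'.trans ?_)) (fixed_eq hw₀)
      rw [← mul_assoc, e, one_mul]
    · refine absurd (mul_left_cancel (a := w₀) (e'.trans ?_)) (fixed_eq hw₀)
      rw [← mul_assoc, e, h.t2]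
    · exact mul_left_cancel (e'.trans e.symm)
  -- orbit facts
  have orbit : ∀ (x : G), x ∈ S → ¬ Z x → (Z (M1 x) ∨ Z (M2 x)) →
      bb x (φ x) = 0 ∧ bb x (φ (φ x)) = 0 ∧ x * x = 1 := by
    intro x hx hxZ hM
    obtain ⟨s1, s2, s3⟩ := m hx
    have s0 : bb x x = 0 := bb_zero.2 rfl
    have t1 : bb (φ x) (φ x) = 0 := bb_zero.2 rfl
    have key : bb x (φ x) = 0 ∧ bb x (φ (φ x)) = 0 := by
      rcases hM with hM | hM
      · have u0 := h.bb_Z hx hM
        have u1 := h.bb_Z s1 hM
        have u2 := h.bb_Z s2 hM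
        rw [b1 hx hx] at u0; rw [b1 hx s1] at u1; rw [b1 hx s2] at u2
        rw [bb_symm (φ (φ (φ x))) x, bb_symm (φ x) x, s0] at u0
        rw [bb_symm (φ (φ (φ x))) (φ x), bφ, t1] at u1
        rw [bb_symm (φ (φ (φ x))) (φ (φ x))] at u2
        simp only [bφ] at u2
        generalize bb x (φ x) = p at *
        generalize bb x (φ (φ x)) = q at *
        generalize bb x (φ (φ (φ x))) = r at *
        revert u0 u1 u2; revert p q r; decide
      · have u0 := h.bb_Z hx hM
        have u1 := h.bb_Z s1 hM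
        have u2 := h.bb_Z s2 hM
        rw [b2 hx hx] at u0; rw [b2 hx s1] at u1; rw [b2 hx s2] at u2
        rw [bb_symm (φ (φ (φ x))) x, bb_symm (φ (φ x)) x, s0] at u0
        rw [bb_symm (φ (φ (φ x))) (φ x), bφ, bb_symm (φ (φ x)) (φ x), bφ] at u1
        rw [bb_symm (φ (φ (φ x))) (φ (φ x)), bφ, bφ, show bb (φ (φ x)) (φ (φ x)) = 0 from bb_zero.2 rfl] at u2
        generalize bb x (φ x) = p at *
        generalize bb x (φ (φ x)) = q at *
        generalize bb x (φ (φ (φ x))) = r at *
        revert u0 u1 u2; revert p q r; decide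
    refine ⟨key.1, key.2, (h.sq x hx).resolve_right fun e => ?_⟩
    have c01 : Commute (φ x) x := (bb_zero.1 key.1).symm
    have c02 : Commute (φ (φ x)) x := (bb_zero.1 key.2).symm
    have hs : ∀ {u}, u = x * x → φ u = u := fun {u} hu => by rw [hu, e, φt]
    have sq1 : φ x * φ x = t := by rw [← map_mul, e, φt]
    have sq2 : φ (φ x) * φ (φ x) = t := by rw [← map_mul, sq1, φt]
    have sq3 : φ (φ (φ x)) * φ (φ (φ x)) = t := by rw [← map_mul, sq2, φt]
    have hZsq : ∀ {u : G}, Z u → u * u = 1 := fun {u} hu => by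
      rcases hu with rfl | rfl
      exacts [mul_one 1, h.t2]
    rcases hM with hM | hM
    · have hz : φ (φ (φ x)) = M1 x * x⁻¹ * (φ x)⁻¹ := by simp only [M1]; group
      have hcc : Commute (M1 x) (x⁻¹ * (φ x)⁻¹) := by
        rcases hM with e1 | e1 <;> rw [e1]
        · exact Commute.one_left _
        · exact (h.le _ (mul_mem (inv_mem hx) (inv_mem s1))).symm
      have := sq3
      rw [hz, mul_assoc (M1 x), hcc.symm.mul_mul_mul_comm, hZsq hM, one_mul,
        c01.inv_inv.mul_mul_mul_comm, ← _root_.mul_inv_rev, ← _root_.mul_inv_rev, e, sq1,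
        inv_eq_of_mul_eq_one_right h.t2, h.t2] at this
      exact h.t1 this.symm
    · have hz : φ (φ (φ x)) = M2 x * x⁻¹ * (φ (φ x))⁻¹ := by simp only [M2]; group
      have hcc : Commute (M2 x) (x⁻¹ * (φ (φ x))⁻¹) := by
        rcases hM with e1 | e1 <;> rw [e1]
        · exact Commute.one_left _
        · exact (h.le _ (mul_mem (inv_mem hx) (inv_mem s2))).symm
      have := sq3
      rw [hz, mul_assoc (M2 x), hcc.symm.mul_mul_mul_comm, hZsq hM, one_mul,
        c02.inv_inv.mul_mul_mul_comm, ← _root_.mul_inv_rev, ← _root_.mul_inv_rev, e, sq2,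
        inv_eq_of_mul_eq_one_right h.t2, h.t2] at this
      exact h.t1 this.symm
  obtain ⟨x₀, hx₀, hx₀Z, hx₀M⟩ := exist M1 (Or.inl rfl)
  obtain ⟨y₀, hy₀, hy₀Z, hy₀M⟩ := exist M2 (Or.inr rfl)
  -- correct signs
  have ttS : ∀ {q}, q ∈ S → φ (q * t) = φ q * t := fun _ => by rw [map_mul, φt]
  obtain ⟨x, hx, hxZ, hxM⟩ : ∃ x ∈ S, ¬ Z x ∧ φ (φ (φ x)) * φ x * x = 1 := by
    rcases hx₀M with e | e
    · exact ⟨x₀, hx₀, hx₀Z, e⟩
    · refine ⟨x₀ * t, mul_mem hx₀ h.tS, fun hz => hx₀Z ?_, ?_⟩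
      · rcases hz with e1 | e1
        · exact Or.inr (by rw [eq_inv_of_mul_eq_one_left e1, inv_eq_of_mul_eq_one_right h.t2])
        · exact Or.inl (mul_eq_right.1 e1)
      · simp only [map_mul, φt]
        calc φ (φ (φ x₀)) * t * (φ x₀ * t) * (x₀ * t)
            = φ (φ (φ x₀)) * (t * φ x₀) * (t * x₀) * t := by simp only [mul_assoc]
          _ = φ (φ (φ x₀)) * φ x₀ * x₀ * (t * t * t) := by
              rw [← (h.le _ (m hx₀).1).eq, ← (h.le _ hx₀).eq]
              simp only [mul_assoc]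
              rw [← mul_assoc t x₀, ← (h.le _ hx₀).eq, mul_assoc]
          _ = 1 := by rw [h.t2, one_mul, show φ (φ (φ x₀)) * φ x₀ * x₀ = t from e, h.t2]
  obtain ⟨y', hy', hy'Z, hy'M⟩ : ∃ y ∈ S, ¬ Z y ∧ φ (φ (φ y)) * φ (φ y) * y = 1 := by
    rcases hy₀M with e | e
    · exact ⟨y₀, hy₀, hy₀Z, e⟩
    · refine ⟨y₀ * t, mul_mem hy₀ h.tS, fun hz => hy₀Z ?_, ?_⟩
      · rcases hz with e1 | e1
        · exact Or.inr (by rw [eq_inv_of_mul_eq_one_left e1, inv_eq_of_mul_eq_one_right h.t2])
        · exact Or.inl (mul_eq_right.1 e1)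
      · simp only [map_mul, φt]
        calc φ (φ (φ y₀)) * t * (φ (φ y₀) * t) * (y₀ * t)
            = φ (φ (φ y₀)) * (t * φ (φ y₀)) * (t * y₀) * t := by simp only [mul_assoc]
          _ = φ (φ (φ y₀)) * φ (φ y₀) * y₀ * (t * t * t) := by
              rw [← (h.le _ (m hy₀).2.1).eq, ← (h.le _ hy₀).eq]
              simp only [mul_assoc]
              rw [← mul_assoc t y₀, ← (h.le _ hy₀).eq, mul_assoc]
          _ = 1 := by rw [h.t2, one_mul, show φ (φ (φ y₀)) * φ (φ y₀) * y₀ = t from e, h.t2]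
  obtain ⟨xc1, xc2, xsq⟩ := orbit x hx hxZ (Or.inl (Or.inl hxM))
  obtain ⟨yc1, yc2, ysq⟩ := orbit y' hy' hy'Z (Or.inr (Or.inl hy'M))
  obtain ⟨X1, X2, -⟩ := m hx
  obtain ⟨Y1, Y2, -⟩ := m hy'
  -- the pairing is not zero
  obtain ⟨hp1, hp2, hp3⟩ : True ∧ True ∧
      ¬ (bb y' x = 0 ∧ bb y' (φ x) = 0 ∧ bb y' (φ (φ x)) = 0) := by
    refine ⟨trivial, trivial, fun ⟨a0, a1, a2⟩ => ?_⟩
    let gs : Set G := {x, φ x, φ (φ x), y', φ y', φ (φ y'), t}
    let A := closure gs
    have hgS : gs ⊆ S := by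
      rintro u (rfl | rfl | rfl | rfl | rfl | rfl | rfl)
      exacts [hx, X1, X2, hy', Y1, Y2, h.tS]
    have hA : A ≤ S := (closure_le S).2 hgS
    -- the orbit of `x`
    have hx3 : φ (φ (φ x)) = x⁻¹ * (φ x)⁻¹ := by
      rw [← _root_.mul_inv_rev]
      exact eq_inv_of_mul_eq_one_left (by rw [← mul_assoc]; exact hxM)
    have hy3 : φ (φ (φ y')) = y'⁻¹ * (φ (φ y'))⁻¹ := by
      rw [← _root_.mul_inv_rev]
      exact eq_inv_of_mul_eq_one_left (by rw [← mul_assoc]; exact hy'M)
    have hφA : ∀ u ∈ A, φ u ∈ A := by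
      intro u hu
      have : gs ⊆ A.comap φ := by
        have mem : ∀ v ∈ gs, v ∈ A := fun v hv => subset_closure hv
        rintro v (rfl | rfl | rfl | rfl | rfl | rfl | rfl) <;> rw [SetLike.mem_coe, mem_comap]
        · exact mem _ (by simp [gs])
        · exact mem _ (by simp [gs])
        · rw [hx3]; exact mul_mem (inv_mem (mem _ (by simp [gs]))) (inv_mem (mem _ (by simp [gs])))
        · exact mem _ (by simp [gs])
        · exact mem _ (by simp [gs])
        · rw [hy3]; exact mul_mem (inv_mem (mem _ (by simp [gs]))) (inv_mem (mem _ (by simp [gs])))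
        · rw [φt]; exact mem _ (by simp [gs])
      exact (closure_le _).2 this hu
    -- mixed pairings vanish
    have bt : ∀ {u}, u ∈ S → bb u t = 0 := fun hu => by rw [bb_symm]; exact h.bb_t hu
    have e3 : bb y' (φ (φ (φ x))) = 0 := by
      have h0 := h.bb_Z hy' (Or.inl hxM : Z (M1 x))
      rw [b1 hx hy', bb_symm _ y', bb_symm _ y', bb_symm _ y', a0, a1, add_zero, add_zero] at h0
      exact h0
    have e4 : bb y' (φ (φ (φ (φ x)))) = 0 := by
      have h0 := h.bb_Z hy' (Or.inl (by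
        show φ (φ (φ (φ x))) * φ (φ x) * φ x = 1
        rw [← map_mul, ← map_mul, hxM, map_one]) : Z (M1 (φ x)))
      rw [b1 X1 hy', bb_symm _ y', bb_symm _ y', bb_symm _ y', a1, a2, add_zero, add_zero] at h0
      exact h0
    have X3 := φS X2
    have e5 : bb y' (φ (φ (φ (φ (φ x))))) = 0 := by
      have h0 := h.bb_Z hy' (Or.inl (by
        show φ (φ (φ (φ (φ x)))) * φ (φ (φ x)) * φ (φ x) = 1
        rw [← map_mul, ← map_mul, ← map_mul, ← map_mul, hxM, map_one, map_one]) : Z (M1 (φ (φ x))))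
      rw [b1 X2 hy', bb_symm _ y', bb_symm _ y', bb_symm _ y', a2, e3, add_zero, add_zero] at h0
      exact h0
    have e6 : bb y' (φ (φ (φ (φ (φ (φ x)))))) = 0 := by
      have h0 := h.bb_Z hy' (Or.inl (by
        show φ (φ (φ (φ (φ (φ x))))) * φ (φ (φ (φ x))) * φ (φ (φ x)) = 1
        rw [← map_mul, ← map_mul, ← map_mul, ← map_mul, ← map_mul, ← map_mul, hxM, map_one, map_one, map_one]) :
          Z (M1 (φ (φ (φ x)))))
      rw [b1 X3 hy', bb_symm _ y', bb_symm _ y', bb_symm _ y', e3, e4, add_zero, add_zero] at h0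
      exact h0
    have sh : ∀ v ∈ S, ∀ w, bb (φ v) (φ w) = bb v w := fun v _ w => bφ v w
    have m10 : bb (φ y') x = 0 := by rw [hsym hy' x hx]; exact e6
    have m20 : bb (φ (φ y')) x = 0 := by
      rw [hsym Y1 x hx, bφ]; exact e5
    have m12 : bb (φ y') (φ (φ x)) = 0 := by rw [bφ]; exact a1
    have m21 : bb (φ (φ y')) (φ x) = 0 := by rw [bφ]; exact m10
    have hpair : ∀ u ∈ gs, ∀ v ∈ gs, bb u v = 0 := by
      have s0 : ∀ u : G, bb u u = 0 := fun u => bb_zero.2 rfl
      intro u hu v hv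
      rcases hu with rfl | rfl | rfl | rfl | rfl | rfl | rfl <;>
        rcases hv with rfl | rfl | rfl | rfl | rfl | rfl | rfl <;>
        first
          | exact s0 _
          | exact h.bb_t (by assumption)
          | exact bt (by assumption)
          | assumption
          | (rw [bb_symm]; assumption)
          | (rw [bφ]; assumption)
          | (rw [bb_symm, bφ]; assumption)
          | (rw [bφ, bφ]; assumption)
          | (rw [bb_symm, bφ, bφ]; assumption)
    have hcomm : IsMulCommutative A := ⟨⟨fun u v => by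
      have h1 : ∀ v ∈ gs, ∀ u ∈ A, u * v = v * u := by
        intro v hv u hu
        have : gs ⊆ centralizer ({v} : Set G) := fun w hw => mem_centralizer_singleton_iff.2
          (bb_zero.1 (hpair w hw v hv))
        exact mem_centralizer_singleton_iff.1 ((closure_le _).2 this hu)
      have : gs ⊆ centralizer ({(u : G)} : Set G) := fun w hw => mem_centralizer_singleton_iff.2 (h1 w hw u u.2).symm
      exact Subtype.ext (mem_centralizer_singleton_iff.1 ((closure_le _).2 this v.2)).symm⟩⟩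
    -- count
    have hmod : Nat.card A ≡ 2 [MOD 7] := by
      let σ₀ : Equiv.Perm G := (MulAut.conj c).toEquiv
      have hmap : A.map φ = A := eq_of_le_of_card_ge (map_le_iff_le_comap.2 hφA)
        (by rw [card_map_of_injective φinj])
      have hiff : ∀ q, σ₀ q ∈ A ↔ q ∈ A := fun q => Iff.symm ⟨hφA q, fun hq => by
        obtain ⟨w, hw, hw'⟩ := hmap.symm.le hq
        rw [← φinj (hw' : φ w = φ q)]; exact hw⟩
      have h1 := card_fixed (σ₀.subtypePerm (p := fun q => q ∈ A) hiff) (by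
        refine Equiv.ext fun q => Subtype.ext ?_
        rw [Equiv.Perm.subtypePerm_pow]
        show (σ₀ ^ 7) (q : G) = q
        simp only [pow_succ, pow_zero, one_mul, Equiv.Perm.mul_apply]
        exact φ7 q)
      refine h1.trans (modEq_of_eq ?_)
      have hb : Nat.card {q : {q // q ∈ A} // σ₀.subtypePerm (p := fun q => q ∈ A) hiff q = q} =
          Nat.card (zpowers t) := Nat.card_congr
        { toFun := fun p => ⟨p.1.1, by
            rcases hfix _ (hA p.1.2) (congrArg Subtype.val p.2) with e | e <;> rw [e]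
            exacts [one_mem _, mem_zpowers t]⟩
          invFun := fun p => ⟨⟨p.1, (zpowers_le.2 (subset_closure (by simp [gs]) : t ∈ A)) p.2⟩, Subtype.ext (by
            obtain ⟨n, hn⟩ := mem_zpowers_iff.1 p.2
            show φ p.1 = p.1
            rw [← hn, map_zpow, φt])⟩
          left_inv := fun p => rfl
          right_inv := fun p => rfl }
      rw [hb, Nat.card_zpowers, orderOf_eq_prime (by rw [pow_two, h.t2]) h.t1]
    have hcardA : Nat.card A ≤ 16 := by
      obtain ⟨k, hk⟩ := ((IsPGroup.of_card (n := 7) (by rw [h.card]; norm_num) : IsPGroup 2 S).to_le hA).exists_card_eq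
      have hk7 : k ≤ 7 := by
        have := card_le_of_le hA
        rw [hk, h.card, show 128 = 2 ^ 7 from rfl] at this
        exact (Nat.pow_le_pow_iff_right one_lt_two).1 this
      have hne : k ≠ 7 := fun e => by
        have hAS : A = S := eq_of_le_of_card_ge hA (by rw [hk, e, h.card]; norm_num)
        refine hx₀Z (h.center x₀ hx₀ fun r hr => ?_)
        exact congrArg Subtype.val (hcomm.is_comm.comm ⟨x₀, hAS.symm ▸ hx₀⟩ ⟨r, hAS.symm ▸ hr⟩)
      rw [hk] at hmod ⊢
      unfold Nat.ModEq at hmod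
      interval_cases k <;> omega
    -- the orbit of `x` fills `A`
    let B := closure ({x, φ x, φ (φ x), t} : Set G)
    have hBA : B ≤ A := closure_mono (by
      rintro u (rfl | rfl | rfl | rfl) <;> simp [gs])
    have hB16 : 16 ≤ Nat.card B := by
      obtain ⟨k, hk⟩ := ((IsPGroup.of_card (n := 7) (by rw [h.card]; norm_num) : IsPGroup 2 S).to_le
        (hBA.trans hA)).exists_card_eq
      have hinB : ∀ {u}, u ∈ ({x, φ x, φ (φ x), t} : Set G) → u ∈ B := fun hu => subset_closure hu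
      have hφB : ∀ u ∈ B, φ u ∈ B := by
        intro u hu
        have : ({x, φ x, φ (φ x), t} : Set G) ⊆ B.comap φ := by
          rintro v (rfl | rfl | rfl | rfl) <;> rw [SetLike.mem_coe, mem_comap]
          · exact hinB (by simp)
          · exact hinB (by simp)
          · rw [hx3]; exact mul_mem (inv_mem (hinB (by simp))) (inv_mem (hinB (by simp)))
          · rw [φt]; exact hinB (by simp)
        exact (closure_le _).2 this hu
      let σ₀ : Equiv.Perm G := (MulAut.conj c).toEquiv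
      have hmap : B.map φ = B := eq_of_le_of_card_ge (map_le_iff_le_comap.2 hφB)
        (by rw [card_map_of_injective φinj])
      have hiff : ∀ q, σ₀ q ∈ B ↔ q ∈ B := fun q => Iff.symm ⟨hφB q, fun hq => by
        obtain ⟨w, hw, hw'⟩ := hmap.symm.le hq
        rw [← φinj (hw' : φ w = φ q)]; exact hw⟩
      have h1 := card_fixed (σ₀.subtypePerm (p := fun q => q ∈ B) hiff) (by
        refine Equiv.ext fun q => Subtype.ext ?_
        rw [Equiv.Perm.subtypePerm_pow]
        show (σ₀ ^ 7) (q : G) = q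
        simp only [pow_succ, pow_zero, one_mul, Equiv.Perm.mul_apply]
        exact φ7 q)
      have hb : Nat.card {q : {q // q ∈ B} // σ₀.subtypePerm (p := fun q => q ∈ B) hiff q = q} =
          Nat.card (zpowers t) := Nat.card_congr
        { toFun := fun p => ⟨p.1.1, by
            rcases hfix _ (hA (hBA p.1.2)) (congrArg Subtype.val p.2) with e | e <;> rw [e]
            exacts [one_mem _, mem_zpowers t]⟩
          invFun := fun p => ⟨⟨p.1, (zpowers_le.2 (hinB (by simp) : t ∈ B)) p.2⟩, Subtype.ext (by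
            obtain ⟨n, hn⟩ := mem_zpowers_iff.1 p.2
            show φ p.1 = p.1
            rw [← hn, map_zpow, φt])⟩
          left_inv := fun p => rfl
          right_inv := fun p => rfl }
      rw [hb, Nat.card_zpowers, orderOf_eq_prime (by rw [pow_two, h.t2]) h.t1,
        show Nat.card {q // q ∈ B} = Nat.card B from rfl, hk] at h1
      have h2k : 1 < k := by
        by_contra hle
        have hzB : zpowers t = B := eq_of_le_of_card_ge (zpowers_le.2 (hinB (by simp))) (by
          rw [hk, Nat.card_zpowers, orderOf_eq_prime (by rw [pow_two, h.t2]) h.t1]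
          calc 2 ^ k ≤ 2 ^ 1 := Nat.pow_le_pow_right two_pos (by omega)
            _ = 2 := rfl)
        obtain ⟨n, hn⟩ := mem_zpowers_iff.1 (hzB.symm ▸ hinB (by simp) : x ∈ zpowers t)
        refine hxZ (hfix x hx ?_)
        rw [← hn, map_zpow, φt]
      have hk7 : k ≤ 7 := by
        have := card_le_of_le (hBA.trans hA)
        rw [hk, h.card, show 128 = 2 ^ 7 from rfl] at this
        exact (Nat.pow_le_pow_iff_right one_lt_two).1 this
      rw [hk]
      unfold Nat.ModEq at h1
      interval_cases k <;> omega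
    have hyB : y' ∈ B := (eq_of_le_of_card_ge hBA (hcardA.trans hB16)).symm ▸ subset_closure (by simp [gs])
    -- so both cubics kill `y'`
    have hM1B : ∀ u ∈ B, ∀ r ∈ S, bb (M1 u) r = 0 := by
      intro u hu r hr
      induction hu using closure_induction with
      | mem v hv =>
        have hM1x : φ (φ (φ x)) * φ x * x = 1 := hxM
        rcases hv with rfl | rfl | rfl | rfl
        · exact h.bb_Z hr (Or.inl hxM)
        · refine h.bb_Z hr (Or.inl ?_)
          show φ (φ (φ (φ x))) * φ (φ x) * φ x = 1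
          rw [← map_mul, ← map_mul, hM1x, map_one]
        · refine h.bb_Z hr (Or.inl ?_)
          show φ (φ (φ (φ (φ x)))) * φ (φ (φ x)) * φ (φ x) = 1
          rw [← map_mul, ← map_mul, ← map_mul, ← map_mul, hM1x, map_one, map_one]
        · refine h.bb_Z hr (Or.inr ?_)
          show φ (φ (φ v)) * φ v * v = v
          rw [φt, φt, φt, h.t2, one_mul]
      | one =>
        refine h.bb_Z hr (Or.inl ?_)
        show φ (φ (φ 1)) * φ 1 * 1 = 1
        rw [map_one, map_one, map_one, one_mul, one_mul]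
      | mul u v hu hv ihu ihv =>
        have hu' : u ∈ S := hA (hBA hu)
        have hv' : v ∈ S := hA (hBA hv)
        rw [b1 (mul_mem hu' hv') hr, map_mul, map_mul, map_mul, h.bb_mul (m hu').2.2 (m hv').2.2 hr,
          h.bb_mul (m hu').1 (m hv').1 hr, h.bb_mul hu' hv' hr]
        rw [b1 hu' hr] at ihu
        rw [b1 hv' hr] at ihv
        linear_combination ihu + ihv
      | inv u hu ihu =>
        have hu' : u ∈ S := hA (hBA hu)
        have hinv : ∀ {w}, w ∈ S → bb w⁻¹ r = bb w r := fun {w} hw => by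
          have h0 := h.bb_mul (inv_mem hw) hw hr
          rw [inv_mul_cancel, show bb (1 : G) r = 0 from h.bb_Z hr (Or.inl rfl)] at h0
          revert h0
          rcases zmod_cases (bb w⁻¹ r) with e | e <;> rcases zmod_cases (bb w r) with e' | e' <;>
            rw [e, e'] <;> decide
        rw [b1 (inv_mem hu') hr, map_inv, map_inv, map_inv, hinv (m hu').2.2, hinv (m hu').1, hinv hu']
        rw [b1 hu' hr] at ihu
        exact ihu
    refine hy'Z (hfix y' hy' ?_)
    have hd : ∀ r ∈ S, bb (φ y' * φ (φ y')) r = 0 := fun r hr => by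
      have a := hM1B y' hyB r hr
      have b := h.bb_Z hr (Or.inl hy'M : Z (M2 y'))
      rw [b1 hy' hr] at a
      rw [b2 hy' hr] at b
      rw [h.bb_mul Y1 Y2 hr]
      generalize bb (φ y') r = p, bb (φ (φ y')) r = q, bb (φ (φ (φ y'))) r = s, bb y' r = u at a b ⊢
      revert a b; revert p q s u; decide
    have hz := h.center _ (mul_mem Y1 Y2) (fun r hr => bb_zero.1 (hd r hr))
    rw [← map_mul] at hz
    rcases hz with e | e
    · exact mul_left_cancel ((φinj (e.trans (map_one φ).symm)).trans ysq.symm)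
    · refine absurd (mul_left_cancel (a := y') ((φinj (e.trans φt.symm)).trans ?_)) (fixed_eq hy')
      rw [← mul_assoc, ysq, one_mul]
  -- normalise the pairing
  obtain ⟨y, hy, hyM, yy1, yy2, yy0, q0, q1, q2⟩ : ∃ y ∈ S, φ (φ (φ y)) * φ (φ y) * y = 1 ∧
      bb y (φ y) = 0 ∧ bb y (φ (φ y)) = 0 ∧ y * y = 1 ∧ bb y x = 0 ∧ bb y (φ x) = 1 ∧ bb y (φ (φ x)) = 0 := by
    have X3 := φS X2
    have X4 := φS X3
    have X5 := φS X4
    have rec1 : ∀ {v u}, v ∈ S → u ∈ S → φ (φ (φ u)) * φ u * u = 1 →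
        bb v (φ (φ (φ u))) = bb v (φ u) + bb v u := by
      intro v u hv hu hM
      have h0 := h.bb_Z hv (Or.inl hM : Z (M1 u))
      rw [b1 hu hv, bb_symm _ v, bb_symm _ v, bb_symm _ v] at h0
      generalize bb v (φ (φ (φ u))) = p, bb v (φ u) = q, bb v u = r at h0 ⊢
      revert h0; revert p q r; decide
    have hM' : ∀ {u}, φ (φ (φ u)) * φ u * u = 1 → φ (φ (φ (φ u))) * φ (φ u) * φ u = 1 := fun {u} hu => by
      rw [← map_mul, ← map_mul, hu, map_one]
    have shift : ∀ v ∈ S, bb (φ v) x = bb v x + bb v (φ (φ x)) ∧ bb (φ v) (φ x) = bb v x ∧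
        bb (φ v) (φ (φ x)) = bb v (φ x) := by
      intro v hv
      refine ⟨?_, bφ v x, bφ v (φ x)⟩
      rw [hsym hv x hx, rec1 hv X3 (hM' (hM' (hM' hxM))), rec1 hv X1 (hM' hxM), rec1 hv hx hxM]
      generalize bb v x = p, bb v (φ x) = q, bb v (φ (φ x)) = r
      revert p q r; decide
    let f : ZMod 2 × ZMod 2 × ZMod 2 → ZMod 2 × ZMod 2 × ZMod 2 := fun p => (p.1 + p.2.2, p.1, p.2.1)
    let pr : G → ZMod 2 × ZMod 2 × ZMod 2 := fun v => (bb v x, bb v (φ x), bb v (φ (φ x)))
    let yk : ℕ → G := fun k => φ^[k] y'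
    have hyk : ∀ k, yk k ∈ S ∧ φ (φ (φ (yk k))) * φ (φ (yk k)) * yk k = 1 ∧ bb (yk k) (φ (yk k)) = 0 ∧
        bb (yk k) (φ (φ (yk k))) = 0 ∧ yk k * yk k = 1 ∧ pr (yk k) = f^[k] (pr y') := by
      intro k
      induction k with
      | zero => exact ⟨hy', hy'M, yc1, yc2, ysq, rfl⟩
      | succ k ih =>
        obtain ⟨i1, i2, i3, i4, i5, i6⟩ := ih
        have e : yk (k + 1) = φ (yk k) := Function.iterate_succ_apply' φ k y'
        rw [e, Function.iterate_succ_apply' f k, ← i6]
        refine ⟨φS i1, by rw [← map_mul, ← map_mul, i2, map_one], by rw [bφ]; exact i3, by rw [bφ]; exact i4,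
          by rw [← map_mul, i5, map_one], ?_⟩
        obtain ⟨s1, s2, s3⟩ := shift _ i1
        exact Prod.ext s1 (Prod.ext s2 s3)
    have hreach : ∀ p : ZMod 2 × ZMod 2 × ZMod 2, p ≠ (0, 0, 0) →
        ∃ k : Fin 7, (fun p : ZMod 2 × ZMod 2 × ZMod 2 => (p.1 + p.2.2, p.1, p.2.1))^[(k : ℕ)] p = (0, 1, 0) := by
      decide +kernel
    obtain ⟨k, hk⟩ := hreach (pr y') (fun e => hp3 ⟨congrArg Prod.fst e, congrArg (fun p => p.2.1) e,
      congrArg (fun p => p.2.2) e⟩)
    obtain ⟨i1, i2, i3, i4, i5, i6⟩ := hyk k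
    have i6' : pr (yk k) = (0, 1, 0) := i6.trans hk
    exact ⟨yk k, i1, i2, i3, i4, i5, congrArg Prod.fst i6', congrArg (fun p => p.2.1) i6',
      congrArg (fun p => p.2.2) i6'⟩
  obtain ⟨ym, ymm, -⟩ := m hy
  -- the generators
  refine ⟨fun j => if j = 0 then x else if j = 1 then φ x else if j = 2 then φ (φ x) else
    if j = 3 then φ (φ y) else if j = 4 then y else φ y, ?_⟩
  obtain ⟨X, hX⟩ : ∃ X : ℕ → G, X = fun j => if j = 0 then x else if j = 1 then φ x else if j = 2 then φ (φ x) else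
    if j = 3 then φ (φ y) else if j = 4 then y else φ y := ⟨_, rfl⟩
  rw [← hX]
  have x0 : X 0 = x := by simp [hX]
  have x1 : X 1 = φ x := by simp [hX]
  have x2 : X 2 = φ (φ x) := by simp [hX]
  have x3 : X 3 = φ (φ y) := by simp [hX]
  have x4 : X 4 = y := by simp [hX]
  have x5 : X 5 = φ y := by simp [hX]
  have memX : ∀ j < 6, X j ∈ S := by
    intro j hj
    interval_cases j <;> simp only [x0, x1, x2, x3, x4, x5] <;> assumption
  -- pairings
  have b10 : bb (φ y) x = 0 ∧ bb (φ y) (φ x) = 0 ∧ bb (φ y) (φ (φ x)) = 1 := by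
    refine ⟨?_, ?_, ?_⟩
    · have h0 := h.bb_Z hy (Or.inl hxM : Z (M1 x))
      rw [b1 hx hy, bb_symm _ y, bb_symm _ y, bb_symm _ y, q1, q0] at h0
      have hM1 : φ (φ (φ (φ x))) * φ (φ x) * φ x = 1 := by rw [← map_mul, ← map_mul, hxM, map_one]
      have X3 := φS X2
      have hM3 : φ (φ (φ (φ (φ (φ x))))) * φ (φ (φ (φ x))) * φ (φ (φ x)) = 1 := by
        rw [← map_mul, ← map_mul, ← map_mul, ← map_mul, ← map_mul, ← map_mul, hxM, map_one, map_one, map_one]
      have h1 := h.bb_Z hy (Or.inl hM1 : Z (M1 (φ x)))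
      rw [b1 X1 hy, bb_symm _ y, bb_symm _ y, bb_symm _ y, q2, q1] at h1
      have h3 := h.bb_Z hy (Or.inl hM3 : Z (M1 (φ (φ (φ x)))))
      rw [b1 X3 hy, bb_symm _ y, bb_symm _ y, bb_symm _ y] at h3
      rw [hsym hy x hx]
      generalize bb y (φ (φ (φ x))) = p, bb y (φ (φ (φ (φ x)))) = q, bb y (φ (φ (φ (φ (φ (φ x)))))) = r at h0 h1 h3 ⊢
      revert h0 h1 h3; revert p q r; decide
    · rw [bφ]; exact q0
    · rw [bφ]; exact q1
  have b20 : bb (φ (φ y)) x = 1 ∧ bb (φ (φ y)) (φ x) = 0 ∧ bb (φ (φ y)) (φ (φ x)) = 0 := by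
    refine ⟨?_, ?_, ?_⟩
    · -- from the cubic relation of `y`
      have h0 := h.bb_Z X1 (Or.inl hyM : Z (M2 y))
      rw [b2 hy X1, q1] at h0
      simp only [bφ] at h0
      have h2 : bb (φ y) x = 0 := b10.1
      rw [h2] at h0
      generalize bb (φ (φ y)) x = p at h0 ⊢
      revert h0; revert p; decide
    · rw [bφ]; exact b10.1
    · rw [bφ, bφ]; exact q0
  have cm : ∀ {u v : G}, bb u v = 0 → Commute u v := fun h0 => bb_zero.1 h0
  have hgens : QGens t X := by
    refine ⟨h.t2, h.t1, ?_, fun j hj => (h.le _ (memX j hj)).symm, ?_, ?_, ?_⟩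
    · intro j hj
      interval_cases j <;> simp only [x0, x1, x2, x3, x4, x5]
      · exact xsq
      · rw [← map_mul, xsq, map_one]
      · rw [← map_mul, ← map_mul, xsq, map_one, map_one]
      · rw [← map_mul, ← map_mul, yy0, map_one, map_one]
      · exact yy0
      · rw [← map_mul, yy0, map_one]
    · have c12 : bb (φ x) (φ (φ x)) = 0 := by rw [bφ]; exact xc1
      intro i hi j hj
      interval_cases i <;> interval_cases j <;> simp only [x0, x1, x2] <;>
        first
          | exact Commute.refl _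
          | (apply cm; assumption)
          | (apply Commute.symm; apply cm; assumption)
    · have c12 : bb (φ y) (φ (φ y)) = 0 := by rw [bφ]; exact yy1
      intro i hi j hj
      interval_cases i <;> interval_cases j <;> norm_num [x3, x4, x5] <;>
        first
          | exact Commute.refl _
          | (apply cm; assumption)
          | (apply Commute.symm; apply cm; assumption)
    · intro i hi j hj
      obtain ⟨d0, d1, d2⟩ := b10
      obtain ⟨e0, e1, e2⟩ := b20
      interval_cases i <;> interval_cases j <;> norm_num [x0, x1, x2, x3, x4, x5]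
      all_goals first
        | exact bb_zero.1 (by assumption)
        | exact h.tne _ _ (by assumption) (by assumption) (by simp_all)
  refine ⟨hgens, memX, ?_⟩
  have himg : ∀ j < 6, field 7 genC j = if j = 0 then 2 else if j = 1 then 4 else if j = 2 then 3 else
      if j = 3 then 24 else if j = 4 then 32 else 8 := by decide +kernel
  intro j hj
  rw [himg j hj]
  show φ (X j) = _
  interval_cases j <;> simp only [x0, x1, x2, x3, x4, x5] <;> norm_num
  · rw [show (2 : ℕ) = 2 ^ 1 from rfl, hgens.qel_gen 1 (by norm_num), x1]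
  · rw [show (4 : ℕ) = 2 ^ 2 from rfl, hgens.qel_gen 2 (by norm_num), x2]
  · rw [show (3 : ℕ) = qMul (2 ^ 0) (2 ^ 1) by decide +kernel, ← hgens.qel_mul (by norm_num) (by norm_num),
      hgens.qel_gen 0 (by norm_num), hgens.qel_gen 1 (by norm_num), x0, x1]
    have hxy : Commute x (φ x) := cm xc1
    calc φ (φ (φ x)) = φ (φ (φ x)) * φ x * x * (x⁻¹ * (φ x)⁻¹) := by group
      _ = x * φ x := by
        rw [hxM, one_mul, inv_eq_of_mul_eq_one_right xsq,
          inv_eq_of_mul_eq_one_right (show φ x * φ x = 1 by rw [← map_mul, xsq, map_one])]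
  · rw [show (24 : ℕ) = qMul (2 ^ 3) (2 ^ 4) by decide +kernel, ← hgens.qel_mul (by norm_num) (by norm_num),
      hgens.qel_gen 3 (by norm_num), hgens.qel_gen 4 (by norm_num), x3, x4]
    have hy2 : φ (φ y) * φ (φ y) = 1 := by rw [← map_mul, ← map_mul, yy0, map_one, map_one]
    calc φ (φ (φ y)) = φ (φ (φ y)) * φ (φ y) * y * (y⁻¹ * (φ (φ y))⁻¹) := by group
      _ = φ (φ y) * y := by
        rw [hyM, one_mul, inv_eq_of_mul_eq_one_right yy0, inv_eq_of_mul_eq_one_right hy2,
          (cm yy2).eq]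
  · rw [show (32 : ℕ) = 2 ^ 5 from rfl, hgens.qel_gen 5 (by norm_num), x5]
  · rw [show (8 : ℕ) = 2 ^ 3 from rfl, hgens.qel_gen 3 (by norm_num), x3]

end Setting

end CfsgLib.Recog.Held.Frame
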