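import Cfsg.Agent.Lib.Recog.Held.FrameLetter

set_option autoImplicit false

/-!
The deductions on the edges of the quotient, and the resulting coordinates.
-/

namespace CfsgLib.Recog.Held.Frame

open Subgroup
open scoped MatrixGroups

theorem word_act_checks : (List.range 3).all (fun ty => (List.range 168).all fun l => (List.range 6).all fun j =>
    Nat.beq (evalF (field 42 genData (2 * ty)) (field 42 genData (2 * ty + 1)) (wordL l) (2 ^ j))
      (field 7 (field 42 (actData ty) l) j)) = true := by
  decide +kernel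

theorem low_checks : (List.range 3).all (fun ty => (List.range 168).all fun l =>
    Nat.beq (Nat.land (field 42 (actData ty) l) lowMask)
      (pack ((List.range 6).map fun j => field 7 (field 42 (actData ty) l) j % 64))) = true := by
  decide +kernel

theorem next_lt : ∀ n : Fin 336, nextL ((n : ℕ) / 2) ((n : ℕ) % 2) < 168 := by decide +kernel

theorem next_lt' {l s : ℕ} (hl : l < 168) (hs : s < 2) : nextL l s < 168 := by
  have := next_lt ⟨2 * l + s, by omega⟩
  simpa [show (2 * l + s) / 2 = l by omega, show (2 * l + s) % 2 = s by omega] using this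

theorem wordL_zero : wordL 0 = [] := List.eq_nil_of_length_eq_zero (by decide +kernel)

theorem wordBit_lt (l k : ℕ) : wordBit l k < 2 := by
  show field 1 _ k < 2
  rw [field1_eq]; omega

theorem relW_lt : ∀ r : Fin 4, ∀ k : Fin 40, (relW r).getD k 0 < 2 ∧ (relW r).length ≤ 40 := by decide +kernel

theorem bit_lor {x m n : ℕ} (h : field 1 (Nat.lor x (2 ^ m)) n = 1) : field 1 x n = 1 ∨ n = m := by
  rw [field1_eq] at h ⊢
  have h' : (x ||| 2 ^ m).testBit n = true := by
    rw [Nat.testBit_eq_decide_div_mod_eq, decide_eq_true_eq]; exact h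
  rw [Nat.testBit_lor, Bool.or_eq_true, Nat.testBit_two_pow, decide_eq_true_eq] at h'
  rcases h' with h' | h'
  · rw [Nat.testBit_eq_decide_div_mod_eq, decide_eq_true_eq] at h'
    exact Or.inl h'
  · exact Or.inr h'.symm

theorem bit_full {n : ℕ} (hn : n < 336) : field 1 (2 ^ 336 - 1) n = 1 := by
  rw [field1_eq]
  have h := Nat.testBit_two_pow_sub_one 336 n
  rw [Nat.testBit_eq_decide_div_mod_eq, decide_eq_decide] at h
  exact h.2 hn

variable {G : Type*} [Group G]

theorem wd_append (a c : G) : ∀ w w' : List ℕ, wd a c (w ++ w') = wd a c w * wd a c w'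
  | [], w' => (one_mul _).symm
  | s :: w, w' => by
    show _ * wd a c (w ++ w') = _ * wd a c w * _
    rw [wd_append a c w w', mul_assoc]

theorem wd_singleton (a c : G) (s : ℕ) : wd a c [s] = if s = 0 then a else c := mul_one _

/-- The lift of an element of the quotient. -/
noncomputable def lift (a c : G) (l : ℕ) : G := wd a c (wordL l)

/-- An edge has the stated value. -/
def Edge (t : G) (X : ℕ → G) (a c : G) (d : ℕ → ℕ) (n : ℕ) : Prop :=
  lift a c (n / 2) * (if n % 2 = 0 then a else c) = qel t X (d n) * lift a c (nextL (n / 2) (n % 2))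

/-- All edges of a mask have the stated values. -/
def MaskOK (t : G) (X : ℕ → G) (a c : G) (d : ℕ → ℕ) (mask : ℕ) : Prop :=
  ∀ n < 336, field 1 mask n = 1 → Edge t X a c d n

/-- The element of a code. -/
noncomputable def elC (t : G) (X : ℕ → G) (a c : G) (z : ℕ) : G := qel t X (z % 128) * lift a c (z / 128)

section walks

variable {t : G} {X : ℕ → G} (hQ : QGens t X) {a c : G} {d : ℕ → ℕ} (hd : ∀ n, d n < 128)
include hQ hd

theorem walk {mask : ℕ} (hm : MaskOK t X a c d mask) :
    ∀ (w : List ℕ) {l p : ℕ}, l < 168 → p < 128 → known mask w l = true →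
      qel t X p * lift a c l * wd a c w = qel t X (accW d w l p) * lift a c (endW w l) ∧
        accW d w l p < 128 ∧ endW w l < 168
  | [], l, p, hl, hp, _ => ⟨mul_one _, hp, hl⟩
  | s :: w, l, p, hl, hp, hk => by
    simp only [known, Bool.and_eq_true] at hk
    obtain ⟨h1, h2, h3⟩ := hk
    have h1 := Nat.eq_of_beq_eq_true h1
    have h2 := Nat.le_of_ble_eq_true h2
    have he : lift a c l * (if s = 0 then a else c) = qel t X (d (2 * l + s)) * lift a c (nextL l s) := by
      have := hm (2 * l + s) (by omega) h1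
      unfold Edge at this
      rwa [show (2 * l + s) / 2 = l by omega, show (2 * l + s) % 2 = s by omega] at this
    obtain ⟨e, l1, l2⟩ := walk hm w (next_lt' hl (by omega)) (qMul_lt hp (hd _)) h3
    refine ⟨?_, l1, l2⟩
    show _ * ((if s = 0 then a else c) * wd a c w) = qel t X (accW d w (nextL l s) (qMul p (d (2 * l + s)))) *
      lift a c (endW w (nextL l s))
    rw [← e, ← hQ.qel_mul hp (hd _), mul_assoc (qel t X p) (qel t X _), ← he]
    simp only [mul_assoc]

end walks

section tables

variable {t : G} {X : ℕ → G} (hQ : QGens t X) {ty : ℕ} {rv : ℕ → ℕ} {a c : G} (L : Letters t X ty rv a c)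
include hQ L

theorem lift_comm (l : ℕ) : Commute (lift a c l) t := by
  show Commute (wd a c (wordL l)) t
  induction wordL l with
  | nil => exact Commute.one_left _
  | cons s w ih =>
    refine Commute.mul_left ?_ ih
    split_ifs
    exacts [L.at', L.ct]

theorem lift_conj {l q : ℕ} (hl : l < 168) (hq : q < 128) :
    lift a c l * qel t X q * (lift a c l)⁻¹ = qel t X (conjT ty l q) ∧ conjT ty l q < 128 := by
  refine ⟨hQ.conj_qel (lift_comm hQ L l) (fun j hj => ?_) hq, applyAut_lt _ hq⟩
  have h := word_act_checks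
  simp only [List.all_eq_true, List.mem_range] at h
  rw [← Nat.eq_of_beq_eq_true (h ty L.ty_lt l hl j hj), ← hQ.qel_gen j hj]
  exact hQ.conj_wd L.at' L.ct L.actA L.actC (wordL l)
    (lt_of_lt_of_le (Nat.pow_lt_pow_right one_lt_two hj) (by norm_num))

variable {d : ℕ → ℕ} (hd : ∀ n, d n < 128) (hrv : ∀ r < 4, rv r < 128)
include hd hrv

theorem tree_mask (h : (List.range 336).all (treeOK d) = true) : MaskOK t X a c d treeMask := by
  intro n hn hb
  have h' := List.all_eq_true.1 h n (List.mem_range.2 hn)
  unfold treeOK at h'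
  rw [hb] at h'
  simp only [Nat.beq_refl, Bool.not_true, Bool.false_or, Bool.and_eq_true, beq_iff_eq] at h'
  obtain ⟨h1, h2⟩ := h'
  show lift a c (n / 2) * _ = qel t X (d n) * lift a c _
  rw [Nat.eq_of_beq_eq_true h1, hQ.qel_zero, one_mul, lift, lift, h2, wd_append, wd_singleton]

theorem step_sound {mask r k l : ℕ} (hm : MaskOK t X a c d mask) (hr : r < 4)
    (h : stepOK ty d rv mask r k l = true) : Edge t X a c d (stepEdge r k l) := by
  simp only [stepOK, Bool.and_eq_true] at h
  obtain ⟨h1, h2, h3, h4, h5, h6⟩ := h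
  have h3 := Nat.le_of_ble_eq_true h3
  have h4 := Nat.le_of_ble_eq_true h4
  have h5 := Nat.eq_of_beq_eq_true h5
  have h6 := Nat.eq_of_beq_eq_true h6
  have hlen : (relW r).length ≤ 40 := (relW_lt ⟨r, hr⟩ ⟨0, by norm_num⟩).2
  have hs : (relW r).getD k 0 < 2 := (relW_lt ⟨r, hr⟩ ⟨k, by omega⟩).1
  have hsplit : relW r = (relW r).take k ++ ([(relW r).getD k 0] ++ (relW r).drop (k + 1)) := by
    conv_lhs => rw [← List.take_append_drop k (relW r)]
    rw [List.drop_eq_getElem_cons (show k < (relW r).length by omega), List.getD_eq_getElem _ _ (show k < (relW r).length by omega)]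
    rfl
  show lift a c ((2 * endW ((relW r).take k) l + (relW r).getD k 0) / 2) * _ = _
  unfold stepEdge
  generalize (relW r).getD k 0 = s, (relW r).take k = pre, (relW r).drop (k + 1) = post at h1 h2 h5 h6 hs hsplit ⊢
  obtain ⟨e1, a1, l1⟩ := walk hQ hd hm pre (show l < 168 by omega) (show (0 : ℕ) < 128 by norm_num) h1
  rw [show (2 * endW pre l + s) / 2 = endW pre l by omega, show (2 * endW pre l + s) % 2 = s by omega]
  obtain ⟨l1d, hl1d⟩ : ∃ x, x = endW pre l := ⟨_, rfl⟩
  rw [← hl1d] at h2 h5 h6 e1 l1 ⊢
  obtain ⟨e2, a2, -⟩ := walk hQ hd hm post (next_lt' l1 hs) (qMul_lt a1 (hd (2 * l1d + s))) h2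
  rw [h5, h6] at e2
  rw [hQ.qel_zero, one_mul] at e1
  obtain ⟨e3, -⟩ := lift_conj hQ L (show l < 168 by omega) (hrv r hr)
  rw [← e3, ← L.rel r hr, inv_mul_cancel_right, hsplit, wd_append, wd_append, wd_singleton, ← mul_assoc,
    e1, ← hQ.qel_mul a1 (hd _)] at e2
  simp only [mul_assoc, mul_right_inj] at e2
  rw [← mul_assoc, ← mul_assoc] at e2
  exact (mul_right_cancel e2).symm

theorem run_sound : ∀ (zs : List ℕ) {mask : ℕ}, MaskOK t X a c d mask → MaskOK t X a c d (run ty d rv zs mask)
  | [], _, hm => hm
  | z :: zs, mask, hm => by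
    show MaskOK t X a c d (cond _ _ _)
    cases hs : stepOK ty d rv mask (z % 4) (z / 4 % 64) (z / 256)
    · intro n _ hb
      simp [field1_eq] at hb
    · refine run_sound zs fun n hn hb => ?_
      rcases bit_lor hb with hb | rfl
      · exact hm n hn hb
      · exact step_sound hQ L hd hrv hm (Nat.mod_lt _ (by norm_num)) hs

end tables

section good

variable {t : G} {X : ℕ → G} (hQ : QGens t X) {rv : ℕ → ℕ} {a c : G}
include hQ

theorem no_fail {j : ℕ} (hj : j < 6) (L : Letters t X (j / 2) rv a c) (hv : ∀ r < 4, rv r = failV j r) : False := by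
  have L' : Letters t X (j / 2) (failV j) a c :=
    ⟨L.ty_lt, L.at', L.ct, L.actA, L.actC, fun r hr => by rw [L.rel r hr, hv r hr]⟩
  have hd : ∀ n, failD j n < 128 := fun n => field7_lt _ _
  have hrv : ∀ r < 4, failV j r < 128 := fun r _ => field7_lt _ _
  have h := List.all_eq_true.1 fail_checks j (List.mem_range.2 hj)
  simp only [failOK, Bool.and_eq_true, Bool.not_eq_true'] at h
  obtain ⟨h1, h2, h3, h4⟩ := h
  obtain ⟨e, la, -⟩ := walk hQ hd (run_sound hQ L' hd hrv _ (tree_mask hQ L' hd hrv h1)) (relW 2)
    (show 114 < 168 by norm_num) (show 0 < 128 by norm_num) h2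
  rw [Nat.eq_of_beq_eq_true h3, L'.rel 2 (by norm_num), hQ.qel_zero, one_mul] at e
  obtain ⟨e', lc⟩ := lift_conj hQ L' (show 114 < 168 by norm_num) (hrv 2 (by norm_num))
  rw [← mul_inv_eq_iff_eq_mul, e'] at e
  rw [Bool.eq_false_iff] at h4
  apply h4
  rw [hQ.qel_inj lc la e]
  exact Nat.beq_refl _

theorem exists_coord_of_letters [Finite G] {S : Subgroup G} (h : Setting t S) (hX : ∀ j < 6, X j ∈ S) {i : ℕ}
    (hi : i < 6) (L : Letters t X (i / 2) rv a c) (hv : ∀ r < 4, rv r = relVal i r) : Nonempty (Coord t i) := by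
  have L' : Letters t X (i / 2) (relVal i) a c :=
    ⟨L.ty_lt, L.at', L.ct, L.actA, L.actC, fun r hr => by rw [L.rel r hr, hv r hr]⟩
  have hd : ∀ n, candD i n < 128 := fun n => field7_lt _ _
  have hrv : ∀ r < 4, relVal i r < 128 := fun r _ => field7_lt _ _
  have h' := List.all_eq_true.1 good_checks i (List.mem_range.2 hi)
  simp only [goodOK, Bool.and_eq_true] at h'
  obtain ⟨h1, h2⟩ := h'
  have hall : MaskOK t X a c (candD i) (2 ^ 336 - 1) := by
    rw [← Nat.eq_of_beq_eq_true h2]
    exact run_sound hQ L' hd hrv _ (tree_mask hQ L' hd hrv h1)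
  have land127 : ∀ n, Nat.land n 127 = n % 128 := fun n => Nat.and_two_pow_sub_one_eq_mod n 7
  have hstep : ∀ z < 21504, ∀ s < 2,
      elC t X a c z * (if s = 0 then a else c) = elC t X a c (step i z s) ∧ step i z s < 21504 := by
    intro z hz s hs
    have he := hall (2 * (z / 128) + s) (by omega) (bit_full (by omega))
    unfold Edge at he
    rw [show (2 * (z / 128) + s) / 2 = z / 128 by omega, show (2 * (z / 128) + s) % 2 = s by omega] at he
    have hn := next_lt' (show z / 128 < 168 by omega) hs
    have hq : qMul (z % 128) (delta i (z / 128) s) < 128 := qMul_lt (by omega) (field7_lt _ _)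
    have hst : step i z s = qMul (z % 128) (delta i (z / 128) s) + 128 * nextL (z / 128) s := by
      unfold step; rw [land127]
    rw [hst]
    refine ⟨?_, by omega⟩
    rw [elC, elC, mul_assoc, he, ← mul_assoc, hQ.qel_mul (show z % 128 < 128 by omega) (hd _)]
    show qel t X (qMul (z % 128) (delta i (z / 128) s)) * _ = _
    rw [show (qMul (z % 128) (delta i (z / 128) s) + 128 * nextL (z / 128) s) % 128 =
      qMul (z % 128) (delta i (z / 128) s) by omega,
      show (qMul (z % 128) (delta i (z / 128) s) + 128 * nextL (z / 128) s) / 128 = nextL (z / 128) s by omega]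
  have inj_aux : ∀ x < 21504, ∀ y < 21504, elC t X a c x = elC t X a c y → x = y := by
    intro x hx y hy e
    have hlo : x / 128 = y / 128 := by
      by_contra hne
      have key : ∀ j < 6, field 7 (field 42 (actData (i / 2)) (x / 128)) j % 64 =
          field 7 (field 42 (actData (i / 2)) (y / 128)) j % 64 := by
        intro j hj
        have hx' : lift a c (x / 128) = (qel t X (x % 128))⁻¹ * qel t X (y % 128) * lift a c (y / 128) := by
          unfold elC at e
          rw [mul_assoc, ← e, inv_mul_cancel_left]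
        obtain ⟨p, hp, hpe⟩ : ∃ p < 128, qel t X p = (qel t X (x % 128))⁻¹ * qel t X (y % 128) := by
          refine hQ.surj S h.card h.tS hX _ (mul_mem (inv_mem ?_) ?_) <;>
          exact mul_mem (mul_mem (mul_mem (mul_mem (pow_mem (hX 0 (by norm_num)) _) (pow_mem (hX 1 (by norm_num)) _))
            (pow_mem (hX 2 (by norm_num)) _))
            (mul_mem (mul_mem (pow_mem (hX 3 (by norm_num)) _) (pow_mem (hX 4 (by norm_num)) _))
            (pow_mem (hX 5 (by norm_num)) _))) (pow_mem h.tS _)
        rw [← hpe] at hx'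
        have h2 : (2 : ℕ) ^ j < 128 := lt_of_lt_of_le (Nat.pow_lt_pow_right one_lt_two hj) (by norm_num)
        have hA : ∀ l, l < 168 → lift a c l * X j * (lift a c l)⁻¹ = qel t X (field 7 (field 42 (actData (i / 2)) l) j) := by
          intro l hl
          have hw := word_act_checks
          simp only [List.all_eq_true, List.mem_range] at hw
          rw [← Nat.eq_of_beq_eq_true (hw _ L'.ty_lt l hl j hj), ← hQ.qel_gen j hj]
          exact hQ.conj_wd L'.at' L'.ct L'.actA L'.actC (wordL l) h2
        have h3 := hA _ (show x / 128 < 168 by omega)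
        rw [hx', show ∀ u v w : G, u * v * w * (u * v)⁻¹ = u * (v * w * v⁻¹) * u⁻¹ by intro u v w; group,
          hA _ (show y / 128 < 168 by omega), hQ.qel_cb hp (field7_lt _ _)] at h3
        have hu : field 7 (field 42 (actData (i / 2)) (y / 128)) j < 128 := field7_lt _ _
        generalize field 7 (field 42 (actData (i / 2)) (y / 128)) j = u at h3 hu ⊢
        generalize hv' : field 7 (field 42 (actData (i / 2)) (x / 128)) j = v at h3
        have hv128 : v < 128 := hv' ▸ field7_lt _ _
        rw [mul_assoc, (((hQ.comm_qel p).pow_left _).inv_right).eq, ← mul_assoc, mul_inv_cancel_right] at h3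
        rcases Nat.mod_two_eq_zero_or_one (cb p u) with z | z <;> rw [← hQ.tpow, z] at h3
        · rw [pow_zero, mul_one] at h3
          rw [hQ.qel_inj hu hv128 h3]
        · rw [pow_one, hQ.qel_mul_t hu] at h3
          have h64 : ∀ q < 128, qMul q 64 % 64 = q % 64 := by decide +kernel
          rw [← hQ.qel_inj (qMul_lt hu (by norm_num)) hv128 h3, h64 u hu]
      have hlow := low_checks
      simp only [List.all_eq_true, List.mem_range] at hlow
      have h1 := Nat.eq_of_beq_eq_true (hlow _ L'.ty_lt _ (show x / 128 < 168 by omega))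
      have h2 := Nat.eq_of_beq_eq_true (hlow _ L'.ty_lt _ (show y / 128 < 168 by omega))
      rw [List.map_congr_left (fun j hj => key j (List.mem_range.1 hj)), ← h2] at h1
      have hdis := distinct_checks
      simp only [distinctOK, List.all_eq_true, List.mem_range, Bool.not_eq_true'] at hdis
      rcases Nat.lt_or_gt_of_ne hne with hlt | hlt
      · have := hdis _ L'.ty_lt _ (show y / 128 < 168 by omega) _ hlt
        rw [h1, Nat.beq_refl] at this
        simp at this
      · have := hdis _ L'.ty_lt _ (show x / 128 < 168 by omega) _ hlt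
        rw [h1, Nat.beq_refl] at this
        simp at this
    unfold elC at e
    rw [hlo, mul_left_inj] at e
    have := hQ.qel_inj (by omega) (by omega) e
    omega
  refine ⟨{ el := elC t X a c, mem := ?_, el_mul := ?_, el_inj := ?_, surj := ?_, el_t := ?_ }⟩
  · intro x _
    exact ((hQ.comm_qel _).symm.mul_left (lift_comm hQ L' _)).eq
  · intro x hx y hy
    obtain ⟨e, hc⟩ := lift_conj hQ L' (show x / 128 < 168 by omega) (show y % 128 < 128 by omega)
    obtain ⟨z0, hz0⟩ : ∃ z, z = qMul (x % 128) (conjT (i / 2) (x / 128) (y % 128)) + 128 * (x / 128) := ⟨_, rfl⟩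
    have hq : qMul (x % 128) (conjT (i / 2) (x / 128) (y % 128)) < 128 := qMul_lt (by omega) hc
    have hmul : elC t X a c x * elC t X a c y = elC t X a c z0 * lift a c (y / 128) := by
      have h0 : z0 % 128 = qMul (x % 128) (conjT (i / 2) (x / 128) (y % 128)) := by omega
      have h1 : z0 / 128 = x / 128 := by omega
      rw [elC, elC, elC, h0, h1, ← hQ.qel_mul (by omega) hc, ← e]
      group
    have hrec : ∀ k, k ≤ wordLen (y / 128) →
        elC t X a c z0 * wd a c ((List.range k).map (wordBit (y / 128))) =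
          elC t X a c (Nat.rec (motive := fun _ => ℕ → ℕ) (fun z => z)
            (fun k ih z => step i (ih z) (wordBit (y / 128) k)) k z0) ∧
        Nat.rec (motive := fun _ => ℕ → ℕ) (fun z => z)
            (fun k ih z => step i (ih z) (wordBit (y / 128) k)) k z0 < 21504 := by
      intro k hk
      induction k with
      | zero => exact ⟨mul_one _, show z0 < 21504 by omega⟩
      | succ n ih =>
        obtain ⟨i1, i2⟩ := ih (by omega)
        obtain ⟨s1, s2⟩ := hstep _ i2 _ (wordBit_lt (y / 128) n)
        refine ⟨?_, s2⟩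
        rw [List.range_succ, List.map_append, List.map_singleton, wd_append, wd_singleton, ← mul_assoc, i1]
        exact s1
    have hm : mulC i x y = Nat.rec (motive := fun _ => ℕ → ℕ) (fun z => z)
        (fun k ih z => step i (ih z) (wordBit (y / 128) k)) (wordLen (y / 128)) z0 := by
      rw [hz0, ← land127, ← land127]; rfl
    rw [hm, hmul]
    exact (hrec _ le_rfl).1
  · exact inj_aux
  · intro g hg
    classical
    let C := centralizer ({t} : Set G)
    have hcard : Nat.card C = 21504 := by
      have hk : h.ψ.ker = S.subgroupOf C := by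
        ext g; exact h.ψ_ker g
      have hle : S ≤ C := fun q hq => mem_centralizer_singleton_iff.2 (h.le q hq).eq
      rw [← Subgroup.card_mul_index h.ψ.ker, Subgroup.index_ker, MonoidHom.range_eq_top_of_surjective _ h.ψ_surj,
        Subgroup.card_top, CfsgLib.Recog.HeldType.SLThreeTwo.card_eq, hk,
        Nat.card_congr (Subgroup.subgroupOfEquivOfLe hle).toEquiv, h.card]
    let F : Fin 21504 → C := fun x => ⟨elC t X a c x, mem_centralizer_singleton_iff.2
      ((hQ.comm_qel _).symm.mul_left (lift_comm hQ L' _)).eq⟩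
    have hinj : Function.Injective F := by
      intro x y e
      have e' : elC t X a c x = elC t X a c y := congrArg Subtype.val e
      exact Fin.ext (inj_aux x x.isLt y y.isLt e')
    obtain ⟨x, hx⟩ := ((Nat.bijective_iff_injective_and_card F).2 ⟨hinj, by rw [Nat.card_fin, hcard]⟩).2
      ⟨g, mem_centralizer_singleton_iff.2 hg⟩
    exact ⟨x, x.isLt, congrArg Subtype.val hx⟩
  · show qel t X (64 % 128) * wd a c (wordL (64 / 128)) = t
    rw [show (64 : ℕ) % 128 = 64 from rfl, show (64 : ℕ) / 128 = 0 from rfl, wordL_zero, hQ.qel_t]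
    exact mul_one t

end good

end CfsgLib.Recog.Held.Frame
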