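import Cfsg.Agent.Lib.Recog.Held.HeDefs

set_option autoImplicit false
set_option maxRecDepth 100000

/-! The checks for the Held fusion pattern (owner: helper22). -/

namespace CfsgLib.Recog.Held.He

theorem basic_ok : basicOK = true := by decide +kernel
theorem countT_ok : countTOK = true := by decide +kernel
theorem countT_eq : (countBelow 512 fun j => inT (sa j)) = 256 := by decide +kernel
theorem fixedF_le : 64 ≤ countBelow 512 fun j => inT (sa j) && comC (sa j) cf := by decide +kernel
theorem fixedG_le : 64 ≤ countBelow 512 fun j => inT (sa j) && comC (sa j) cg := by decide +kernel
theorem centre_ok : centreOK = true := by decide +kernel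
theorem coset_ok : cosetOK = true := by decide +kernel
theorem ke_ok : keOK = true := by decide +kernel
theorem cz_ok : czOK = true := by decide +kernel
theorem unique_ok : uniqueOK = true := by decide +kernel
theorem fixed_ok : fixedOK = true := by decide +kernel
theorem triples_ok : triplesOK = true := by decide +kernel
theorem ySizes_ok : ySizesOK = true := by decide +kernel

end CfsgLib.Recog.Held.He
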