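import Cfsg.Agent.Lib.Recog.Held.ColourCases
import Cfsg.Agent.Lib.Recog.Held.HeChecks

set_option autoImplicit false

/-!
The generators and the four-group `V` in a group with the Held fusion pattern, and the transports into `C(t)`
(owner: helper22).
-/

namespace CfsgLib.Recog.Held.He

open Subgroup

variable {G : Type*} [Group G] {t : G}

/-- An involution not conjugate to `t`. -/
def IsY (t x : G) : Prop := x ≠ 1 ∧ x * x = 1 ∧ ¬ IsConj x t

theorem IsY.conj {x : G} (h : IsY t x) (u : G) : IsY t (u * x * u⁻¹) := by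
  refine ⟨fun e => h.1 (by simpa using e), ?_, fun e => h.2.2 ((isConj_iff.2 ⟨u, rfl⟩).trans e)⟩
  rw [show u * x * u⁻¹ * (u * x * u⁻¹) = u * (x * x) * u⁻¹ by group, h.2.1]
  group

/-- What is used about the group: the coordinates, the pattern and the Sylow subgroup in `C(t)`. -/
structure Setting (K : Coord t 0) : Prop where
  hmask : K.mask = 123
  hS : ∃ P : Sylow 2 G, (P : Subgroup G) ≤ centralizer {t}

variable {K : Coord t 0}

theorem colT_iff (S : Setting K) {x : ℕ} (hx : x < 21504) : colT x = true ↔ IsConj (K.el x) t := by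
  rw [K.mask_spec (by norm_num) hx, S.hmask, colT, Bool.and_eq_true, Nat.blt_eq, Nat.pos_iff_ne_zero]

theorem colY_iff (S : Setting K) {x : ℕ} (hx : x < 21504) : colY x = true ↔ IsY t (K.el x) := by
  have hs := K.sq_iff (by norm_num) hx
  rw [colY, Bool.and_eq_true, Nat.blt_eq, Nat.pos_iff_ne_zero, Bool.not_eq_true', IsY,
    K.mask_spec (by norm_num) hx, S.hmask, ← and_assoc, hs]
  constructor
  · rintro ⟨a, b⟩
    exact ⟨a, fun h => by rw [h.2] at b; simp at b⟩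
  · rintro ⟨a, b⟩
    exact ⟨a, Bool.eq_false_iff.2 fun e => b ⟨a, e⟩⟩

theorem comC_iff {x y : ℕ} (hx : x < 21504) (hy : y < 21504) :
    comC x y = true ↔ Commute (K.el x) (K.el y) := by
  rw [comC, Nat.beq_eq]
  exact (K.commute_iff hx hy).symm

variable (K)

/-- `a`. -/
def a : G := K.el ca
/-- `b`. -/
def b : G := K.el cb
/-- `c`. -/
def c : G := K.el cc
/-- `f`. -/
def f : G := K.el cf
/-- `g`. -/
def g : G := K.el cg
/-- The second element of `V`. -/
def v : G := K.el cv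

theorem lt_ca : ca < 21504 := by norm_num [ca]
theorem lt_cb : cb < 21504 := by norm_num [cb]
theorem lt_cc : cc < 21504 := by norm_num [cc]
theorem lt_cf : cf < 21504 := by norm_num [cf]
theorem lt_cg : cg < 21504 := by norm_num [cg]
theorem lt_cv : cv < 21504 := by norm_num [cv]
theorem lt_cva : cva < 21504 := by norm_num [cva]

/-- The facts on the named elements. -/
structure Basic (K : Coord t 0) : Prop where
  va : v K * a K = K.el cva
  av : a K * v K = K.el cva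
  ya : IsY t (a K)
  yb : IsY t (b K)
  yc : IsY t (c K)
  tf : IsConj (f K) t
  tg : IsConj (g K) t
  yv : IsY t (v K)
  yva : IsY t (v K * a K)
  yea : IsY t (t * a K)
  fa : Commute (f K) (a K)
  ga : Commute (g K) (a K)
  ca' : Commute (c K) (a K)
  fv : Commute (f K) (v K)
  gv : Commute (g K) (v K)
  cv' : Commute (c K) (v K)
  fb : Commute (f K) (b K)
  gb : Commute (g K) (b K)
  cf' : Commute (c K) (f K)
  cg' : Commute (c K) (g K)
  bt : Commute (b K) t
  fgt : f K * g K * (f K * g K) = t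
  z_sq : a K * b K * (a K * b K) * (a K * b K * (a K * b K)) = 1
  bc : b K * c K * (b K * c K) * (b K * c K) = 1
  abc : a K * b K * c K * (a K * b K * c K) * (a K * b K * c K) = t
  c_notV : c K ≠ 1 ∧ c K ≠ a K ∧ c K ≠ v K ∧ c K ≠ v K * a K
  ct_notV : c K * t ≠ 1 ∧ c K * t ≠ a K ∧ c K * t ≠ v K ∧ c K * t ≠ v K * a K
  t_notV : t ≠ 1 ∧ t ≠ a K ∧ t ≠ v K ∧ t ≠ v K * a K
  vb : ¬ Commute (v K) (b K)
  vab : ¬ Commute (v K * a K) (b K)
  ab : ¬ Commute (a K) (b K)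
  zv : ¬ Commute (a K * b K * (a K * b K)) (v K)
  zvva : a K * b K * (a K * b K) * v K = v K * a K * (a K * b K * (a K * b K))
  cu : ¬ IsY t (c K * a K) ∧ ¬ IsY t (c K * v K) ∧ ¬ IsY t (c K * (v K * a K))
  eu : ¬ IsY t (a K * t * a K) ∧ ¬ IsY t (v K * t * a K) ∧ ¬ IsY t (v K * a K * t * a K)

theorem notInV {x : ℕ} (hx : x < 21504) (h : inV x = false) :
    K.el x ≠ 1 ∧ K.el x ≠ K.el ca ∧ K.el x ≠ K.el cv ∧ K.el x ≠ K.el cva := by
  simp only [inV, vList, List.any_cons, List.any_nil, Bool.or_false, Bool.or_eq_false_iff] at h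
  obtain ⟨h0, h1, h2, h3⟩ := h
  refine ⟨?_, ?_, ?_, ?_⟩
  · rw [← K.el_zero (by norm_num)]
    exact fun e => by rw [K.el_inj x hx 0 (by norm_num) e] at h0; simp at h0
  · exact fun e => by rw [K.el_inj x hx _ lt_ca e] at h1; simp at h1
  · exact fun e => by rw [K.el_inj x hx _ lt_cv e] at h2; simp at h2
  · exact fun e => by rw [K.el_inj x hx _ lt_cva e] at h3; simp at h3

theorem basic (S : Setting K) : Basic K := by
  have h := basic_ok
  simp only [basicOK, Bool.and_eq_true, Nat.beq_eq, Bool.not_eq_true'] at h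
  obtain ⟨-, -, hva, hav, ya, yb, yc, tf, tg, yv, yva, yea, fa, ga, ca', fv, gv, cv', fb, gb, cf', cg', bt,
    fgt, zsq, bc, abc, nc, nct, nt, vb, vab, ab, zv, zvva, u1, u2, u3, e1, e2, e3⟩ := h
  have hz : K.el cz = a K * b K * (a K * b K) := by
    rw [cz, ← K.el_mul _ (mulC_lt lt_ca _) _ (mulC_lt lt_ca _), ← K.el_mul _ lt_ca _ lt_cb]; rfl
  have hzl : cz < 21504 := mulC_lt (mulC_lt lt_ca _) _
  have hvaE : v K * a K = K.el cva := by rw [v, a, K.el_mul _ lt_cv _ lt_ca, hva]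
  have notY : ∀ x, x < 21504 → colY x = false → ¬ IsY t (K.el x) := fun x hx hc hy => by
    rw [(colY_iff S hx).2 hy] at hc; simp at hc
  have notC : ∀ x y, x < 21504 → y < 21504 → comC x y = false → ¬ Commute (K.el x) (K.el y) :=
    fun x y hx hy hc hh => by rw [(comC_iff hx hy).2 hh] at hc; simp at hc
  have he : K.el 64 = t := K.el_t
  have h64 : (64 : ℕ) < 21504 := by norm_num
  refine ⟨hvaE, by rw [a, v, K.el_mul _ lt_ca _ lt_cv, hav], (colY_iff S lt_ca).1 ya, (colY_iff S lt_cb).1 yb,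
    (colY_iff S lt_cc).1 yc, (colT_iff S lt_cf).1 tf, (colT_iff S lt_cg).1 tg, (colY_iff S lt_cv).1 yv,
    hvaE ▸ (colY_iff S lt_cva).1 yva, ?_, (comC_iff lt_cf lt_ca).1 fa, (comC_iff lt_cg lt_ca).1 ga,
    (comC_iff lt_cc lt_ca).1 ca', (comC_iff lt_cf lt_cv).1 fv, (comC_iff lt_cg lt_cv).1 gv,
    (comC_iff lt_cc lt_cv).1 cv', (comC_iff lt_cf lt_cb).1 fb, (comC_iff lt_cg lt_cb).1 gb,
    (comC_iff lt_cc lt_cf).1 cf', (comC_iff lt_cc lt_cg).1 cg', ?bt,
    ?_, ?_, ?_, ?_, ?_, ?_, ?_, notC _ _ lt_cv lt_cb vb, hvaE ▸ notC _ _ lt_cva lt_cb vab,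
    notC _ _ lt_ca lt_cb ab, hz ▸ notC _ _ hzl lt_cv zv, ?_, ⟨?_, ?_, ?_⟩, ⟨?_, ?_, ?_⟩⟩
  case bt =>
    have := (comC_iff (K := K) lt_cb h64).1 bt
    rwa [he] at this
  · have := (colY_iff S (mulC_lt h64 _)).1 yea
    rwa [← K.el_mul _ h64 _ lt_ca, he] at this
  · show K.el cf * K.el cg * (K.el cf * K.el cg) = t
    rw [K.el_mul _ lt_cf _ lt_cg, K.el_mul _ (mulC_lt lt_cf _) _ (mulC_lt lt_cf _), fgt, he]
  · rw [← hz, K.el_mul _ hzl _ hzl, zsq, K.el_zero (by norm_num)]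
  · show K.el cb * K.el cc * (K.el cb * K.el cc) * (K.el cb * K.el cc) = 1
    rw [K.el_mul _ lt_cb _ lt_cc, K.el_mul _ (mulC_lt lt_cb _) _ (mulC_lt lt_cb _),
      K.el_mul _ (mulC_lt (mulC_lt lt_cb _) _) _ (mulC_lt lt_cb _), bc, K.el_zero (by norm_num)]
  · show K.el ca * K.el cb * K.el cc * (K.el ca * K.el cb * K.el cc) * (K.el ca * K.el cb * K.el cc) = t
    rw [K.el_mul _ lt_ca _ lt_cb, K.el_mul _ (mulC_lt lt_ca _) _ lt_cc,
      K.el_mul _ (mulC_lt (mulC_lt lt_ca _) _) _ (mulC_lt (mulC_lt lt_ca _) _),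
      K.el_mul _ (mulC_lt (mulC_lt (mulC_lt lt_ca _) _) _) _ (mulC_lt (mulC_lt lt_ca _) _), abc, he]
  · rw [hvaE]; exact notInV K lt_cc nc
  · have := notInV K (mulC_lt lt_cc _) nct
    rw [← K.el_mul _ lt_cc _ h64, he] at this
    rw [hvaE]; exact this
  · have := notInV K h64 nt
    rw [he] at this
    rw [hvaE]; exact this
  · rw [hvaE, ← hz, v, K.el_mul _ hzl _ lt_cv, K.el_mul _ lt_cva _ hzl, zvva]
  · rw [c, a, K.el_mul _ lt_cc _ lt_ca]; exact notY _ (mulC_lt lt_cc _) u1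
  · rw [c, v, K.el_mul _ lt_cc _ lt_cv]; exact notY _ (mulC_lt lt_cc _) u2
  · rw [hvaE, c, K.el_mul _ lt_cc _ lt_cva]; exact notY _ (mulC_lt lt_cc _) u3
  · have := notY _ (mulC_lt (mulC_lt lt_ca _) _) e1
    rw [← K.el_mul _ (mulC_lt lt_ca _) _ lt_ca, ← K.el_mul _ lt_ca _ h64, he] at this
    rw [a]; exact this
  · have := notY _ (mulC_lt (mulC_lt lt_cv _) _) e2
    rw [← K.el_mul _ (mulC_lt lt_cv _) _ lt_ca, ← K.el_mul _ lt_cv _ h64, he] at this
    rw [a, v]; exact this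
  · have := notY _ (mulC_lt (mulC_lt lt_cva _) _) e3
    rw [← K.el_mul _ (mulC_lt lt_cva _) _ lt_ca, ← K.el_mul _ lt_cva _ h64, he] at this
    rw [hvaE, a]; exact this

variable {K}

theorem rep_two : rep 0 2 = ca := by
  have h := basic_ok
  simp only [basicOK, Bool.and_eq_true, Nat.beq_eq] at h
  exact h.1

theorem hsz_two : hsz 0 2 = 512 := by
  have h := basic_ok
  simp only [basicOK, Bool.and_eq_true, Nat.beq_eq] at h
  exact h.2.1

theorem two_lt : 2 < ncls 0 ∧ 2 ≠ ktc 0 := by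
  have h : (Nat.blt 2 (ncls 0) && !Nat.beq 2 (ktc 0)) = true := by decide +kernel
  simp only [Bool.and_eq_true, Nat.blt_eq, Bool.not_eq_true'] at h
  exact ⟨h.1, fun e => by rw [← e] at h; simp at h⟩

theorem sa_lt {j : ℕ} (hj : j < 512) : sa j < 21504 :=
  ((stab_spec (by norm_num) two_lt.1 two_lt.2).2.1 j (hsz_two ▸ hj)).1

/-- The elements of `C(t) ∩ C(a)`. -/
theorem exists_sa [Finite G] {x : G} (ht : Commute x t) (ha : Commute x (a K)) : ∃ j < 512, K.el (sa j) = x := by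
  have h := (K.stab_iff (by norm_num) two_lt.1 two_lt.2 x).1 ⟨ht.eq, by rw [rep_two]; exact ha.eq⟩
  rwa [hsz_two] at h

theorem sa_mem [Finite G] {j : ℕ} (hj : j < 512) :
    Commute (K.el (sa j)) t ∧ Commute (K.el (sa j)) (a K) := by
  have h := (K.stab_iff (by norm_num) two_lt.1 two_lt.2 _).2 ⟨j, hsz_two ▸ hj, rfl⟩
  rw [rep_two] at h
  exact h

theorem card_sa [Finite G] (P : G → Prop) (p : ℕ → Bool) (hp : ∀ j < 512, (p j = true ↔ P (K.el (sa j)))) :
    Nat.card {x : G // (Commute x t ∧ Commute x (a K)) ∧ P x} = countBelow 512 p := by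
  have h := K.card_stab (by norm_num) two_lt.1 two_lt.2 P p (by rw [hsz_two]; exact hp)
  rw [hsz_two, rep_two] at h
  exact h

/-- An uncoloured involution has a two-group of order at most 512 as centraliser in `C(t)`. -/
theorem y_cent [Finite G] (S : Setting K) {u : G} (hu : IsY t u) (hut : Commute u t) :
    IsPGroup 2 (centralizer ({t} : Set G) ⊓ centralizer ({u} : Set G) : Subgroup G) := by
  obtain ⟨x, hx, rfl⟩ := K.surj u hut.eq
  have hc := (K.sq_iff (by norm_num) hx).1 ⟨hu.1, hu.2.1⟩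
  obtain ⟨h, hh1, hh2⟩ := K.class_conj (by norm_num) hx hc
  have hb : clsOf 0 x - 1 < ncls 0 := by have := clsOf_lt (i := 0) (by norm_num) hx; omega
  set k := clsOf 0 x - 1
  have hy : bitOn 123 k = false := Bool.eq_false_iff.2 fun e =>
    hu.2.2 ((K.mask_spec (by norm_num) hx).2 ⟨hc, by rw [S.hmask]; exact e⟩)
  have hkt : k ≠ ktc 0 := fun e => by
    rw [e, Bool.eq_false_iff] at hy
    exact hy (by rw [← S.hmask]; exact (K.mask_bit (classes_spec (by norm_num)).1).2 (by rw [K.rep_kt (by norm_num)]))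
  have hs := ySizes_ok
  simp only [ySizesOK, allBelow_spec, Bool.or_eq_true, Nat.beq_eq] at hs
  have hsz' := (hs k hb).resolve_left (by rw [hy]; simp)
  have hcard : Nat.card (centralizer ({t} : Set G) ⊓ centralizer ({K.el x} : Set G) : Subgroup G) = hsz 0 k := by
    rw [← (K.root_count (by norm_num) hb hkt).2.2]
    have hh1' : Commute h⁻¹ t := Commute.inv_left hh1
    refine Nat.card_congr (Equiv.subtypeEquiv (MulAut.conj h⁻¹).toEquiv fun y => ?_)
    rw [Subgroup.mem_inf, mem_centralizer_singleton_iff, mem_centralizer_singleton_iff]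
    show _ ↔ h⁻¹ * y * h⁻¹⁻¹ * t = t * (h⁻¹ * y * h⁻¹⁻¹) ∧
      h⁻¹ * y * h⁻¹⁻¹ * K.el (rep 0 k) = K.el (rep 0 k) * (h⁻¹ * y * h⁻¹⁻¹)
    have ht' : h⁻¹ * t * h⁻¹⁻¹ = t := mul_inv_eq_iff_eq_mul.2 hh1'.eq
    have hr' : h⁻¹ * K.el x * h⁻¹⁻¹ = K.el (rep 0 k) := by rw [← hh2]; group
    rw [show h⁻¹ * y * h⁻¹⁻¹ * K.el (rep 0 k) = h⁻¹ * (y * K.el x) * h⁻¹⁻¹ by rw [← hr']; group,
      show K.el (rep 0 k) * (h⁻¹ * y * h⁻¹⁻¹) = h⁻¹ * (K.el x * y) * h⁻¹⁻¹ by rw [← hr']; group]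
    have e1 : h⁻¹ * y * h⁻¹⁻¹ * t = h⁻¹ * (y * t) * h⁻¹⁻¹ :=
      calc h⁻¹ * y * h⁻¹⁻¹ * t = h⁻¹ * y * h⁻¹⁻¹ * (h⁻¹ * t * h⁻¹⁻¹) := by rw [ht']
        _ = _ := by group
    have e2 : t * (h⁻¹ * y * h⁻¹⁻¹) = h⁻¹ * (t * y) * h⁻¹⁻¹ :=
      calc t * (h⁻¹ * y * h⁻¹⁻¹) = h⁻¹ * t * h⁻¹⁻¹ * (h⁻¹ * y * h⁻¹⁻¹) := by rw [ht']
        _ = _ := by group
    rw [e1, e2, mul_left_inj, mul_right_inj, mul_left_inj, mul_right_inj]
  rcases hsz' with e | e
  · exact IsPGroup.of_card (n := 9) (by rw [hcard, e]; norm_num)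
  · exact IsPGroup.of_card (n := 8) (by rw [hcard, e]; norm_num)

/-- The bound on two-groups centralising an uncoloured involution. -/
theorem card_le_512 [Finite G] (S : Setting K) {u : G} (hu : IsY t u) {R : Subgroup G} (hR : IsPGroup 2 R)
    (hRu : R ≤ centralizer {u}) : Nat.card R ≤ 512 := by
  refine card_le_of_uncoloured K (by norm_num) S.hS ⟨9, by norm_num⟩ (fun k hk => ?_) hu.1 hu.2.1 hu.2.2 hR hRu
  have hs := ySizes_ok
  simp only [ySizesOK, allBelow_spec, Bool.or_eq_true, Nat.beq_eq] at hs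
  rcases hs k hk with e | e | e
  · exact Or.inl (S.hmask.symm ▸ e)
  · right; rw [e]; norm_num
  · right; rw [e]; norm_num

/-- A coloured involution centralising `a` and `b` with their pattern is moved to `t` fixing both. -/
theorem transport [Finite G] (S : Setting K) (u : ℕ) (hu : u < 21504) (hut : colT u = true)
    (hua : Commute (K.el u) (a K)) (hub : Commute (K.el u) (b K)) (hau : colY (mulC 0 ca u) = true)
    (hpat : pattern ca cb u = true) :
    ∃ k : G, Commute k (a K) ∧ Commute k (b K) ∧ k * t * k⁻¹ = K.el u := by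
  obtain ⟨k0, hk0⟩ := isConj_iff.1 ((colT_iff S hu).1 hut)
  set A := k0 * a K * k0⁻¹ with hA
  set B := k0 * b K * k0⁻¹ with hB
  have hAt : A * t = t * A := by rw [← hk0]; exact (hua.symm.map (MulAut.conj k0)).eq
  have hBt : B * t = t * B := by rw [← hk0]; exact (hub.symm.map (MulAut.conj k0)).eq
  have yA : IsY t A := ((colY_iff S lt_ca).1 (by
    have h := basic_ok; simp only [basicOK, Bool.and_eq_true] at h; exact h.2.2.2.2.1)).conj k0
  obtain ⟨x, hx, hxA⟩ := K.surj A hAt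
  have hc := (K.sq_iff (by norm_num) hx).1 (hxA ▸ ⟨yA.1, yA.2.1⟩)
  obtain ⟨h, hh1, hh2⟩ := K.class_conj (by norm_num) hx hc
  have hbk : clsOf 0 x - 1 < ncls 0 := by have := clsOf_lt (i := 0) (by norm_num) hx; omega
  have ht' := triples_ok
  simp only [triplesOK, Bool.and_eq_true] at ht'
  obtain ⟨htri, -, -, -, -, hcls⟩ := ht'
  rw [allBelow_spec] at hcls
  have hht : h⁻¹ * t * h = t := by rw [mul_assoc, ← hh1]; group
  have hcls2 : clsOf 0 x - 1 = 2 := by
    have hy : bitOn 123 (clsOf 0 x - 1) = false := Bool.eq_false_iff.2 fun e =>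
      yA.2.2 (hxA ▸ (K.mask_spec (by norm_num) hx).2 ⟨hc, by rw [S.hmask]; exact e⟩)
    have hr := ((classes_spec (i := 0) (by norm_num)).2.2.2.2 _ hbk).1
    have hYt : colY (mulC 0 (rep 0 (clsOf 0 x - 1)) 64) = true := by
      rw [colY_iff S (mulC_lt hr _), ← K.el_mul _ hr _ (by norm_num : 64 < 21504), K.el_t]
      have e1 : IsY t (A * t) := by
        have h2 := ((colY_iff S (mulC_lt lt_ca u)).1 hau).conj k0
        rwa [← K.el_mul _ lt_ca _ hu, show K.el ca = a K from rfl,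
          show k0 * (a K * K.el u) * k0⁻¹ = (k0 * a K * k0⁻¹) * (k0 * K.el u * k0⁻¹) by group, hk0, ← hA] at h2
      have h3 := e1.conj h⁻¹
      rw [← hxA, ← hh2] at h3
      convert h3 using 1
      rw [inv_inv]
      calc K.el (rep 0 (clsOf 0 x - 1)) * t = K.el (rep 0 (clsOf 0 x - 1)) * (h⁻¹ * t * h) := by rw [hht]
        _ = _ := by group
    have := hcls _ hbk
    simp only [Bool.or_eq_true, Nat.beq_eq, Bool.not_eq_true', hy, hYt] at this
    rcases this with e | e | e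
    · exact e
    · simp at e
    · simp at e
  rw [hcls2, rep_two, ← show a K = K.el ca from rfl, hxA] at hh2
  set f0 := h⁻¹ * k0 with hf0
  have fA : f0 * a K * f0⁻¹ = a K := by
    rw [hf0, show h⁻¹ * k0 * a K * (h⁻¹ * k0)⁻¹ = h⁻¹ * (k0 * a K * k0⁻¹) * h by group, ← hA, ← hh2]
    group
  have fu : f0 * K.el u * f0⁻¹ = t := by
    rw [hf0, show h⁻¹ * k0 * K.el u * (h⁻¹ * k0)⁻¹ = h⁻¹ * (k0 * K.el u * k0⁻¹) * h by group, hk0, hht]
  have fBt : (f0 * b K * f0⁻¹) * t = t * (f0 * b K * f0⁻¹) := by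
    have h2 : f0 * b K * f0⁻¹ * (f0 * K.el u * f0⁻¹) = f0 * K.el u * f0⁻¹ * (f0 * b K * f0⁻¹) :=
      (hub.symm.map (MulAut.conj f0)).eq
    rwa [fu] at h2
  obtain ⟨y, hy, hyB⟩ := K.surj _ fBt
  -- the pattern moves with the conjugation
  have img : ∀ {p q : G} {x y : ℕ}, x < 21504 → y < 21504 → f0 * p * f0⁻¹ = K.el x → f0 * q * f0⁻¹ = K.el y →
      f0 * (p * q) * f0⁻¹ = K.el (mulC 0 x y) := by
    intro p q x y hx hy e1 e2
    rw [← K.el_mul _ hx _ hy, ← e1, ← e2]; group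
  have hmA : f0 * a K * f0⁻¹ = K.el ca := fA
  have hmu : f0 * K.el u * f0⁻¹ = K.el 64 := by rw [fu, K.el_t]
  have hmB : f0 * b K * f0⁻¹ = K.el y := hyB.symm
  have moveY : ∀ {p : G} {x z : ℕ}, x < 21504 → z < 21504 → f0 * p * f0⁻¹ = K.el z → p = K.el x →
      colY x = true → colY z = true := by
    intro p x z hx hz e1 e2 hc
    rw [colY_iff S hz, ← e1, e2]
    exact ((colY_iff S hx).1 hc).conj f0
  have moveT : ∀ {p : G} {x z : ℕ}, x < 21504 → z < 21504 → f0 * p * f0⁻¹ = K.el z → p = K.el x →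
      colT x = true → colT z = true := by
    intro p x z hx hz e1 e2 hc
    rw [colT_iff S hz, ← e1, e2]
    exact ((isConj_iff.2 ⟨f0, rfl⟩).symm).trans ((colT_iff S hx).1 hc)
  simp only [pattern, Bool.and_eq_true] at hpat
  obtain ⟨p1, p2, p3, p4, p5, p6, p7⟩ := hpat
  have l64 : (64 : ℕ) < 21504 := by norm_num
  have hyy : pattern ca y 64 = true := by
    have la := lt_ca; have lb := lt_cb
    have lab := mulC_lt (i := 0) la cb
    have lay := mulC_lt (i := 0) la y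
    have lba := mulC_lt (i := 0) lb ca
    have lya := mulC_lt (i := 0) hy ca
    simp only [pattern, Bool.and_eq_true]
    refine ⟨moveY lb hy hmB rfl p1, ?_, ?_, ?_, ?_, ?_, ?_⟩
    · exact moveT (mulC_lt lb _) (mulC_lt hy _) (img hy l64 hmB hmu) (K.el_mul _ lb _ hu) p2
    · refine moveY (mulC_lt lab _) (mulC_lt lay _) (img lay la (img la hy hmA hmB) hmA) ?_ p3
      rw [a, b, K.el_mul _ la _ lb, K.el_mul _ lab _ la]
    · refine moveY (mulC_lt lba _) (mulC_lt lya _) (img lya hy (img hy la hmB hmA) hmB) ?_ p4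
      rw [a, b, K.el_mul _ lb _ la, K.el_mul _ lba _ lb]
    · refine moveY (mulC_lt (mulC_lt lba _) _) (mulC_lt (mulC_lt lya _) _)
        (img (mulC_lt lya _) l64 (img lya hy (img hy la hmB hmA) hmB) hmu) ?_ p5
      rw [a, b, K.el_mul _ lb _ la, K.el_mul _ lba _ lb, K.el_mul _ (mulC_lt lba _) _ hu]
    · refine moveY (mulC_lt lab _) (mulC_lt lay _) (img lay lay (img la hy hmA hmB) (img la hy hmA hmB)) ?_ p6
      rw [a, b, K.el_mul _ la _ lb, K.el_mul _ lab _ lab]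
    · refine moveY (mulC_lt (mulC_lt lab _) _) (mulC_lt (mulC_lt lay _) _)
        (img (mulC_lt lay _) l64 (img lay lay (img la hy hmA hmB) (img la hy hmA hmB)) hmu) ?_ p7
      rw [a, b, K.el_mul _ la _ lb, K.el_mul _ lab _ lab, K.el_mul _ (mulC_lt lab _) _ hu]
  have hy0 : 0 < field 8 slotData (y / 128) := by
    simp only [pattern, Bool.and_eq_true, colY, Nat.blt_eq] at hyy
    by_contra hh
    have : clsOf 0 y = 0 := by rw [clsOf, entry_off (by omega)]; rfl
    omega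
  obtain ⟨hs1, hs2⟩ := slotOf_spec hy hy0
  rw [allBelow_spec] at htri
  have := htri _ hs1
  rw [hs2, hyy] at this
  simp only [Bool.not_true, Bool.false_or, Bool.not_eq_true'] at this
  obtain ⟨j, hj, hje⟩ : ∃ j < 512, mulC 0 (sa j) cb = mulC 0 y (sa j) := by
    by_contra hh
    rw [Bool.eq_false_iff] at this
    exact this (allBelow_spec.2 fun j hj => by
      rw [Bool.not_eq_true', Bool.eq_false_iff]
      exact fun e => hh ⟨j, hj, Nat.eq_of_beq_eq_true e⟩)
  set s := K.el (sa j) with hs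
  obtain ⟨hst, hsa⟩ := sa_mem (K := K) hj
  have hsb : s * b K * s⁻¹ = f0 * b K * f0⁻¹ := by
    rw [mul_inv_eq_iff_eq_mul, ← hyB, hs, b, K.el_mul _ (sa_lt hj) _ lt_cb, K.el_mul _ hy _ (sa_lt hj), hje]
  refine ⟨f0⁻¹ * s, ?_, ?_, ?_⟩
  · refine Commute.mul_left (Commute.inv_left ?_) hsa
    exact mul_inv_eq_iff_eq_mul.1 fA
  · refine mul_inv_eq_iff_eq_mul.1 ?_
    rw [show f0⁻¹ * s * b K * (f0⁻¹ * s)⁻¹ = f0⁻¹ * (s * b K * s⁻¹) * f0 by group, hsb]
    group
  · rw [show f0⁻¹ * s * t * (f0⁻¹ * s)⁻¹ = f0⁻¹ * (s * t * s⁻¹) * f0 by group,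
      mul_inv_eq_iff_eq_mul.2 hst.eq]
    have h2 := congrArg (fun z => f0⁻¹ * z * f0) fu
    rw [← h2]
    group

end CfsgLib.Recog.Held.He
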