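import Cfsg.Agent.Lib.Recog.Held.HeFour

set_option autoImplicit false
set_option maxRecDepth 4000

/-!
`HeldType.FourData` from the Held fusion pattern (owner: helper22).
-/

namespace CfsgLib.Recog.Held.He

open Subgroup
open CfsgLib.Recog.HeldType (FourData)

variable {G : Type*} [Group G] [Finite G] {t : G} {K : Coord t 0}

theorem dList_lt : ∀ h ∈ dList, h < 21504 := by
  have h : (dList.all fun x => Nat.blt x 21504) = true := by decide +kernel
  intro x hx
  simpa [Nat.blt_eq] using List.all_eq_true.1 h x hx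

theorem dList_mem (B : Basic K) : ∀ h ∈ dList, K.el h ∈ closure ({f K, g K} : Set G) := by
  have hf : f K ∈ closure ({f K, g K} : Set G) := subset_closure (Set.mem_insert _ _)
  have hg : g K ∈ closure ({f K, g K} : Set G) := subset_closure (Set.mem_insert_of_mem _ rfl)
  intro h hh
  simp only [dList, List.mem_cons, List.not_mem_nil, or_false] at hh
  rcases hh with rfl | rfl | rfl | rfl | rfl | rfl | rfl | rfl
  · rw [K.el_zero (by norm_num)]; exact one_mem _
  · exact hf
  · exact hg
  · rw [← K.el_mul _ lt_cf _ lt_cg]; exact mul_mem hf hg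
  · rw [← K.el_mul _ lt_cg _ lt_cf]; exact mul_mem hg hf
  · rw [← K.el_mul _ (mulC_lt lt_cf _) _ lt_cf, ← K.el_mul _ lt_cf _ lt_cg]
    exact mul_mem (mul_mem hf hg) hf
  · rw [← K.el_mul _ (mulC_lt lt_cg _) _ lt_cg, ← K.el_mul _ lt_cg _ lt_cf]
    exact mul_mem (mul_mem hg hf) hg
  · have h2 := mul_mem (mul_mem hf hg) (mul_mem hf hg)
    rw [B.fgt] at h2
    rw [K.el_t]; exact h2

theorem el_cz : K.el cz = a K * b K * (a K * b K) := by
  rw [cz, ← K.el_mul _ (mulC_lt lt_ca _) _ (mulC_lt lt_ca _), ← K.el_mul _ lt_ca _ lt_cb]; rfl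

theorem cz_lt : cz < 21504 := mulC_lt (mulC_lt lt_ca _) _

variable (S : Setting K)
include S

/-- `C(t) ∩ C(a) ∩ C(b) = ⟨(ab)²⟩ × ⟨f, g⟩`. -/
theorem ke (B : Basic K) {x : G} (hxa : Commute x (a K)) (hxb : Commute x (b K)) (hxt : Commute x t) :
    ∃ h ∈ closure ({f K, g K} : Set G), x = h ∨ x = a K * b K * (a K * b K) * h := by
  obtain ⟨j, hj, rfl⟩ := exists_sa (K := K) hxt hxa
  have hk := ke_ok
  rw [keOK, allBelow_spec] at hk
  have h := hk j hj
  rw [(comC_iff (sa_lt hj) lt_cb).2 hxb] at h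
  simp only [Bool.not_true, Bool.false_or, Bool.and_eq_true, Bool.or_eq_true, List.any_eq_true, Nat.beq_eq] at h
  rcases h.1 with ⟨d, hd, e⟩ | ⟨d, hd, e⟩
  · exact ⟨K.el d, dList_mem B d hd, Or.inl (by rw [e])⟩
  · exact ⟨K.el d, dList_mem B d hd, Or.inr (by rw [e, ← K.el_mul _ cz_lt _ (dList_lt d hd), el_cz])⟩

/-- The data of `HeldType.FourData`. -/
theorem fourData (B : Basic K) :
    FourData (IsY t) (fourGroup K B) (a K) (b K) (c K) (f K) (g K) := by
  have ht2 : t * t = 1 := K.t_sq (by norm_num)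
  have hVinv : ∀ z ∈ fourGroup K B, z * z = 1 := fun z hz => by
    rcases (mem_four B).1 hz with rfl | rfl | rfl | rfl
    · simp
    · exact B.ya.2.1
    · exact B.yv.2.1
    · exact B.yva.2.1
  have notV : ∀ {x : G}, x ≠ 1 ∧ x ≠ a K ∧ x ≠ v K ∧ x ≠ v K * a K → x ∉ fourGroup K B := fun {x} h hx => by
    rcases (mem_four B).1 hx with e | e | e | e
    exacts [h.1 e, h.2.1 e, h.2.2.1 e, h.2.2.2 e]
  have hff := (K.inv_of_conj_t (by norm_num) B.tf).2
  have hgg := (K.inv_of_conj_t (by norm_num) B.tg).2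
  have hzN : a K * b K * (a K * b K) ∈ normalizer (fourGroup K B : Set G) := by
    have hza : Commute (a K * b K * (a K * b K)) (a K) := by
      have h1 : a K * (a K * b K * (a K * b K)) = (a K * b K * (a K * b K))⁻¹ * a K := by
        rw [_root_.mul_inv_rev, _root_.mul_inv_rev, inv_eq_of_mul_eq_one_right B.ya.2.1,
          inv_eq_of_mul_eq_one_right B.yb.2.1]
        simp only [mul_assoc, ← mul_assoc (a K) (a K), B.ya.2.1, one_mul, mul_one]
      rw [inv_eq_of_mul_eq_one_right B.z_sq] at h1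
      exact h1.symm
    set z := a K * b K * (a K * b K) with hz
    have hav : z * v K * z⁻¹ = v K * a K := mul_inv_eq_iff_eq_mul.2 B.zvva
    have haa : z * a K * z⁻¹ = a K := mul_inv_eq_iff_eq_mul.2 hza.eq
    refine mem_normalizer_iff_map_conj_eq.2 (eq_of_le_of_card_ge ?_ ?_)
    · rintro _ ⟨x, hx, rfl⟩
      show z * x * z⁻¹ ∈ fourGroup K B
      rcases (mem_four B).1 hx with rfl | rfl | rfl | rfl
      · simp
      · rw [haa]; exact a_mem B
      · rw [hav]; exact mul_mem (v_mem B) (a_mem B)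
      · rw [show z * (v K * a K) * z⁻¹ = z * v K * z⁻¹ * (z * a K * z⁻¹) by group, hav, haa]
        exact mul_mem (mul_mem (v_mem B) (a_mem B)) (a_mem B)
    · exact (Nat.card_congr ((fourGroup K B).equivMapOfInjective _ (MulAut.conj z).injective).toEquiv).le
  refine
    { hP := fun u x hx => hx.conj u
      hV := hVinv
      hV4 := ⟨v K, fun x hx => (mem_four B).1 hx⟩
      ha := a_mem B
      hb2 := B.yb.2.1
      hab := B.z_sq
      hsq := fun x hx hxV hxx => ?_
      hcit := fun x hx hxV hxx => ?_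
      fC := (mem_cent_four B).2 ⟨B.fa, B.fv⟩
      gC := (mem_cent_four B).2 ⟨B.ga, B.gv⟩
      fb := B.fb
      gb := B.gb
      hf := hff
      hg := hgg
      hee := by rw [B.fgt]; exact ht2
      heV := by rw [B.fgt]; exact notV B.t_notV
      hea := by rw [B.fgt]; exact B.yea
      hKe := fun x hxa hxb hxe => ke S B hxa hxb (B.fgt ▸ hxe)
      hfus := ?_
      hfus' := ?_
      hNg := fun x hxa hxb hxg => ?_
      hNf := fun x hxa hxb hxf => ?_
      hzC := fun h => B.zv ((mem_cent_four B).1 h).2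
      hzN := hzN
      hKV := fun w hw hwb => ?_
      hCz := fun x hx hz he => ?_
      cC := (mem_cent_four B).2 ⟨B.ca', B.cv'⟩
      hc2 := B.yc.2.1
      hcV := notV B.c_notV
      hceV := by rw [B.fgt]; exact notV B.ct_notV
      hcf := B.cf'
      hcg := B.cg' }
  · -- squares
    obtain ⟨w, hw, hwx⟩ := conj_into_sylT B S hx hxx
    obtain ⟨ht', ha', hv'⟩ := (mem_sylT B).1 hwx
    obtain ⟨j, hj, hje⟩ := exists_sa (K := K) ht' ha'
    have hwV : ∀ z ∈ fourGroup K B, w * z * w⁻¹ = z := fun z hz =>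
      mul_inv_eq_iff_eq_mul.2 (mem_centralizer_iff.1 hw z hz).symm
    have hnV : inV (sa j) = false := Bool.eq_false_iff.2 fun e => by
      have hmem : w * x * w⁻¹ ∈ fourGroup K B := hje ▸ el_inV B (sa_lt hj) e
      have : x = w * x * w⁻¹ := by
        have h1 := hwV _ hmem
        have : w * (w * x * w⁻¹) * w⁻¹ = w * x * w⁻¹ := h1
        simpa using this.symm
      exact hxV (this ▸ hmem)
    have hsq : inV (mulC 0 (sa j) (sa j)) = true := inV_of_mem B (mulC_lt (sa_lt hj) _) (by
      rw [← K.el_mul _ (sa_lt hj) _ (sa_lt hj), hje,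
        show w * x * w⁻¹ * (w * x * w⁻¹) = w * (x * x) * w⁻¹ by group, hwV _ hxx]
      exact hxx)
    have hc := coset_ok
    rw [cosetOK, allBelow_spec] at hc
    have h := hc j hj
    rw [(inT_iff hj).2 (hje ▸ hv'), hnV, hsq] at h
    simp only [Bool.not_true, Bool.false_or, Bool.and_eq_true, Nat.beq_eq] at h
    have h1 : K.el (sa j) * K.el (sa j) = 1 := by
      rw [← K.el_zero (by norm_num), K.mul_eq_iff (sa_lt hj) (sa_lt hj) (by norm_num)]; exact h.1
    rw [hje, show w * x * w⁻¹ * (w * x * w⁻¹) = w * (x * x) * w⁻¹ by group] at h1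
    have h2 := congrArg (fun y => w⁻¹ * y * w) h1
    simpa [mul_assoc] using h2
  · -- two-group centralisers
    obtain ⟨w, hw, hwx⟩ := conj_into_sylT B S hx hxx
    obtain ⟨ht', ha', hv'⟩ := (mem_sylT B).1 hwx
    obtain ⟨j, hj, hje⟩ := exists_sa (K := K) ht' ha'
    have hwV : ∀ z ∈ fourGroup K B, w * z * w⁻¹ = z := fun z hz =>
      mul_inv_eq_iff_eq_mul.2 (mem_centralizer_iff.1 hw z hz).symm
    have hnV : inV (sa j) = false := Bool.eq_false_iff.2 fun e => by
      have hmem : w * x * w⁻¹ ∈ fourGroup K B := hje ▸ el_inV B (sa_lt hj) e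
      have : x = w * x * w⁻¹ := by
        have : w * (w * x * w⁻¹) * w⁻¹ = w * x * w⁻¹ := hwV _ hmem
        simpa using this.symm
      exact hxV (this ▸ hmem)
    have hsq : inV (mulC 0 (sa j) (sa j)) = true := inV_of_mem B (mulC_lt (sa_lt hj) _) (by
      rw [← K.el_mul _ (sa_lt hj) _ (sa_lt hj), hje,
        show w * x * w⁻¹ * (w * x * w⁻¹) = w * (x * x) * w⁻¹ by group, hwV _ hxx]
      exact hxx)
    have hc := coset_ok
    rw [cosetOK, allBelow_spec] at hc
    have h := hc j hj
    rw [(inT_iff hj).2 (hje ▸ hv'), hnV, hsq] at h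
    simp only [Bool.not_true, Bool.false_or, Bool.and_eq_true, Nat.beq_eq, Bool.not_eq_true'] at h
    obtain ⟨z4, hz4, hzT⟩ : ∃ z < 4, colT (mulC 0 (sa j) (vList.getD z 0)) = true := by
      by_contra hh
      have h2 := h.2
      rw [Bool.eq_false_iff] at h2
      exact h2 (allBelow_spec.2 fun z hz => by
        rw [Bool.not_eq_true', Bool.eq_false_iff]
        exact fun e => hh ⟨z, hz, e⟩)
    refine ⟨K.el (vList.getD z4 0), el_vList B hz4, ?_⟩
    have hcol : IsConj (x * K.el (vList.getD z4 0)) t := by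
      have h1 := (colT_iff S (mulC_lt (sa_lt hj) _)).1 hzT
      rw [← K.el_mul _ (sa_lt hj) _ (vList_lt hz4), hje] at h1
      refine (isConj_iff.2 ⟨w, ?_⟩).trans h1
      rw [show w * (x * K.el (vList.getD z4 0)) * w⁻¹ = w * x * w⁻¹ * (w * K.el (vList.getD z4 0) * w⁻¹) by group,
        hwV _ (el_vList B hz4)]
    obtain ⟨k, hk⟩ := isConj_iff.1 hcol
    set u := x * K.el (vList.getD z4 0) with hu
    have hua : Commute u (a K) :=
      ((mem_cent_four B).1 hx).1.mul_left ((mem_cent_four B).1 (le_centralizer_of_sq' hVinv (el_vList B hz4))).1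
    have ha'' : Commute (k * a K * k⁻¹) t := by
      have h3 : k * a K * k⁻¹ * (k * u * k⁻¹) = k * u * k⁻¹ * (k * a K * k⁻¹) :=
        (hua.symm.map (MulAut.conj k)).eq
      rwa [hk] at h3
    have h2 := y_cent S (B.ya.conj k) ha''
    let φ := MulAut.conj k
    refine IsPGroup.of_injective h2 ((φ.toMonoidHom.comp
      (Subgroup.subtype (centralizer (fourGroup K B : Set G) ⊓ centralizer ({u} : Set G)))).codRestrict
      (centralizer ({t} : Set G) ⊓ centralizer ({k * a K * k⁻¹} : Set G)) fun y => ?_) ?_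
    · obtain ⟨hyV, hyu⟩ := y.2
      refine ⟨?_, ?_⟩
      · show k * (y : G) * k⁻¹ ∈ centralizer ({t} : Set G)
        rw [mem_centralizer_singleton_iff]
        calc k * (y : G) * k⁻¹ * t = k * (y : G) * k⁻¹ * (k * u * k⁻¹) := by rw [hk]
          _ = k * (y * u) * k⁻¹ := by group
          _ = k * (u * y) * k⁻¹ := by rw [mem_centralizer_singleton_iff.1 hyu]
          _ = k * u * k⁻¹ * (k * (y : G) * k⁻¹) := by group
          _ = _ := by rw [hk]
      · show k * (y : G) * k⁻¹ ∈ centralizer ({k * a K * k⁻¹} : Set G)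
        rw [mem_centralizer_singleton_iff,
          show k * (y : G) * k⁻¹ * (k * a K * k⁻¹) = k * (y * a K) * k⁻¹ by group,
          ((mem_cent_four B).1 hyV).1.eq]
        group
    · intro y y' e
      exact Subtype.ext (φ.injective (congrArg Subtype.val e))
  · obtain ⟨k, h1, h2, h3⟩ := transport S cf lt_cf
      ((colT_iff S lt_cf).2 B.tf) B.fa B.fb triples_hf.1 triples_hf.2
    exact ⟨k, h1, h2, by rw [B.fgt]; exact h3⟩
  · obtain ⟨k, h1, h2, h3⟩ := transport S cg lt_cg
      ((colT_iff S lt_cg).2 B.tg) B.ga B.gb triples_hg.1 triples_hg.2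
    exact ⟨k, h1, h2, by rw [B.fgt]; exact h3⟩
  · exact normalises B S lt_cg ((colT_iff S lt_cg).2 B.tg) B.ga B.gb B.gv triples_hg.1 triples_hg.2
      fixedG_le hxa hxb hxg
  · exact normalises B S lt_cf ((colT_iff S lt_cf).2 B.tf) B.fa B.fb B.fv triples_hf.1 triples_hf.2
      fixedF_le hxa hxb hxf
  · rcases (mem_four B).1 hw with rfl | rfl | rfl | rfl
    · rfl
    · exact absurd hwb B.ab
    · exact absurd hwb B.vb
    · exact absurd hwb B.vab
  · rw [B.fgt] at he
    obtain ⟨xa, xv⟩ := (mem_cent_four B).1 hx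
    -- `x` fixes `t`
    have hxt : Commute x t := by
      set w := x * t * x⁻¹ * t with hw
      have e1 : x * (t * a K) * x⁻¹ = w * t * a K := by
        rw [hw, show x * t * x⁻¹ * t * t * a K = x * t * x⁻¹ * (t * t) * a K by group, ht2,
          show x * (t * a K) * x⁻¹ = x * t * x⁻¹ * (x * a K * x⁻¹) by group, mul_inv_eq_iff_eq_mul.2 xa.eq]
        group
      have hy := B.yea.conj x
      rw [e1] at hy
      have hw1 : w = 1 := by
        rcases (mem_four B).1 he with e | e | e | e
        · exact e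
        · rw [e] at hy; exact absurd hy B.eu.1
        · rw [e] at hy; exact absurd hy B.eu.2.1
        · rw [e] at hy; exact absurd hy B.eu.2.2
      show x * t = t * x
      calc x * t = w * t * x * (x⁻¹ * (t * t)⁻¹ * x) := by rw [hw]; group
        _ = t * x := by rw [hw1, ht2]; group
    obtain ⟨j, hj, rfl⟩ := exists_sa (K := K) hxt xa
    obtain ⟨w, hw4, hwe⟩ := exists_vList B hz
    have hc := cz_ok
    rw [czOK, allBelow_spec] at hc
    have h := hc j hj
    rw [(inT_iff hj).2 xv] at h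
    have hne : allBelow 4 (fun w => !Nat.beq (mulC 0 (mulC 0 cz (sa j)) cz) (mulC 0 (vList.getD w 0) (sa j))) =
        false := by
      rw [Bool.eq_false_iff]
      intro hall
      have := allBelow_spec.1 hall w hw4
      have heq : mulC 0 (mulC 0 cz (sa j)) cz = mulC 0 (vList.getD w 0) (sa j) := by
        refine K.el_inj _ (mulC_lt (mulC_lt cz_lt _) _) _ (mulC_lt (vList_lt hw4) _) ?_
        rw [← K.el_mul _ (mulC_lt cz_lt _) _ cz_lt, ← K.el_mul _ cz_lt _ (sa_lt hj),
          ← K.el_mul _ (vList_lt hw4) _ (sa_lt hj), hwe, el_cz, inv_mul_cancel_right]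
      rw [heq] at this
      simp at this
    rw [hne] at h
    simp only [Bool.not_true, Bool.false_or, List.any_eq_true, Bool.not_eq_true'] at h
    obtain ⟨d, hd, hdw⟩ := h
    obtain ⟨w', hw', hwd⟩ : ∃ w' < 4, sa j = mulC 0 (vList.getD w' 0) d := by
      by_contra hh
      rw [Bool.eq_false_iff] at hdw
      exact hdw (allBelow_spec.2 fun z hz => by
        rw [Bool.not_eq_true', Bool.eq_false_iff]
        exact fun e => hh ⟨z, hz, Nat.eq_of_beq_eq_true e⟩)
    refine ⟨K.el d, dList_mem B d hd, ?_⟩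
    rw [hwd, ← K.el_mul _ (vList_lt hw') _ (dList_lt d hd), mul_inv_cancel_right]
    exact el_vList B hw'
where
  le_centralizer_of_sq' {V : Subgroup G} (hV : ∀ z ∈ V, z * z = 1) {x : G} (hx : x ∈ V) :
      x ∈ centralizer (V : Set G) := CfsgLib.Recog.HeldType.le_centralizer_of_sq hV hx
  triples_hf : colY (mulC 0 ca cf) = true ∧ pattern ca cb cf = true := by
    have h := triples_ok
    simp only [triplesOK, Bool.and_eq_true] at h
    exact ⟨h.2.2.2.1, h.2.1⟩
  triples_hg : colY (mulC 0 ca cg) = true ∧ pattern ca cb cg = true := by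
    have h := triples_ok
    simp only [triplesOK, Bool.and_eq_true] at h
    exact ⟨h.2.2.2.2.1, h.2.2.1⟩

end CfsgLib.Recog.Held.He
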