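import Cfsg.Agent.Lib.Recog.Held.ColourDefs

set_option autoImplicit false

/-!
The generators and the four-group inside the involution centraliser of a group of Held type, and the checks on
them (owner: helper22).
-/

namespace CfsgLib.Recog.Held.He

/-- Colour `t` in the Held pattern. -/
noncomputable def colT (x : ℕ) : Bool := Nat.blt 0 (clsOf 0 x) && bitOn 123 (clsOf 0 x - 1)

/-- An involution not of colour `t`. -/
noncomputable def colY (x : ℕ) : Bool := Nat.blt 0 (clsOf 0 x) && !bitOn 123 (clsOf 0 x - 1)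

/-- Two codes commute. -/
noncomputable def comC (x y : ℕ) : Bool := Nat.beq (mulC 0 x y) (mulC 0 y x)

/-- The generator `a`. -/
def ca : ℕ := 10
/-- The generator `b`. -/
def cb : ℕ := 2619
/-- The generator `c`. -/
def cc : ℕ := 11402
/-- The generator `f`. -/
def cf : ℕ := 6
/-- The generator `g`. -/
def cg : ℕ := 32
/-- The four-group is `{1, a, cv, cva}`. -/
def cv : ℕ := 11458
/-- The last element of the four-group. -/
def cva : ℕ := 11464

/-- The four-group. -/
def vList : List ℕ := [0, ca, cv, cva]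

/-- Membership in the four-group. -/
noncomputable def inV (x : ℕ) : Bool := vList.any (Nat.beq x)

/-- `(ab)²`. -/
noncomputable def cz : ℕ := mulC 0 (mulC 0 ca cb) (mulC 0 ca cb)

/-- The dihedral group of `f` and `g`. -/
noncomputable def dList : List ℕ :=
  [0, cf, cg, mulC 0 cf cg, mulC 0 cg cf, mulC 0 (mulC 0 cf cg) cf, mulC 0 (mulC 0 cg cf) cg, 64]

/-- The `j`th element of `C(t) ∩ C(a)`. -/
noncomputable def sa (j : ℕ) : ℕ := stabEl 0 2 j

/-- Centralises the four-group, inside `C(t) ∩ C(a)`. -/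
noncomputable def inT (x : ℕ) : Bool := comC x cv

/-- The relations inside `C(t)` and the facts on the named elements. -/
noncomputable def basicOK : Bool :=
  Nat.beq (rep 0 2) ca && (Nat.beq (hsz 0 2) 512 && (Nat.beq (mulC 0 cv ca) cva && (Nat.beq (mulC 0 ca cv) cva &&
  (colY ca && (colY cb && (colY cc && (colT cf && (colT cg && (colY cv && (colY cva && (colY (mulC 0 64 ca) &&
  (comC cf ca && (comC cg ca && (comC cc ca && (inT cf && (inT cg && (inT cc &&
  (comC cf cb && (comC cg cb && (comC cc cf && (comC cc cg && (comC cb 64 &&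
  (Nat.beq (mulC 0 (mulC 0 cf cg) (mulC 0 cf cg)) 64 &&
  (Nat.beq (mulC 0 cz cz) 0 &&
  (Nat.beq (mulC 0 (mulC 0 (mulC 0 cb cc) (mulC 0 cb cc)) (mulC 0 cb cc)) 0 &&
  (Nat.beq (mulC 0 (mulC 0 (mulC 0 (mulC 0 ca cb) cc) (mulC 0 (mulC 0 ca cb) cc)) (mulC 0 (mulC 0 ca cb) cc)) 64 &&
  (!inV cc && (!inV (mulC 0 cc 64) && (!inV 64 && (!comC cv cb && (!comC cva cb && (!comC ca cb &&
  (!comC cz cv && (Nat.beq (mulC 0 cz cv) (mulC 0 cva cz) &&
  (!colY (mulC 0 cc ca) && (!colY (mulC 0 cc cv) && (!colY (mulC 0 cc cva) &&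
  (!colY (mulC 0 (mulC 0 ca 64) ca) && (!colY (mulC 0 (mulC 0 cv 64) ca) && !colY (mulC 0 (mulC 0 cva 64) ca))))))))))))))))))))))))))))))))))))))))

/-- `C(t) ∩ C(V)` has order 256. -/
noncomputable def countTOK : Bool := Nat.beq (countBelow 512 fun j => inT (sa j)) 256

/-- No central element of `C(t) ∩ C(a)` completes a four-group like `V`. -/
noncomputable def centreOK : Bool :=
  allBelow 512 fun j => !colY (sa j) || (!colY (mulC 0 (sa j) ca) ||
    !allBelow 512 fun l => comC (sa j) (sa l))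

/-- Elements of `C(t) ∩ C(V)` squaring into `V` are involutions, and their coset has one of colour `t`. -/
noncomputable def cosetOK : Bool :=
  allBelow 512 fun j => !inT (sa j) || (inV (sa j) || (!inV (mulC 0 (sa j) (sa j)) ||
    (Nat.beq (mulC 0 (sa j) (sa j)) 0 && !allBelow 4 fun w => !colT (mulC 0 (sa j) (vList.getD w 0)))))

/-- `C(t) ∩ C(a) ∩ C(b)` is `⟨(ab)²⟩ × ⟨f, g⟩` and normalises `V`. -/
noncomputable def keOK : Bool :=
  allBelow 512 fun j => !comC (sa j) cb ||
    ((dList.any (Nat.beq (sa j)) || dList.any fun h => Nat.beq (sa j) (mulC 0 cz h)) &&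
      (!allBelow 4 fun w => !Nat.beq (mulC 0 (sa j) cv) (mulC 0 (vList.getD w 0) (sa j))))

/-- The elements of `C(t) ∩ C(V)` centralising `(ab)²` modulo `V`. -/
noncomputable def czOK : Bool :=
  allBelow 512 fun j => !inT (sa j) || (allBelow 4 (fun w =>
      !Nat.beq (mulC 0 (mulC 0 cz (sa j)) cz) (mulC 0 (vList.getD w 0) (sa j))) ||
    dList.any fun h => !allBelow 4 fun w => !Nat.beq (sa j) (mulC 0 (vList.getD w 0) h))

/-- A four-group like `V` with a centraliser of order at least 64 is `V`. -/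
noncomputable def uniqueOK : Bool :=
  allBelow 512 fun j => !colY (sa j) || (!colY (mulC 0 (sa j) ca) || (inV (sa j) ||
    Nat.blt (countBelow 512 fun l => comC (sa l) (sa j)) 64))

/-- `C(t) ∩ C(V) ∩ C(x)` has at least 64 elements. -/
noncomputable def fixedOK : Bool :=
  Nat.ble 64 (countBelow 512 fun j => inT (sa j) && comC (sa j) cf) &&
    Nat.ble 64 (countBelow 512 fun j => inT (sa j) && comC (sa j) cg)

/-- The colours of `b`, `aba`, `bab`, `(ab)²` and of their products with an involution `u`. -/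
noncomputable def pattern (A B u : ℕ) : Bool :=
  colY B && (colT (mulC 0 B u) &&
    (colY (mulC 0 (mulC 0 A B) A) &&
    (colY (mulC 0 (mulC 0 B A) B) && (colY (mulC 0 (mulC 0 (mulC 0 B A) B) u) &&
    (colY (mulC 0 (mulC 0 A B) (mulC 0 A B)) && colY (mulC 0 (mulC 0 (mulC 0 A B) (mulC 0 A B)) u))))))

/-- Pairs with the pattern of `(a, b)` over `t` are conjugate to it. -/
noncomputable def triplesOK : Bool :=
  allBelow 2816 (fun s => !pattern ca (slotX s) 64 ||
    !allBelow 512 fun j => !Nat.beq (mulC 0 (sa j) cb) (mulC 0 (slotX s) (sa j))) &&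
  (pattern ca cb cf && (pattern ca cb cg &&
    (colY (mulC 0 ca cf) && (colY (mulC 0 ca cg) &&
      allBelow (ncls 0) fun k => Nat.beq k 2 || (bitOn 123 k || !colY (mulC 0 (rep 0 k) 64))))))

/-- Uncoloured classes have two-groups as centralisers, of order at most 512. -/
noncomputable def ySizesOK : Bool :=
  allBelow (ncls 0) fun k => bitOn 123 k || (Nat.beq (hsz 0 k) 512 || Nat.beq (hsz 0 k) 256)

end CfsgLib.Recog.Held.He
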