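import Cfsg.Agent.Lib.Recog.Held.HeBase
import Cfsg.Agent.Lib.Recog.HeldType.DElement

set_option autoImplicit false
set_option maxRecDepth 4000

/-!
The four-group `V` of a group with the Held fusion pattern satisfies `HeldType.FourData` (owner: helper22).

Everything is read in `C(t)`: a Sylow two-subgroup of `C(V)` lies in `C(t)`, and an involution fused to `t` by an
element fixing `a` and `b` fixes `V` as well.
-/

namespace CfsgLib.Recog.Held.He

open Subgroup

variable {G : Type*} [Group G] {t : G} {K : Coord t 0}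

theorem four_rules {x y : G} (hx : x * x = 1) (hy : y * y = 1) (h : x * y = y * x) :
    ∀ p ∈ ({1, x, y, y * x} : Set G), ∀ q ∈ ({1, x, y, y * x} : Set G), p * q ∈ ({1, x, y, y * x} : Set G) := by
  have e1 : x * (y * x) = y := by rw [← mul_assoc, h, mul_assoc, hx, mul_one]
  have e2 : y * x * x = y := by rw [mul_assoc, hx, mul_one]
  have e3 : y * (y * x) = x := by rw [← mul_assoc, hy, one_mul]
  have e4 : y * x * y = x := by rw [mul_assoc, h, e3]
  have e5 : y * x * (y * x) = 1 := by rw [← mul_assoc, e4, hx]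
  intro p hp q hq
  simp only [Set.mem_insert_iff, Set.mem_singleton_iff] at hp hq ⊢
  rcases hp with rfl | rfl | rfl | rfl <;> rcases hq with rfl | rfl | rfl | rfl <;>
    simp [hx, hy, h, e1, e2, e3, e4, e5]

/-- The four-group `{1, a, v, va}`. -/
def fourGroup (K : Coord t 0) (B : Basic K) : Subgroup G where
  carrier := {1, a K, v K, v K * a K}
  one_mem' := by simp
  mul_mem' {x y} hx hy := four_rules B.ya.2.1 B.yv.2.1 (B.av.trans B.va.symm) x hx y hy
  inv_mem' {x} hx := by
    simp only [Set.mem_insert_iff, Set.mem_singleton_iff] at hx ⊢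
    rcases hx with rfl | rfl | rfl | rfl
    · simp
    · exact Or.inr (Or.inl (inv_eq_of_mul_eq_one_right B.ya.2.1))
    · exact Or.inr (Or.inr (Or.inl (inv_eq_of_mul_eq_one_right B.yv.2.1)))
    · exact Or.inr (Or.inr (Or.inr (inv_eq_of_mul_eq_one_right B.yva.2.1)))

variable (B : Basic K)

theorem mem_four {x : G} : x ∈ fourGroup K B ↔ x = 1 ∨ x = a K ∨ x = v K ∨ x = v K * a K := by
  show x ∈ ({1, a K, v K, v K * a K} : Set G) ↔ _
  simp [Set.mem_insert_iff]

theorem a_mem : a K ∈ fourGroup K B := (mem_four B).2 (Or.inr (Or.inl rfl))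

theorem v_mem : v K ∈ fourGroup K B := (mem_four B).2 (Or.inr (Or.inr (Or.inl rfl)))

theorem mem_cent_four {x : G} :
    x ∈ centralizer (fourGroup K B : Set G) ↔ Commute x (a K) ∧ Commute x (v K) := by
  refine ⟨fun h => ⟨(mem_centralizer_iff.1 h _ (a_mem B)).symm, (mem_centralizer_iff.1 h _ (v_mem B)).symm⟩,
    fun ⟨ha, hv⟩ => mem_centralizer_iff.2 fun w hw => ?_⟩
  rcases (mem_four B).1 hw with rfl | rfl | rfl | rfl
  · simp
  · exact ha.eq.symm
  · exact hv.eq.symm
  · exact (hv.mul_right ha).eq.symm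

theorem el_vList {w : ℕ} (hw : w < 4) : K.el (vList.getD w 0) ∈ fourGroup K B := by
  interval_cases w
  · show K.el 0 ∈ _
    rw [K.el_zero (by norm_num)]; exact one_mem _
  · exact a_mem B
  · exact v_mem B
  · show K.el cva ∈ _
    rw [← B.va]; exact (mem_four B).2 (Or.inr (Or.inr (Or.inr rfl)))

theorem exists_vList {x : G} (hx : x ∈ fourGroup K B) : ∃ w < 4, K.el (vList.getD w 0) = x := by
  rcases (mem_four B).1 hx with rfl | rfl | rfl | rfl
  · exact ⟨0, by norm_num, K.el_zero (by norm_num)⟩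
  · exact ⟨1, by norm_num, rfl⟩
  · exact ⟨2, by norm_num, rfl⟩
  · exact ⟨3, by norm_num, B.va.symm⟩

theorem vList_lt {w : ℕ} (hw : w < 4) : vList.getD w 0 < 21504 := by
  interval_cases w <;> exact Nat.le_of_ble_eq_true rfl

theorem el_inV {j : ℕ} (hj : j < 21504) (h : inV j = true) : K.el j ∈ fourGroup K B := by
  simp only [inV, vList, List.any_cons, List.any_nil, Bool.or_false, Bool.or_eq_true, Nat.beq_eq] at h
  rcases h with rfl | rfl | rfl | rfl
  · rw [K.el_zero (by norm_num)]; exact one_mem _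
  · exact a_mem B
  · exact v_mem B
  · rw [← B.va]; exact (mem_four B).2 (Or.inr (Or.inr (Or.inr rfl)))

theorem inV_of_mem {j : ℕ} (hj : j < 21504) (h : K.el j ∈ fourGroup K B) : inV j = true := by
  obtain ⟨w, hw, e⟩ := exists_vList B h
  rw [K.el_inj _ hj _ (vList_lt hw) e.symm]
  interval_cases w <;> rfl

theorem inT_iff {j : ℕ} (hj : j < 512) : inT (sa j) = true ↔ Commute (K.el (sa j)) (v K) :=
  comC_iff (sa_lt hj) lt_cv

/-- `C(t) ∩ C(V)`. -/
def sylT : Subgroup G := centralizer {t} ⊓ centralizer (fourGroup K B : Set G)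

theorem mem_sylT {x : G} : x ∈ sylT B ↔ Commute x t ∧ Commute x (a K) ∧ Commute x (v K) := by
  rw [sylT, Subgroup.mem_inf, mem_cent_four, mem_centralizer_singleton_iff]
  exact Iff.rfl

theorem card_sylT [Finite G] : Nat.card (sylT B) = 256 := by
  have h := countT_eq
  rw [← h, ← card_sa (K := K) (fun x => Commute x (v K)) (fun j => inT (sa j)) fun j hj => inT_iff hj]
  exact Nat.card_congr (Equiv.subtypeEquivRight fun x => by rw [mem_sylT, and_assoc])

variable [Finite G] (S : Setting K)
include S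

/-- A two-group centralising `V` has order at most 256. -/
theorem card_le_256 {R : Subgroup G} (hR : IsPGroup 2 R) (hRV : R ≤ centralizer (fourGroup K B : Set G)) :
    Nat.card R ≤ 256 := by
  have : Fact (Nat.Prime 2) := ⟨Nat.prime_two⟩
  by_contra hlt
  set W := centralizer ({a K} : Set G) with hW
  have hRW : R ≤ W := fun x hx => mem_centralizer_singleton_iff.2 ((mem_cent_four B).1 (hRV hx)).1.eq
  have hle : Nat.card R ≤ 512 := card_le_512 S B.ya hR hRW
  have hR512 : Nat.card R = 512 := by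
    obtain ⟨e, he⟩ := IsPGroup.iff_card.1 hR
    rw [he] at hlt hle ⊢
    have h1 : e ≤ 9 := by
      by_contra hh
      exact absurd hle (not_le.2 (lt_of_lt_of_le (by norm_num : 512 < 2 ^ 10) (Nat.pow_le_pow_right two_pos (by omega))))
    have h2 : 9 ≤ e := by
      by_contra hh
      exact hlt (le_trans (Nat.pow_le_pow_right two_pos (by omega : e ≤ 8)) (by norm_num))
    rw [le_antisymm h1 h2]; norm_num
  set P : Subgroup G := centralizer {t} ⊓ W with hP
  have hmemP : ∀ {x : G}, x ∈ P ↔ Commute x t ∧ Commute x (a K) := fun {x} => by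
    rw [hP, hW, Subgroup.mem_inf, mem_centralizer_singleton_iff, mem_centralizer_singleton_iff]; exact Iff.rfl
  have hPc : Nat.card P = 512 := by
    have h := card_sa (K := K) (fun _ => True) (fun _ => true) fun j _ => iff_of_true rfl trivial
    rw [countBelow_eq, Finset.filter_true_of_mem (fun _ _ => rfl), Finset.card_range] at h
    rw [← h]
    exact Nat.card_congr (Equiv.subtypeEquivRight fun x => by rw [hmemP]; exact ⟨fun e => ⟨e, trivial⟩, And.left⟩)
  have syl : ∀ A : Subgroup G, A ≤ W → Nat.card A = 512 → ∃ Q : Sylow 2 W, (Q : Subgroup W) = A.subgroupOf W := by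
    intro A hA hAc
    have hc : Nat.card (A.subgroupOf W) = 512 := (Nat.card_congr (subgroupOfEquivOfLe hA).toEquiv).trans hAc
    obtain ⟨Q, hQ⟩ := (IsPGroup.of_card (p := 2) (n := 9) (hc.trans (by norm_num))).exists_le_sylow
    refine ⟨Q, (eq_of_le_of_card_ge hQ ?_).symm⟩
    rw [hc, Nat.card_congr ((Q : Subgroup W).equivMapOfInjective _ W.subtype_injective).toEquiv]
    exact card_le_512 S B.ya (Q.2.map W.subtype) (map_subtype_le _)
  obtain ⟨Q1, hQ1⟩ := syl R hRW hR512
  obtain ⟨Q2, hQ2⟩ := syl P inf_le_right hPc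
  obtain ⟨w, hw⟩ := MulAction.exists_smul_eq W Q2 Q1
  -- everything in `P` commutes with `v' = w⁻¹ v w`
  set v' := (w : G)⁻¹ * v K * w with hv'
  have hwa : Commute (w : G) (a K) := mem_centralizer_singleton_iff.1 w.2
  have hva : v' * a K = (w : G)⁻¹ * (v K * a K) * w := by
    rw [hv', mul_assoc, hwa.eq]; group
  have hcen : ∀ p ∈ P, Commute p v' := by
    intro p hp
    have h1 : (⟨p, hp.2⟩ : W) ∈ (Q2 : Subgroup W) := by rw [hQ2, mem_subgroupOf]; exact hp
    have h2 : w * ⟨p, hp.2⟩ * w⁻¹ ∈ (Q1 : Subgroup W) := by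
      rw [← hw]; exact smul_mem_pointwise_smul _ (MulAut.conj w) _ h1
    rw [hQ1, mem_subgroupOf] at h2
    have h3 : Commute ((w : G) * p * (w : G)⁻¹) (v K) := ((mem_cent_four B).1 (hRV h2)).2
    have h4 := congrArg (fun x => (w : G)⁻¹ * x * w) h3.eq
    show p * v' = v' * p
    calc p * v' = (w : G)⁻¹ * ((w : G) * p * (w : G)⁻¹ * v K) * w := by rw [hv']; group
      _ = (w : G)⁻¹ * (v K * ((w : G) * p * (w : G)⁻¹)) * w := h4
      _ = _ := by rw [hv']; group
  have htP : t ∈ P := hmemP.2 ⟨Commute.refl t, Commute.symm (K.mem _ lt_ca)⟩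
  have hv'a : Commute v' (a K) := by
    have h1 : Commute (v K) (a K) := B.va.trans B.av.symm
    exact ((hwa.inv_left.mul_left h1).mul_left hwa)
  obtain ⟨j, hj, hje⟩ := exists_sa (K := K) (hcen t htP).symm hv'a
  have yv' : IsY t v' := by
    have := B.yv.conj (w : G)⁻¹
    rwa [inv_inv] at this
  have yv'a : IsY t (v' * a K) := by
    have := B.yva.conj (w : G)⁻¹
    rwa [inv_inv, ← hva] at this
  have hc := centre_ok
  rw [centreOK, allBelow_spec] at hc
  have := hc j hj
  have h1 : colY (sa j) = true := (colY_iff S (sa_lt hj)).2 (hje.symm ▸ yv')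
  have h2 : colY (mulC 0 (sa j) ca) = true := (colY_iff S (mulC_lt (sa_lt hj) _)).2 (by
    rw [← K.el_mul _ (sa_lt hj) _ lt_ca, hje]; exact yv'a)
  have h3 : allBelow 512 (fun l => comC (sa j) (sa l)) = true := allBelow_spec.2 fun l hl =>
    (comC_iff (sa_lt hj) (sa_lt hl)).2 (by rw [hje]; exact (hcen _ (hmemP.2 (sa_mem hl))).symm)
  rw [h1, h2, h3] at this
  simp at this

/-- An element of `C(V)` squaring into `V` is moved into `C(t)` inside `C(V)`. -/
theorem conj_into_sylT {x : G} (hx : x ∈ centralizer (fourGroup K B : Set G)) (hxx : x * x ∈ fourGroup K B) :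
    ∃ w : G, w ∈ centralizer (fourGroup K B : Set G) ∧ w * x * w⁻¹ ∈ sylT B := by
  have : Fact (Nat.Prime 2) := ⟨Nat.prime_two⟩
  set W := centralizer (fourGroup K B : Set G) with hW
  have hsq : ∀ z ∈ fourGroup K B, z * z = 1 := fun z hz => by
    rcases (mem_four B).1 hz with rfl | rfl | rfl | rfl
    · simp
    · exact B.ya.2.1
    · exact B.yv.2.1
    · exact B.yva.2.1
  have hp : IsPGroup 2 (zpowers (⟨x, hx⟩ : W)) := by
    have h4 : (⟨x, hx⟩ : W) ^ (2 ^ 2) = 1 := Subtype.ext (by
      show x ^ 4 = 1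
      rw [show x ^ 4 = x * x * (x * x) by simp only [pow_succ, pow_zero, one_mul, mul_assoc], hsq _ hxx])
    intro y
    obtain ⟨m, hm⟩ := mem_zpowers_iff.1 y.2
    refine ⟨2, Subtype.ext ?_⟩
    rw [Subgroup.coe_pow, Subgroup.coe_one, ← hm, ← zpow_natCast, ← zpow_mul, mul_comm, zpow_mul, zpow_natCast,
      h4, one_zpow]
  obtain ⟨Q, hQ⟩ := hp.exists_le_sylow
  have hTW : sylT B ≤ W := inf_le_right
  have hc : Nat.card ((sylT B).subgroupOf W) = 256 :=
    (Nat.card_congr (subgroupOfEquivOfLe hTW).toEquiv).trans (card_sylT B)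
  obtain ⟨Q2, hQ2⟩ := (IsPGroup.of_card (p := 2) (n := 8) (hc.trans (by norm_num))).exists_le_sylow
  have hQ2' : (sylT B).subgroupOf W = (Q2 : Subgroup W) := eq_of_le_of_card_ge hQ2 (by
    rw [hc, Nat.card_congr ((Q2 : Subgroup W).equivMapOfInjective _ W.subtype_injective).toEquiv]
    exact card_le_256 B S (Q2.2.map W.subtype) (map_subtype_le _))
  obtain ⟨w, hw⟩ := MulAction.exists_smul_eq W Q Q2
  refine ⟨w, w.2, ?_⟩
  have h2 : w * ⟨x, hx⟩ * w⁻¹ ∈ (Q2 : Subgroup W) := by
    rw [← hw]; exact smul_mem_pointwise_smul _ (MulAut.conj w) _ (hQ (mem_zpowers _))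
  rw [← hQ2', mem_subgroupOf] at h2
  exact h2

/-- An element commuting with `a`, `b` and an involution moved to `t` normalises `V`. -/
theorem normalises {u : ℕ} (hu : u < 21504) (hut : colT u = true) (hua : Commute (K.el u) (a K))
    (hub : Commute (K.el u) (b K)) (huv : Commute (K.el u) (v K)) (hau : colY (mulC 0 ca u) = true)
    (hpat : pattern ca cb u = true)
    (hfix : 64 ≤ countBelow 512 fun j => inT (sa j) && comC (sa j) u)
    {x : G} (hxa : Commute x (a K)) (hxb : Commute x (b K)) (hxu : Commute x (K.el u)) :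
    x ∈ normalizer (fourGroup K B : Set G) := by
  obtain ⟨k, hka, hkb, hk⟩ := transport S u hu hut hua hub hau hpat
  have hk' : k⁻¹ * K.el u * k = t := by
    rw [show k⁻¹ * K.el u * k = k⁻¹ * (K.el u) * k from rfl]
    calc k⁻¹ * K.el u * k = k⁻¹ * (k * t * k⁻¹) * k := by rw [hk]
      _ = t := by group
  have moveA : ∀ {y : G}, Commute y (a K) → Commute (k⁻¹ * y * k) (a K) := fun {y} hy =>
    ((hka.inv_left.mul_left hy).mul_left hka)
  have moveT : ∀ {y : G}, Commute y (K.el u) → Commute (k⁻¹ * y * k) t := fun {y} hy => by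
    show k⁻¹ * y * k * t = t * (k⁻¹ * y * k)
    calc k⁻¹ * y * k * t = k⁻¹ * (y * (k * t * k⁻¹)) * k := by group
      _ = k⁻¹ * (y * K.el u) * k := by rw [hk]
      _ = k⁻¹ * (K.el u * y) * k := by rw [hy.eq]
      _ = k⁻¹ * ((k * t * k⁻¹) * y) * k := by rw [hk]
      _ = _ := by group
  -- the image of `V` is `V`
  have himg : ∀ z : G, z ∈ fourGroup K B → k⁻¹ * z * k ∈ fourGroup K B := by
    have key : ∀ z : G, IsY t z → IsY t (z * a K) → Commute z (a K) → Commute z (K.el u) →
        (∀ y, y ∈ sylT B → Commute y (K.el u) → Commute y z) → k⁻¹ * z * k ∈ fourGroup K B := by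
      intro z hz hza hzca hzu hfixz
      obtain ⟨j, hj, hje⟩ := exists_sa (K := K) (moveT hzu) (moveA hzca)
      have hun := unique_ok
      rw [uniqueOK, allBelow_spec] at hun
      have h := hun j hj
      have h1 : colY (sa j) = true := (colY_iff S (sa_lt hj)).2 (by
        rw [hje]; simpa using hz.conj k⁻¹)
      have h2 : colY (mulC 0 (sa j) ca) = true := (colY_iff S (mulC_lt (sa_lt hj) _)).2 (by
        rw [← K.el_mul _ (sa_lt hj) _ lt_ca, hje, show K.el ca = a K from rfl]
        have h3 := hza.conj k⁻¹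
        rw [inv_inv] at h3
        rwa [show k⁻¹ * (z * a K) * k = k⁻¹ * z * k * a K by
          calc k⁻¹ * (z * a K) * k = k⁻¹ * z * (a K * k) := by group
            _ = k⁻¹ * z * (k * a K) := by rw [hka.eq]
            _ = _ := by group] at h3)
      have h3 : Nat.blt (countBelow 512 fun l => comC (sa l) (sa j)) 64 = false := by
        rw [Bool.eq_false_iff]
        intro hb
        rw [Nat.blt_eq] at hb
        rw [← card_sa (K := K) (fun y => Commute y (k⁻¹ * z * k)) (fun l => comC (sa l) (sa j)) fun l hl => by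
          rw [comC_iff (K := K) (sa_lt hl) (sa_lt hj), hje]] at hb
        have hA : Nat.card {y : G // (Commute y t ∧ Commute y (a K)) ∧ (Commute y (v K) ∧ Commute y (K.el u))} =
            countBelow 512 fun j => inT (sa j) && comC (sa j) u :=
          card_sa _ _ fun l hl => by rw [Bool.and_eq_true, inT_iff (K := K) hl, comC_iff (K := K) (sa_lt hl) hu]
        have hle : Nat.card {y : G // (Commute y t ∧ Commute y (a K)) ∧ (Commute y (v K) ∧ Commute y (K.el u))} ≤
            Nat.card {y : G // (Commute y t ∧ Commute y (a K)) ∧ Commute y (k⁻¹ * z * k)} := by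
          refine Nat.card_le_card_of_injective (fun y => ⟨k⁻¹ * y.1 * k, ⟨moveT y.2.2.2, moveA y.2.1.2⟩, ?_⟩)
            fun y y' e => Subtype.ext ?_
          · have hy : Commute y.1 z := hfixz _ ((mem_sylT B).2 ⟨y.2.1.1, y.2.1.2, y.2.2.1⟩) y.2.2.2
            show k⁻¹ * y.1 * k * (k⁻¹ * z * k) = k⁻¹ * z * k * (k⁻¹ * y.1 * k)
            rw [show k⁻¹ * y.1 * k * (k⁻¹ * z * k) = k⁻¹ * (y.1 * z) * k by group, hy.eq]
            group
          · have := congrArg Subtype.val e
            simpa using this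
        omega
      rw [h1, h2, h3] at h
      simp at h
      rw [← hje]
      exact el_inV B (sa_lt hj) h
    intro z hz
    rcases (mem_four B).1 hz with rfl | rfl | rfl | rfl
    · simp
    · rw [show k⁻¹ * a K * k = a K by rw [mul_assoc, ← hka.eq]; group]; exact a_mem B
    · exact key _ B.yv B.yva (Commute.symm (B.av.trans B.va.symm)) huv.symm
        fun y hy _ => ((mem_sylT B).1 hy).2.2
    · exact key _ B.yva (by rw [mul_assoc, B.ya.2.1, mul_one]; exact B.yv)
        ((Commute.symm (B.av.trans B.va.symm)).mul_left (Commute.refl _)) (huv.mul_right hua).symm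
        fun y hy _ => ((mem_sylT B).1 hy).2.2.mul_right ((mem_sylT B).1 hy).2.1
  have hkN : k⁻¹ ∈ normalizer (fourGroup K B : Set G) := by
    refine mem_normalizer_iff_map_conj_eq.2 (eq_of_le_of_card_ge ?_ ?_)
    · rintro _ ⟨z, hz, rfl⟩
      simpa using himg z hz
    · exact (Nat.card_congr ((fourGroup K B).equivMapOfInjective _
        (MulAut.conj k⁻¹).injective).toEquiv).le
  -- the conjugate of `x` lies in `C(t)`
  obtain ⟨j, hj, hje⟩ := exists_sa (K := K) (moveT hxu) (moveA hxa)
  have hx'b : Commute (K.el (sa j)) (b K) := hje ▸ ((hkb.inv_left.mul_left hxb).mul_left hkb)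
  have hke := ke_ok
  rw [keOK, allBelow_spec] at hke
  have h := hke j hj
  rw [(comC_iff (sa_lt hj) lt_cb).2 hx'b] at h
  simp only [Bool.not_true, Bool.false_or, Bool.and_eq_true, Bool.not_eq_true'] at h
  obtain ⟨-, hw⟩ := h
  obtain ⟨w, hw4, hwe⟩ : ∃ w < 4, mulC 0 (sa j) cv = mulC 0 (vList.getD w 0) (sa j) := by
    by_contra hh
    rw [Bool.eq_false_iff] at hw
    exact hw (allBelow_spec.2 fun w hw => by
      rw [Bool.not_eq_true', Bool.eq_false_iff]
      exact fun e => hh ⟨w, hw, Nat.eq_of_beq_eq_true e⟩)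
  have hsN : K.el (sa j) ∈ normalizer (fourGroup K B : Set G) := by
    refine mem_normalizer_iff_map_conj_eq.2 (eq_of_le_of_card_ge ?_ ?_)
    · rintro _ ⟨z, hz, rfl⟩
      show K.el (sa j) * z * (K.el (sa j))⁻¹ ∈ fourGroup K B
      have hav : K.el (sa j) * v K * (K.el (sa j))⁻¹ ∈ fourGroup K B := by
        rw [show v K = K.el cv from rfl, K.el_mul _ (sa_lt hj) _ lt_cv, hwe,
          ← K.el_mul _ (vList_lt hw4) _ (sa_lt hj), mul_inv_cancel_right]
        exact el_vList B hw4
      have haa : K.el (sa j) * a K * (K.el (sa j))⁻¹ = a K := mul_inv_eq_iff_eq_mul.2 (sa_mem hj).2.eq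
      rcases (mem_four B).1 hz with rfl | rfl | rfl | rfl
      · simp
      · rw [haa]; exact a_mem B
      · exact hav
      · rw [show K.el (sa j) * (v K * a K) * (K.el (sa j))⁻¹ =
          K.el (sa j) * v K * (K.el (sa j))⁻¹ * (K.el (sa j) * a K * (K.el (sa j))⁻¹) by group, haa]
        exact mul_mem hav (a_mem B)
    · exact (Nat.card_congr ((fourGroup K B).equivMapOfInjective _
        (MulAut.conj (K.el (sa j))).injective).toEquiv).le
  have : k * (k⁻¹ * x * k) * k⁻¹ = x := by group
  rw [← this, ← hje]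
  exact mul_mem (mul_mem (inv_inv k ▸ inv_mem hkN) hsN) hkN

end CfsgLib.Recog.Held.He
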