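import Cfsg.Agent.Lib.Recog.Held.HeData
import Cfsg.Agent.Lib.Recog.SporHe.Simple

set_option autoImplicit false
set_option maxRecDepth 4000

/-!
A group with the Held fusion pattern and the order of the Held group is the presented Held group (owner: helper22).
-/

namespace CfsgLib.Recog.Held.He

open Cfsg

variable {G : Type*} [Group G]

theorem pow_swap {x y : G} (hx : x * x = 1) (hy : y * y = 1) {m : ℕ} (h : (x * y) ^ m = 1) : (y * x) ^ m = 1 := by
  rw [show y * x = (x * y)⁻¹ by
    rw [_root_.mul_inv_rev, inv_eq_of_mul_eq_one_right hx, inv_eq_of_mul_eq_one_right hy], inv_pow, h, inv_one]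

theorem pow_two_of_commute {x y : G} (hx : x * x = 1) (hy : y * y = 1) (h : Commute x y) : (x * y) ^ 2 = 1 := by
  rw [h.mul_pow, pow_two, pow_two, hx, hy, one_mul]

/-- The images of the generators. -/
def image (A B C D E F H : G) : Spor.He.Gen → G
  | .a => A
  | .b => B
  | .c => C
  | .d => D
  | .e => E
  | .f => F
  | .g => H

/-- A hom from the seven images. -/
theorem exists_hom_of_relations {A B C D E F H : G} (sA : A * A = 1) (sB : B * B = 1) (sC : C * C = 1)
    (sD : D * D = 1) (sE : E * E = 1) (sF : F * F = 1) (sH : H * H = 1)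
    (ac : Commute A C) (ad : Commute A D) (ae : Commute A E) (af : Commute A F) (ag : Commute A H)
    (bd : Commute B D) (be : Commute B E) (bf : Commute B F) (bg : Commute B H)
    (ce : Commute C E) (cf : Commute C F) (cg : Commute C H) (ef : Commute E F) (eg : Commute E H)
    (ab : (A * B) ^ 4 = 1) (bc : (B * C) ^ 3 = 1) (cd : (C * D) ^ 10 = 1) (de : (D * E) ^ 3 = 1)
    (df : (D * F) ^ 3 = 1) (fg : (F * H) ^ 4 = 1) (dg : (D * H) ^ 3 = 1)
    (r1 : E = (F * H) ^ 2) (r2 : E = (A * B * C) ^ 3) (r3 : A = (C * D) ^ 5) (r4 : (C * D * F * H) ^ 4 = 1) :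
    ∃ φ : Spor.He →* G, ∀ x, φ (PresentedGroup.of x) = image A B C D E F H x := by
  let im := image A B C D E F H
  have hrel : ∀ r ∈ Spor.coxRelators Spor.He.edges ∪ {r | r ∈ Spor.He.extra}, FreeGroup.lift im r = 1 := by
    rintro r (⟨x, -, y, -, rfl⟩ | hr)
    · rw [map_pow, map_mul, FreeGroup.lift_apply_of, FreeGroup.lift_apply_of]
      rcases x <;> rcases y <;>
        simp only [im, image, Spor.coxLabel, Spor.He.edges, List.find?, reduceCtorEq, and_self, and_false, false_and,
          or_self, or_false, false_or, decide_true, decide_false, if_true, if_false, ↓reduceIte] <;>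
        first
          | (rw [pow_one]; assumption)
          | assumption
          | (exact pow_swap (by assumption) (by assumption) (by assumption))
          | (exact pow_two_of_commute (by assumption) (by assumption) (by assumption))
          | (exact pow_two_of_commute (by assumption) (by assumption) (Commute.symm (by assumption)))
    · simp only [Spor.He.extra, Set.mem_setOf_eq, List.mem_cons, List.not_mem_nil, or_false] at hr
      rcases hr with rfl | rfl | rfl | rfl <;>
        simp only [Spor.He.a, Spor.He.b, Spor.He.c, Spor.He.d, Spor.He.e, Spor.He.f, Spor.He.g, map_mul, map_inv,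
          map_pow, FreeGroup.lift_apply_of, im, image]
      · rw [← r1, mul_inv_cancel]
      · rw [← r2, mul_inv_cancel]
      · rw [← r3, mul_inv_cancel]
      · exact r4
  exact ⟨PresentedGroup.toGroup hrel, fun _ => PresentedGroup.toGroup.of hrel⟩

variable [Finite G] {t : G} {K : Coord t 0}

/-- A homomorphism of the presented Held group sending `a` to a nontrivial element. -/
theorem exists_hom (S : Setting K) :
    ∃ φ : Spor.He →* G, φ (PresentedGroup.of Spor.He.Gen.a) ≠ 1 := by
  have B := basic K S
  have D4 := fourData S B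
  have ht2 : t * t = 1 := K.t_sq (by norm_num)
  obtain ⟨d, da, db, hrel, h5, h4⟩ := D4.relators (fun z hz hP => by
    rcases (mem_four B).1 hz with rfl | rfl | rfl | rfl
    · rfl
    · exact absurd hP B.cu.1
    · exact absurd hP B.cu.2.1
    · exact absurd hP B.cu.2.2)
  rw [B.fgt] at hrel
  have hta : Commute (a K) t := K.mem _ lt_ca
  have htc : Commute (c K) t := K.mem _ lt_cc
  have htf : Commute (f K) t := K.mem _ lt_cf
  have htg : Commute (g K) t := K.mem _ lt_cg
  obtain ⟨φ, hφ⟩ := exists_hom_of_relations (A := a K) (B := b K) (C := c K) (D := d) (E := t) (F := f K) (H := g K)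
    B.ya.2.1 B.yb.2.1 B.yc.2.1 hrel.hd ht2 hrel.hf hrel.hg B.ca'.symm da.symm hta B.fa.symm B.ga.symm
    db.symm B.bt B.fb.symm B.gb.symm htc B.cf' B.cg' htf.symm htg.symm
    (by
      rw [show (a K * b K) ^ 4 = a K * b K * (a K * b K) * (a K * b K * (a K * b K)) by
        simp only [pow_succ, pow_zero, one_mul, mul_assoc]]
      exact B.z_sq)
    (by
      rw [show (b K * c K) ^ 3 = b K * c K * (b K * c K) * (b K * c K) by
        simp only [pow_succ, pow_zero, one_mul, mul_assoc]]
      exact B.bc)
    (by rw [show (10 : ℕ) = 5 + 5 from rfl, pow_add, h5, B.ya.2.1])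
    hrel.hde hrel.hdf
    (by
      rw [show (4 : ℕ) = 2 + 2 from rfl, pow_add, pow_two, B.fgt, ht2])
    hrel.hdg
    (by rw [pow_two, B.fgt])
    (by
      rw [show (a K * b K * c K) ^ 3 = a K * b K * c K * (a K * b K * c K) * (a K * b K * c K) by
        simp only [pow_succ, pow_zero, one_mul, mul_assoc], B.abc])
    h5.symm h4
  exact ⟨φ, by rw [hφ]; exact B.ya.1⟩

/-- Same order: isomorphism. -/
theorem isoHe (S : Setting K) (hG : Nat.card G = 4030387200) : Spor.IsoHe G := by
  obtain ⟨φ, hφ⟩ := exists_hom S
  have hinj : Function.Injective φ := by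
    have := CfsgLib.Recog.SporHe.isSimple
    rw [← MonoidHom.ker_eq_bot_iff]
    refine (IsSimpleGroup.eq_bot_or_eq_top_of_normal φ.ker inferInstance).resolve_right fun h => hφ ?_
    exact MonoidHom.mem_ker.1 (h ▸ Subgroup.mem_top _)
  refine ⟨(MulEquiv.ofBijective φ ((Nat.bijective_iff_injective_and_card _).2 ⟨hinj, ?_⟩)).symm⟩
  rw [hG, CfsgLib.Recog.SporHe.card_eq]

end CfsgLib.Recog.Held.He
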