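import Cfsg.Agent.Lib.Recog.Held.ColourDefs

set_option autoImplicit false
set_option maxRecDepth 100000

/-!
Data for the exclusion of the fusion pattern of `M24` (owner: helper22): a quaternion group of order 16 in
candidate 0 and the numbers of coloured elements.
-/

namespace CfsgLib.Recog.Held.Kill

/-- The colour of a code under a mask. -/
noncomputable def colM (m x : ℕ) : Bool := Nat.blt 0 (clsOf 0 x) && bitOn m (clsOf 0 x - 1)

/-- A quaternion group of order 16 with involution `64`. -/
def qList : List ℕ :=
  [0, 64, 1673, 1737, 2597, 2661, 2739, 2803, 3758, 3822, 9404, 9468, 11671, 11735, 12698, 12762]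

/-- The list is closed and every element but `0` has a power `64`. -/
noncomputable def qOK : Bool :=
  qList.all fun a => Nat.blt a 21504 &&
    ((Nat.beq a 0 || Nat.beq a 64 || Nat.beq (mulC 0 a a) 64 ||
      Nat.beq (mulC 0 (mulC 0 a a) (mulC 0 a a)) 64) &&
      qList.all fun b => qList.any (Nat.beq (mulC 0 a b)))

theorem q_ok : qOK = true := by decide +kernel

theorem count_59 : countBelow 21504 (colM 59) = 281 := by decide +kernel

theorem count_91 : countBelow 21504 (colM 91) = 281 := by decide +kernel

end CfsgLib.Recog.Held.Kill
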