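import Cfsg.Agent.Lib.LocalEvenB.CentralizerDEight
import Cfsg.Agent.Lib.Recog.JankoTwoType.SmallFacts
import Cfsg.Agent.Lib.Perm.AltDerange.Cases

set_option autoImplicit false

/-!
Two facts on involutions with small centralisers, for the exclusion of the `L5(2)` pattern (owner: helper22).
-/

namespace CfsgLib.Recog.Held.Kill

open Subgroup Cfsg

theorem perm_four_sq : ∀ a b : Equiv.Perm (Fin 4), Equiv.Perm.sign a = 1 → Equiv.Perm.sign b = 1 →
    a * a = 1 → b * b = 1 → (a * b) * (a * b) = 1 := by decide +kernel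

/-- An involution with centraliser of type `D8`, the square of a product of two commuting conjugates. -/
theorem card_of_fused {X : Type*} [Group X] [Finite X] (z a b : X) (hz : orderOf z = 2)
    (hC : Nonempty (↥(centralizer ({z} : Set X)) ≃* DihedralGroup 4)) (ha : IsConj z a) (hb : IsConj z b)
    (haz : a * z = z * a) (hbz : b * z = z * b) (hab : a * b * (a * b) = z) :
    Nat.card X = 120 ∨ Nat.card X = 168 ∨ Nat.card X = 360 := by
  obtain ⟨hz2, hz1⟩ := orderOf_eq_prime_iff.1 hz
  rw [pow_two] at hz2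
  have sq : ∀ {u : X}, IsConj z u → u * u = 1 := by
    intro u hu
    obtain ⟨g, rfl⟩ := isConj_iff.1 hu
    rw [show g * z * g⁻¹ * (g * z * g⁻¹) = g * (z * z) * g⁻¹ by group, hz2]
    group
  rcases CfsgLib.LocalEvenB.DEight.main z hz hC with h | ⟨⟨e⟩⟩ | ⟨⟨e⟩⟩ | ⟨⟨e⟩⟩ | ⟨⟨e⟩⟩
  · exfalso
    have hn : (oddCore X).Normal := CfsgLib.Core.normal_pPrimeCore 2 X
    have key : ∀ {u : X}, IsConj z u → u * z = z * u → u = z := by
      intro u hu huz
      obtain ⟨g, hg⟩ := isConj_iff.1 hu
      obtain ⟨c, hc, o, ho, hco⟩ := mem_sup_of_normal_right.1 (h.symm ▸ mem_top g)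
      have hcz := mem_centralizer_singleton_iff.1 hc
      have hmem : u * z ∈ oddCore X := by
        have h1 : c * (o * (z * o⁻¹ * z⁻¹)) * c⁻¹ ∈ oddCore X :=
          hn.conj_mem _ (mul_mem ho (hn.conj_mem _ (inv_mem ho) z)) c
        have h2 : c * (o * (z * o⁻¹ * z⁻¹)) * c⁻¹ = u * z := by
          rw [← hg, ← hco]
          calc c * (o * (z * o⁻¹ * z⁻¹)) * c⁻¹ = c * o * z * o⁻¹ * (c * z)⁻¹ := by group
            _ = c * o * z * o⁻¹ * (z * c)⁻¹ := by rw [hcz]
            _ = c * o * z * (c * o)⁻¹ * z⁻¹ := by group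
            _ = c * o * z * (c * o)⁻¹ * z := by rw [inv_eq_of_mul_eq_one_right hz2]
        rwa [h2] at h1
      have h3 : orderOf (u * z) ∣ 2 := orderOf_dvd_of_pow_eq_one (by
        rw [pow_two]
        calc u * z * (u * z) = u * (z * u) * z := by group
          _ = u * u * (z * z) := by rw [← huz]; group
          _ = 1 := by rw [sq hu, hz2, one_mul])
      have h4 := Subgroup.orderOf_dvd_natCard _ hmem
      have h5 := orderOf_eq_one_iff.1 (Nat.eq_one_of_dvd_coprimes
        (Nat.coprime_two_left.2 (CfsgLib.ZStar.odd_card_oddCore X)) h3 h4)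
      calc u = u * z * z := by rw [mul_assoc, hz2, mul_one]
        _ = z := by rw [h5, one_mul]
    rw [key ha haz, key hb hbz, hz2, one_mul] at hab
    exact hz1 hab.symm
  · exfalso
    let s : X →* ℤˣ := Equiv.Perm.sign.comp e.toMonoidHom
    have hzs : s z = 1 := by rw [← hab, map_mul, Int.units_mul_self]
    have hc : ∀ {u : X}, IsConj z u → s u = 1 := fun hu => by
      obtain ⟨g, rfl⟩ := isConj_iff.1 hu
      simp [hzs]
    refine hz1 (e.map_eq_one_iff.1 ?_)
    rw [← hab, map_mul, map_mul]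
    exact perm_four_sq _ _ (hc ha) (hc hb) (by rw [← map_mul, sq ha, map_one])
      (by rw [← map_mul, sq hb, map_one])
  · left; rw [Nat.card_congr e.toEquiv, Nat.card_perm, Nat.card_fin]; rfl
  · right; left; rw [Nat.card_congr e.toEquiv, CfsgLib.Recog.HJType.card_sl_three]
  · right; right
    rw [Nat.card_congr e.toEquiv, nat_card_alternatingGroup, Nat.card_fin]; rfl

/-- An involution that is its own centraliser inverts an abelian subgroup of index 2 containing all elements of
odd order, so these commute. -/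
theorem commute_of_small_cent {X : Type*} [Group X] [Finite X] (z : X) (hz1 : z ≠ 1) (hz2 : z * z = 1)
    (hC : ∀ g : X, g * z = z * g → g = 1 ∨ g = z) {x y : X} {m n : ℕ} (hm : Odd m) (hn : Odd n)
    (hx : x ^ m = 1) (hy : y ^ n = 1) : x * y = y * x := by
  have : Fact (Nat.Prime 2) := ⟨Nat.prime_two⟩
  have hz : orderOf z = 2 := orderOf_eq_prime (by rw [pow_two, hz2]) hz1
  have hcard : Nat.card (centralizer ({z} : Set X)) ≤ 2 := by
    refine le_of_le_of_eq (card_le_of_le (K := zpowers z) fun g hg => ?_) (by rw [Nat.card_zpowers, hz])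
    rcases hC g (mem_centralizer_singleton_iff.1 hg) with rfl | rfl
    · exact one_mem _
    · exact mem_zpowers _
  obtain ⟨P, hP⟩ := (IsPGroup.of_card (G := zpowers z) (p := 2) (n := 1)
    (by rw [Nat.card_zpowers, hz, pow_one])).exists_le_sylow
  have hzP : z ∈ (P : Subgroup X) := hP (mem_zpowers z)
  have hPC : (P : Subgroup X) ≤ centralizer {z} := by
    haveI : Nontrivial ↥(P : Subgroup X) := ⟨⟨⟨z, hzP⟩, 1, fun h => hz1 (congrArg Subtype.val h)⟩⟩
    haveI := P.2.center_nontrivial
    obtain ⟨⟨⟨c, hcP⟩, hcc⟩, hc1⟩ := exists_ne (1 : ↥(center ↥(P : Subgroup X)))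
    have hc : ∀ g ∈ (P : Subgroup X), g * c = c * g := fun g hg =>
      congrArg Subtype.val (mem_center_iff.1 hcc ⟨g, hg⟩)
    rcases hC c (hc z hzP).symm with rfl | rfl
    · exact absurd (Subtype.ext (Subtype.ext rfl)) hc1
    · exact fun g hg => mem_centralizer_singleton_iff.2 (hc g hg)
  have hP2 : Nat.card (P : Subgroup X) = 2 := le_antisymm ((card_le_of_le hPC).trans hcard)
    (hz.symm.le.trans (Nat.le_of_dvd Nat.card_pos (Subgroup.orderOf_dvd_natCard _ hzP)))
  have hodd : Odd (P : Subgroup X).index := by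
    rw [Nat.odd_iff, ← Nat.two_dvd_ne_zero]; exact P.not_dvd_index
  have hXc := (P : Subgroup X).card_mul_index
  rw [hP2] at hXc
  obtain ⟨O, hO, hOc⟩ := CfsgLib.Perm.AltDerange.exists_index_two hodd hXc.symm
  have hOn := normal_of_index_eq_two hO
  have hzO : z ∉ O := fun h => by
    have h' := Subgroup.orderOf_dvd_natCard _ h
    rw [hz, hOc] at h'
    exact Nat.not_even_iff_odd.2 hodd (even_iff_two_dvd.2 h')
  have hinv := CfsgLib.LocalEvenB.inverts_of_fixedPointFree (H := O) (z := z) (by rw [pow_two, hz2])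
    (by rw [normalizer_eq_top_iff.2 hOn]; exact mem_top _) ((eq_bot_iff_forall _).2 fun g hg => by
      rcases hC g (mem_centralizer_singleton_iff.1 hg.2) with rfl | rfl
      · rfl
      · exact absurd hg.1 hzO)
  have hmem : ∀ {g : X} {k : ℕ}, Odd k → g ^ k = 1 → g ∈ O := by
    rintro g _ ⟨j, rfl⟩ hg
    have h := sq_mem_of_index_two hO (g ^ (j + 1))
    rwa [← pow_mul, show (j + 1) * 2 = 2 * j + 1 + 1 by ring, pow_succ, hg, one_mul] at h
  have hxO := hmem hm hx
  have hyO := hmem hn hy
  have h := hinv _ (mul_mem hxO hyO)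
  rw [show z * (x * y) * z⁻¹ = z * x * z⁻¹ * (z * y * z⁻¹) by group, hinv x hxO, hinv y hyO, mul_inv_rev] at h
  have := congrArg (fun g => g⁻¹) h
  simpa using this.symm

end CfsgLib.Recog.Held.Kill
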