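import Cfsg.Agent.Lib.Recog.Held.KillDefs

set_option autoImplicit false
set_option maxRecDepth 100000

/-!
Data for the exclusion of the fusion pattern of `L5(2)` (owner: helper22): an element `cw` of order 3, its
centraliser `<cw> × D8` in candidate 0, a coloured involution `cu` inverting it and an element `cs` of order 7.
-/

namespace CfsgLib.Recog.Held.Kill

/-- The element of order 3. -/
def cw : ℕ := 384
/-- Its inverse. -/
def cwi : ℕ := 1408
/-- A coloured involution inverting `cw` and centralising `dList`. -/
def cu : ℕ := 11008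
/-- An element of order 7. -/
def cs : ℕ := 256
/-- The dihedral group of order 8 in the centraliser of `cw`: `r^j` and then `s * r^j` for `j < 4`. -/
def dList : List ℕ := [0, 18, 64, 82, 2, 16, 66, 80]
/-- The involutions of `dList` other than `64`. -/
def vList : List ℕ := [2, 16, 66, 80]
/-- The powers of `cs`. -/
def sPow : List ℕ := [0, 256, 640, 1280, 2304, 3840, 2432]

/-- The commutation test. -/
noncomputable def com (x y : ℕ) : Bool := Nat.beq (mulC 0 x y) (mulC 0 y x)

/-- The named elements and their relations. -/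
noncomputable def linBasicOK : Bool :=
  Nat.beq (mulC 0 cw cw) cwi && Nat.beq (mulC 0 cw cwi) 0 && Nat.beq (mulC 0 cwi cw) 0 &&
  Nat.beq (mulC 0 cu cu) 0 && Nat.beq (mulC 0 (mulC 0 cu cw) cu) cwi && colM 27 cu &&
  (dList.all fun d => Nat.blt d 21504 && com d cw && com d cu &&
      !com (mulC 0 d cw) cu && !com (mulC 0 d cwi) cu) &&
  (vList.all fun v => colM 27 v && Nat.beq (mulC 0 v v) 0 &&
      dList.any fun d => Nat.beq (mulC 0 d v) (mulC 0 (mulC 0 v 64) d)) &&
  Nat.beq (mulC 0 (mulC 0 2 16) (mulC 0 2 16)) 64 && !com 2 16 &&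
  (sPow.all fun a => Nat.blt a 21504) &&
  allBelow 7 fun j => Nat.beq (mulC 0 (sPow.getD j 0) cs) (sPow.getD ((j + 1) % 7) 0)

/-- The multiplication table of `dList` is that of the dihedral group. -/
noncomputable def dihOK : Bool :=
  allBelow 4 fun a => allBelow 4 fun b =>
    Nat.beq (mulC 0 (dList.getD a 0) (dList.getD b 0)) (dList.getD ((a + b) % 4) 0) &&
    (Nat.beq (mulC 0 (dList.getD a 0) (dList.getD (4 + b) 0)) (dList.getD (4 + (b + 4 - a) % 4) 0) &&
    (Nat.beq (mulC 0 (dList.getD (4 + a) 0) (dList.getD b 0)) (dList.getD (4 + (a + b) % 4) 0) &&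
    Nat.beq (mulC 0 (dList.getD (4 + a) 0) (dList.getD (4 + b) 0)) (dList.getD ((b + 4 - a) % 4) 0)))

/-- The centraliser of `cw` in the candidate. -/
noncomputable def centWOK : Bool :=
  allBelow 21504 fun x => !com x cw ||
    ((!Nat.beq (mulC 0 x x) 0 || (Nat.beq x 0 || Nat.beq x 64 || vList.any (Nat.beq x))) &&
      dList.any fun d => Nat.beq x d || (Nat.beq x (mulC 0 d cw) || Nat.beq x (mulC 0 d cwi)))

/-- Coloured involutions inverting `cw` centralise `dList`. -/
noncomputable def invertOK : Bool :=
  allBelow 21504 fun x => !colM 27 x ||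
    (!Nat.beq (mulC 0 (mulC 0 x cw) x) cwi || dList.all (com x))

/-- The centraliser of `cs` in the candidate. -/
noncomputable def centSOK : Bool :=
  allBelow 21504 fun x => !com x cs || sPow.any fun d => Nat.beq x d || Nat.beq x (mulC 0 d 64)

theorem linBasic_ok : linBasicOK = true := by decide +kernel

theorem dih_ok : dihOK = true := by decide +kernel

theorem centW_ok : centWOK = true := by decide +kernel

theorem invert_ok : invertOK = true := by decide +kernel

theorem centS_ok : centSOK = true := by decide +kernel

end CfsgLib.Recog.Held.Kill
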