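import Cfsg.Agent.Lib.Recog.Held.KillMathieu
import Cfsg.Agent.Lib.Recog.Held.KillLinearDefs
import Cfsg.Agent.Lib.Recog.Held.KillLinearAux
import Cfsg.Agent.Lib.AlmostCyclic.Exclusion.Counting

set_option autoImplicit false
set_option linter.all false

/-!
The fusion pattern of `L5(2)` does not occur in order 4030387200 (owner: helper22).  With `W` of order 3 in
`C(t)` and `U` coloured, inverting `W` and centralising its `D8`, the group `C(W) ∩ C(U)` fuses `t` inside `D8`,
so it has an element of order 7, and `C(W)/<W>` has order 120, 168 or 360.  A conjugate of `W` is then inverted by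
`t` and commutes with an element `S` of order 7, and with a subgroup of order 49 of `C(S)`.
-/

namespace CfsgLib.Recog.Held.Kill

open Subgroup

variable {G : Type*} [Group G] [Finite G] {t : G}

/-- The element of order 3. -/
noncomputable def W (K : Coord t 0) : G := K.el cw
/-- The coloured involution inverting it. -/
noncomputable def U (K : Coord t 0) : G := K.el cu
/-- The element of order 7. -/
noncomputable def S (K : Coord t 0) : G := K.el cs
/-- An element of the dihedral group. -/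
noncomputable def dEl (K : Coord t 0) (j : ℕ) : G := K.el (dList.getD j 0)

/-- The relations of the named elements. -/
structure LinFacts (K : Coord t 0) : Prop where
  w3 : W K * W K * W K = 1
  w1 : W K ≠ 1
  wi : K.el cwi = (W K)⁻¹
  u2 : U K * U K = 1
  uw : U K * W K * U K = (W K)⁻¹
  ut : IsConj (U K) t
  dW : ∀ d ∈ dList, K.el d * W K = W K * K.el d
  dU : ∀ d ∈ dList, K.el d * U K = U K * K.el d
  vcol : ∀ v ∈ vList, IsConj (K.el v) t ∧ K.el v * K.el v = 1
  vmove : ∀ v ∈ vList, ∃ d ∈ dList, K.el d * K.el v = K.el v * t * K.el d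
  ab : K.el 2 * K.el 16 * (K.el 2 * K.el 16) = t

variable (K : Coord t 0)

theorem colM_iff (hm : K.mask = 27) {x : ℕ} (hx : x < 21504) : colM 27 x = true ↔ IsConj (K.el x) t := by
  rw [K.mask_spec (by norm_num) hx, hm, colM, Bool.and_eq_true, Nat.blt_eq, Nat.pos_iff_ne_zero]

theorem com_iff {x y : ℕ} (hx : x < 21504) (hy : y < 21504) :
    com x y = true ↔ K.el x * K.el y = K.el y * K.el x := by
  rw [com, Nat.beq_eq]
  exact (K.commute_iff hx hy).symm

theorem dList_lt : ∀ d ∈ dList, d < 21504 := by decide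

theorem vList_lt : ∀ v ∈ vList, v < 21504 ∧ v ∈ dList := by decide

theorem linFacts (hm : K.mask = 27) : LinFacts K := by
  have h0 := K.el_zero (by norm_num : 0 < 6)
  have h := linBasic_ok
  simp only [linBasicOK, Bool.and_eq_true, Nat.beq_eq, List.all_eq_true, Bool.not_eq_true', List.any_eq_true,
    Nat.blt_eq, and_assoc] at h
  obtain ⟨h1, h2, h3, h4, h5, h6, h7, h8, h9, -⟩ := h
  have hw : cw < 21504 := by norm_num [cw]
  have hwi : cwi < 21504 := by norm_num [cwi]
  have hu : cu < 21504 := by norm_num [cu]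
  have hwwi : W K * K.el cwi = 1 := by rw [W, K.el_mul _ hw _ hwi, h2, h0]
  have ewi := (inv_eq_of_mul_eq_one_right hwwi).symm
  refine ⟨?_, ?_, ewi, ?_, ?_, (colM_iff K hm hu).1 h6, fun d hd => ?_, fun d hd => ?_, fun v hv => ?_,
    fun v hv => ?_, ?_⟩
  · rw [W, K.el_mul _ hw _ hw, h1, K.el_mul _ hwi _ hw, h3, h0]
  · exact fun e => by
      have := K.el_inj cw hw 0 (by norm_num) (e.trans h0.symm)
      norm_num [cw] at this
  · rw [U, K.el_mul _ hu _ hu, h4, h0]
  · rw [U, W, K.el_mul _ hu _ hw, K.el_mul _ (mulC_lt hu _) _ hu, h5, ewi, W]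
  · exact (com_iff K (h7 d hd).1 hw).1 (h7 d hd).2.1
  · exact (com_iff K (h7 d hd).1 hu).1 (h7 d hd).2.2.1
  · obtain ⟨a, b, -⟩ := h8 v hv
    have hvl := (vList_lt v hv).1
    exact ⟨(colM_iff K hm hvl).1 a, by rw [K.el_mul _ hvl _ hvl, b, h0]⟩
  · obtain ⟨-, -, d, hd, e⟩ := h8 v hv
    have hvl := (vList_lt v hv).1
    have hdl := dList_lt d hd
    refine ⟨d, hd, ?_⟩
    rw [K.el_mul _ hdl _ hvl, e, ← K.el_mul _ (mulC_lt hvl _) _ hdl, ← K.el_mul _ hvl _ (by norm_num), K.el_t]
  · rw [K.el_mul _ (by norm_num) _ (by norm_num), K.el_mul _ (mulC_lt (by norm_num) _) _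
      (mulC_lt (by norm_num) _), h9, K.el_t]

variable {K}

theorem wU_free (F : LinFacts K) {x : G} (hx : x ∈ zpowers (W K)) (hxU : x * U K = U K * x) : x = 1 := by
  obtain ⟨k, rfl⟩ := mem_zpowers_iff.1 hx
  have hUi : (U K)⁻¹ = U K := inv_eq_of_mul_eq_one_right F.u2
  have h1 : U K * W K ^ k * (U K)⁻¹ = (W K ^ k)⁻¹ := by
    rw [← conj_zpow, hUi, F.uw, inv_zpow]
  rw [← hxU, mul_inv_cancel_right] at h1
  have h2 : W K ^ k * W K ^ k = 1 := by
    nth_rewrite 1 [h1]
    exact inv_mul_cancel _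
  have h3 : (W K ^ k) ^ 3 = 1 := by
    rw [← zpow_natCast, ← zpow_mul, mul_comm, zpow_mul, zpow_natCast, pow_succ, pow_two, F.w3, one_zpow]
  rwa [pow_succ, pow_two, h2, one_mul] at h3

theorem cent_w (F : LinFacts K) {g : G} (hgt : g * t = t * g) (hgW : g * W K = W K * g) :
    (∃ d ∈ dList, ∃ p ∈ zpowers (W K), g = K.el d * p) ∧
      (g * g = 1 → g ≠ 1 → g ≠ t → ∃ v ∈ vList, g = K.el v) := by
  obtain ⟨x, hx, rfl⟩ := K.surj g hgt
  have h := allBelow_spec.1 centW_ok x hx
  simp only [Bool.or_eq_true, Bool.not_eq_true', Bool.and_eq_true, List.any_eq_true, Nat.beq_eq,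
    Bool.not_eq_eq_eq_not, Bool.not_true, Bool.not_false] at h
  have hw : cw < 21504 := by norm_num [cw]
  rcases h with h | ⟨h1, h2⟩
  · rw [(com_iff K hx hw).2 hgW] at h
    exact absurd h (by simp)
  refine ⟨?_, fun hsq hne1 hnet => ?_⟩
  · obtain ⟨d, hd, e⟩ := h2
    rcases e with e | e | e
    · exact ⟨d, hd, 1, one_mem _, by rw [e, mul_one]⟩
    · exact ⟨d, hd, W K, mem_zpowers _, by rw [e, W, K.el_mul _ (dList_lt d hd) _ hw]⟩
    · exact ⟨d, hd, (W K)⁻¹, inv_mem (mem_zpowers _), by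
        rw [e, ← F.wi, K.el_mul _ (dList_lt d hd) _ (by norm_num [cwi])]⟩
  · rw [← K.el_zero (by norm_num : 0 < 6), K.mul_eq_iff hx hx (by norm_num)] at hsq
    rcases h1 with h1 | (h1 | h1) | h1
    · simp [hsq] at h1
    · exact absurd (by rw [h1, K.el_zero (by norm_num)]) hne1
    · exact absurd (by rw [h1, K.el_t]) hnet
    · obtain ⟨v, hv, e⟩ := h1
      exact ⟨v, hv, by rw [e]⟩

/-- Elements of order `p` of `C(t)` are conjugate in `C(t)` into a given subgroup of order `p`. -/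
theorem conj_in_cent {p n : ℕ} [Fact p.Prime] (hn : ¬ p ∣ n) (hpn : p * n = 21504) (K : Coord t 0) {a b : G}
    (hat : a * t = t * a) (hbt : b * t = t * b) (ha : orderOf a = p) (hb : orderOf b = p) :
    ∃ h : G, h * t = t * h ∧ h * b * h⁻¹ ∈ zpowers a := by
  have hC : Nat.card (centralizer ({t} : Set G)) = p * n := by
    rw [hpn, ← K.card_cent]
    exact Nat.card_congr (Equiv.subtypeEquivRight fun x => mem_centralizer_singleton_iff)
  obtain ⟨h, hh⟩ := CfsgLib.AlmostCyclic.Exclusion.exists_conj_mem_zpowers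
    (G := centralizer ({t} : Set G)) (a := ⟨a, mem_centralizer_singleton_iff.2 hat⟩)
    (b := ⟨b, mem_centralizer_singleton_iff.2 hbt⟩) (l := p) (by rw [← orderOf_coe, ha])
    (by rw [← orderOf_coe, hb]) (by rw [hC]; exact CfsgLib.AlmostCyclic.Exclusion.val_one hn)
  obtain ⟨k, hk⟩ := mem_zpowers_iff.1 hh
  exact ⟨h, mem_centralizer_singleton_iff.1 h.2,
    mem_zpowers_iff.2 ⟨k, by simpa using congrArg Subtype.val hk⟩⟩

/-- `t` is fused to `t * v` in `C(W) ∩ C(U)`. -/
theorem fused (hm : K.mask = 27) (F : LinFacts K) {v : ℕ} (hv : v ∈ vList) :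
    ∃ s : G, s * W K = W K * s ∧ s * U K = U K * s ∧ s * t * s⁻¹ = t * K.el v := by
  obtain ⟨hvl, hvd⟩ := vList_lt v hv
  obtain ⟨hvt, hv2⟩ := F.vcol v hv
  have hvne : K.el v ≠ t := fun e => by
    have := K.el_inj v hvl 64 (by norm_num) (e.trans K.el_t.symm)
    subst this
    exact absurd hv (by decide)
  obtain ⟨g, hg⟩ := isConj_iff.1 hvt
  have hinj : ∀ (h : G) {a b : G}, h * a * h⁻¹ = h * b * h⁻¹ ↔ a = b := fun h a b =>
    ⟨fun e => by simpa using e, fun e => by rw [e]⟩
  have conjcomm : ∀ (h : G) {a b : G}, a * b = b * a →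
      h * a * h⁻¹ * (h * b * h⁻¹) = h * b * h⁻¹ * (h * a * h⁻¹) := fun h a b e => by
    rw [show h * a * h⁻¹ * (h * b * h⁻¹) = h * (a * b) * h⁻¹ by group, e]; group
  have hw1t : g * W K * g⁻¹ * t = t * (g * W K * g⁻¹) := by
    have := conjcomm g (F.dW v hvd).symm
    rwa [hg] at this
  have : Fact (Nat.Prime 3) := ⟨Nat.prime_three⟩
  have hordW : orderOf (W K) = 3 := orderOf_eq_prime (by rw [pow_succ, pow_two, F.w3]) F.w1
  obtain ⟨h, hht, hhw⟩ := conj_in_cent (p := 3) (n := 7168) (by norm_num) (by norm_num) K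
    (K.mem cw (by norm_num [cw])) hw1t hordW
    ((orderOf_injective (MulAut.conj g).toMonoidHom (MulAut.conj g).injective (W K)).trans hordW)
  have hkv : h * g * K.el v * (h * g)⁻¹ = t := by
    rw [show h * g * K.el v * (h * g)⁻¹ = h * (g * K.el v * g⁻¹) * h⁻¹ by group, hg, hht]
    group
  obtain ⟨k, hk, hkw⟩ : ∃ k : G, k * K.el v * k⁻¹ = t ∧ k * W K * k⁻¹ = W K := by
    have hw' : h * g * W K * (h * g)⁻¹ = h * (g * W K * g⁻¹) * h⁻¹ := by group
    obtain ⟨j, (hj : W K ^ j = _)⟩ := mem_zpowers_iff.1 hhw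
    have hj3 : W K ^ j = W K ^ (j % 3) := by rw [← zpow_mod_orderOf, hordW]; rfl
    have h3 : j % 3 = 0 ∨ j % 3 = 1 ∨ j % 3 = 2 := by omega
    rw [← hw', hj3] at hj
    rcases h3 with h3 | h3 | h3 <;> rw [h3] at hj
    · rw [zpow_zero] at hj
      exact absurd (conj_eq_one_iff.1 hj.symm) F.w1
    · rw [zpow_one] at hj
      exact ⟨h * g, hkv, hj.symm⟩
    · have hUi : (U K)⁻¹ = U K := inv_eq_of_mul_eq_one_right F.u2
      have hw2 : W K ^ (2 : ℤ) = (W K)⁻¹ := by
        rw [zpow_two]; exact eq_inv_of_mul_eq_one_left F.w3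
      rw [hw2] at hj
      refine ⟨U K * (h * g), ?_, ?_⟩
      · rw [show U K * (h * g) * K.el v * (U K * (h * g))⁻¹ = U K * (h * g * K.el v * (h * g)⁻¹) * (U K)⁻¹ by
          group, hkv]
        exact mul_inv_eq_iff_eq_mul.2 (K.mem cu (by norm_num [cu]))
      · rw [show U K * (h * g) * W K * (U K * (h * g))⁻¹ = U K * (h * g * W K * (h * g)⁻¹) * (U K)⁻¹ by
          group, ← hj, show U K * (W K)⁻¹ * (U K)⁻¹ = (U K * W K * (U K)⁻¹)⁻¹ by group, hUi, F.uw, inv_inv]
  have htv : t * K.el v = K.el v * t := (K.mem v hvl).symm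
  have ht1 := K.ne_one_t (by norm_num : 0 < 6)
  have ht2 := K.t_sq (by norm_num : 0 < 6)
  have h1t : k * t * k⁻¹ * t = t * (k * t * k⁻¹) := by
    have := conjcomm k htv
    rwa [hk] at this
  have h1W : k * t * k⁻¹ * W K = W K * (k * t * k⁻¹) := by
    have := conjcomm k (K.mem cw (by norm_num [cw])).symm
    rwa [show k * K.el cw * k⁻¹ = W K from hkw] at this
  obtain ⟨x, hx, hxe⟩ := (cent_w F h1t h1W).2
    (by rw [show k * t * k⁻¹ * (k * t * k⁻¹) = k * (t * t) * k⁻¹ by group, ht2]; group)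
    (fun e => ht1 (conj_eq_one_iff.1 e))
    (fun e => hvne ((hinj k).1 (hk.trans e.symm)))
  obtain ⟨d, hd, hdx⟩ := F.vmove x hx
  have hdl := dList_lt d hd
  have hu1 : k * U K * k⁻¹ * t = t * (k * U K * k⁻¹) := by
    have := conjcomm k (F.dU v hvd).symm
    rwa [hk] at this
  obtain ⟨y, hy, hye⟩ := K.surj _ hu1
  have hu2 : k * U K * k⁻¹ * W K * (k * U K * k⁻¹) = (W K)⁻¹ := by
    calc k * U K * k⁻¹ * W K * (k * U K * k⁻¹)
        = k * U K * k⁻¹ * (k * W K * k⁻¹) * (k * U K * k⁻¹) := by rw [hkw]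
      _ = k * (U K * W K * U K) * k⁻¹ := by group
      _ = (k * W K * k⁻¹)⁻¹ := by rw [F.uw]; group
      _ = (W K)⁻¹ := by rw [hkw]
  have hdu : K.el d * (k * U K * k⁻¹) = k * U K * k⁻¹ * K.el d := by
    have hw : cw < 21504 := by norm_num [cw]
    have h := allBelow_spec.1 invert_ok y hy
    simp only [Bool.or_eq_true, Bool.not_eq_true', List.all_eq_true, Bool.not_eq_eq_eq_not, Bool.not_true] at h
    rcases h with h | h | h
    · exfalso
      have hc : colM 27 y = true := (colM_iff K hm hy).2 (by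
        rw [hye]; exact ((isConj_iff.2 ⟨k, rfl⟩).symm).trans F.ut)
      rw [hc] at h
      exact Bool.noConfusion h
    · exfalso
      have he : mulC 0 (mulC 0 y cw) y = cwi := by
        refine K.el_inj _ (mulC_lt (mulC_lt hy _) _) _ (by norm_num [cwi]) ?_
        rw [← K.el_mul _ (mulC_lt hy _) _ hy, ← K.el_mul _ hy _ hw, hye, F.wi]
        exact hu2
      simp [he] at h
    · rw [← hye]; exact ((com_iff K hy hdl).1 (h d hd)).symm
  refine ⟨k⁻¹ * K.el d * k, ?_, ?_, ?_⟩
  · have := conjcomm k⁻¹ (F.dW d hd)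
    rw [inv_inv, show k⁻¹ * W K * k = W K by
      calc k⁻¹ * W K * k = k⁻¹ * (k * W K * k⁻¹) * k := by rw [hkw]
        _ = W K := by group] at this
    exact this
  · have := conjcomm k⁻¹ hdu
    rwa [inv_inv, show k⁻¹ * (k * U K * k⁻¹) * k = U K by group] at this
  · rw [show k⁻¹ * K.el d * k * t * (k⁻¹ * K.el d * k)⁻¹ = k⁻¹ * (K.el d * (k * t * k⁻¹) * (K.el d)⁻¹) * k by
      group, hxe, hdx, mul_inv_cancel_right]
    rw [← hxe, show k⁻¹ * (k * t * k⁻¹ * t) * k = t * (k⁻¹ * t * k) by group,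
      show k⁻¹ * t * k = K.el v from
      calc k⁻¹ * t * k = k⁻¹ * (k * K.el v * k⁻¹) * k := by rw [hk]
        _ = K.el v := by group]

theorem vList_pairs : mulC 0 64 66 = 2 ∧ mulC 0 64 80 = 16 := by decide +kernel

theorem t_mul {v u : ℕ} (hv : v < 21504) (h : mulC 0 64 v = u) : t * K.el v = K.el u := by
  have e := K.el_mul 64 (by norm_num) v hv
  rw [h, K.el_t] at e
  exact e

theorem dih_spec : ∀ a b : ℕ, a < 4 → b < 4 →
    dEl K a * dEl K b = dEl K ((a + b) % 4) ∧
    dEl K a * dEl K (4 + b) = dEl K (4 + (b + 4 - a) % 4) ∧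
    dEl K (4 + a) * dEl K b = dEl K (4 + (a + b) % 4) ∧
    dEl K (4 + a) * dEl K (4 + b) = dEl K ((b + 4 - a) % 4) := by
  intro a b ha hb
  have hl : ∀ j, dList.getD j 0 < 21504 := fun j => by
    rcases lt_or_ge j 8 with h | h
    · interval_cases j <;> decide
    · rw [List.getD_eq_default _ _ (by simpa [dList] using h)]; norm_num
  have h := dih_ok
  simp only [dihOK, allBelow_spec, Bool.and_eq_true, Nat.beq_eq] at h
  obtain ⟨h1, h2, h3, h4⟩ := h a ha b hb
  simp only [dEl]
  refine ⟨?_, ?_, ?_, ?_⟩ <;> rw [K.el_mul _ (hl _) _ (hl _)]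
  exacts [congrArg K.el h1, congrArg K.el h2, congrArg K.el h3, congrArg K.el h4]

/-- The index of an element of `DihedralGroup 4` in `dList`. -/
def dIdx : DihedralGroup 4 → ℕ
  | .r i => i.val
  | .sr i => 4 + i.val

theorem dIdx_lt : ∀ x : DihedralGroup 4, dIdx x < 8 := by decide

theorem dIdx_surj : ∀ d ∈ dList, ∃ x : DihedralGroup 4, dList.getD (dIdx x) 0 = d := by decide

theorem dIdx_mem : ∀ x : DihedralGroup 4, dList.getD (dIdx x) 0 ∈ dList := by decide

theorem dIdx_one : ∀ x : DihedralGroup 4, dList.getD (dIdx x) 0 = 0 → x = 1 := by decide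

theorem dIdx_sub : ∀ a b : ZMod 4, (b - a).val = (b.val + 4 - a.val) % 4 ∧
    (a + b).val = (a.val + b.val) % 4 := by decide

/-- The dihedral group in `C(t) ∩ C(W)`. -/
noncomputable def dHom (K : Coord t 0) : DihedralGroup 4 →* G where
  toFun x := dEl K (dIdx x)
  map_one' := by
    show K.el (dList.getD (0 : ZMod 4).val 0) = 1
    exact K.el_zero (by norm_num)
  map_mul' := by
    rintro (a | a) (b | b) <;> obtain ⟨h1, h2, h3, h4⟩ := dih_spec (K := K) a.val b.val a.val_lt b.val_lt <;>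
      obtain ⟨e1, e2⟩ := dIdx_sub a b
    · show dEl K (a + b).val = _
      rw [e2]; exact h1.symm
    · show dEl K (4 + (b - a).val) = _
      rw [e1]; exact h2.symm
    · show dEl K (4 + (a + b).val) = _
      rw [e2]; exact h3.symm
    · show dEl K (b - a).val = _
      rw [e1]; exact h4.symm

theorem dHom_comm (F : LinFacts K) (x : DihedralGroup 4) :
    dHom K x * t = t * dHom K x ∧ dHom K x * W K = W K * dHom K x ∧ dHom K x * U K = U K * dHom K x :=
  ⟨K.mem _ (dList_lt _ (dIdx_mem x)), F.dW _ (dIdx_mem x), F.dU _ (dIdx_mem x)⟩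

theorem dHom_one {x : DihedralGroup 4} (h : dHom K x = 1) : x = 1 :=
  dIdx_one x (K.el_inj _ (dList_lt _ (dIdx_mem x)) 0 (by norm_num) (h.trans (K.el_zero (by norm_num)).symm))

/-- `C(W) ∩ C(U)`. -/
noncomputable def X1 (K : Coord t 0) : Subgroup G := centralizer {W K} ⊓ centralizer {U K}

theorem mem_X1 {g : G} : g ∈ X1 K ↔ g * W K = W K * g ∧ g * U K = U K * g := by
  rw [X1, mem_inf, mem_centralizer_singleton_iff, mem_centralizer_singleton_iff]

/-- `C(W) ∩ C(U)` has an element of order 7. -/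
theorem exists_seven (hm : K.mask = 27) (F : LinFacts K) :
    ∃ x : G, orderOf x = 7 ∧ x * W K = W K * x ∧ x * U K = U K * x := by
  have ht1 := K.ne_one_t (by norm_num : 0 < 6)
  have ht2 := K.t_sq (by norm_num : 0 < 6)
  have hmem : ∀ d ∈ dList, K.el d ∈ X1 K := fun d hd => mem_X1.2 ⟨F.dW d hd, F.dU d hd⟩
  have htX : t ∈ X1 K := by
    have h := hmem 64 (by decide)
    rwa [K.el_t] at h
  let z : X1 K := ⟨t, htX⟩
  let a : X1 K := ⟨K.el 2, hmem 2 (by decide)⟩
  let b : X1 K := ⟨K.el 16, hmem 16 (by decide)⟩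
  have hfuse : ∀ (v : ℕ) (w : X1 K), v ∈ vList → (w : G) = t * K.el v → IsConj z w := by
    intro v w hv hw
    obtain ⟨s, hsW, hsU, hs⟩ := fused hm F hv
    exact isConj_iff.2 ⟨⟨s, mem_X1.2 ⟨hsW, hsU⟩⟩, Subtype.ext (hs.trans hw.symm)⟩
  have ha : IsConj z a := hfuse 66 a (by decide) (t_mul (by norm_num) vList_pairs.1).symm
  have hb : IsConj z b := hfuse 80 b (by decide) (t_mul (by norm_num) vList_pairs.2).symm
  have hzo : orderOf z = 2 := orderOf_eq_prime (Subtype.ext (by rw [pow_two]; exact ht2))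
    (fun e => ht1 (congrArg Subtype.val e))
  let φ : DihedralGroup 4 →* centralizer ({z} : Set (X1 K)) :=
    ((dHom K).codRestrict (X1 K) fun x => mem_X1.2 (dHom_comm F x).2).codRestrict _ fun x =>
      mem_centralizer_singleton_iff.2 (Subtype.ext (dHom_comm F x).1)
  have hφ : Function.Bijective φ := by
    refine ⟨(injective_iff_map_eq_one φ).2 fun x h =>
      dHom_one (congrArg (fun g : centralizer ({z} : Set (X1 K)) => ((g : X1 K) : G)) h), ?_⟩
    rintro ⟨⟨g, hg⟩, hgz⟩
    obtain ⟨hgW, hgU⟩ := mem_X1.1 hg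
    obtain ⟨d, hd, p, hp, rfl⟩ := (cent_w F (congrArg Subtype.val (mem_centralizer_singleton_iff.1 hgz)) hgW).1
    have hp1 : p = 1 := wU_free F hp (mul_left_cancel (a := K.el d) (by
      rw [← mul_assoc, hgU, ← mul_assoc (U K) (K.el d) p, ← F.dU d hd, mul_assoc]))
    subst hp1
    obtain ⟨x, hx⟩ := dIdx_surj d hd
    exact ⟨x, Subtype.ext (Subtype.ext ((congrArg K.el hx).trans (mul_one _).symm))⟩
  have hcases := card_of_fused z a b hzo ⟨(MulEquiv.ofBijective φ hφ).symm⟩ ha hb
    (Subtype.ext (K.mem 2 (by norm_num))) (Subtype.ext (K.mem 16 (by norm_num))) (Subtype.ext F.ab)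
  have hdvd : Nat.card (X1 K) ∣ 21504 := by
    obtain ⟨g, hg⟩ := isConj_iff.1 F.ut
    have h1 : Nat.card (centralizer ({U K} : Set G)) = 21504 := by
      rw [← K.card_cent]
      have key : ∀ h : G, h * U K = U K * h ↔
          g * h * g⁻¹ * (g * U K * g⁻¹) = g * U K * g⁻¹ * (g * h * g⁻¹) := fun h => ⟨fun e => by
        rw [show g * h * g⁻¹ * (g * U K * g⁻¹) = g * (h * U K) * g⁻¹ by group, e]; group,
        fun e => by
          rw [show g * h * g⁻¹ * (g * U K * g⁻¹) = g * (h * U K) * g⁻¹ by group,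
            show g * U K * g⁻¹ * (g * h * g⁻¹) = g * (U K * h) * g⁻¹ by group] at e
          exact mul_left_cancel (mul_right_cancel e)⟩
      refine card_conj g fun h => ?_
      rw [mem_centralizer_singleton_iff, key h, hg]
    rw [← h1]
    exact card_dvd_of_le inf_le_right
  have : Fact (Nat.Prime 7) := ⟨by norm_num⟩
  rcases hcases with h | h | h <;> rw [h] at hdvd
  · norm_num at hdvd
  · obtain ⟨x, hx⟩ := exists_prime_orderOf_dvd_card' (G := X1 K) 7 (by rw [h]; norm_num)
    exact ⟨x, (orderOf_coe x).trans hx, mem_X1.1 x.2⟩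
  · norm_num at hdvd

/-- `|C(W)|` is not divisible by 49. -/
theorem cent_bound (hm : K.mask = 27) (F : LinFacts K) :
    ¬ 49 ∣ Nat.card (centralizer ({W K} : Set G)) := by
  set H := centralizer ({W K} : Set G) with hH
  have hWH : W K ∈ H := mem_centralizer_singleton_iff.2 rfl
  let wH : H := ⟨W K, hWH⟩
  let N : Subgroup H := zpowers wH
  have hNn : N.Normal := ⟨fun n hn g => by
    obtain ⟨j, rfl⟩ := mem_zpowers_iff.1 hn
    have hc : Commute g wH := Subtype.ext (mem_centralizer_singleton_iff.1 g.2)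
    rw [(hc.zpow_right j).eq, mul_inv_cancel_right]
    exact zpow_mem (mem_zpowers wH) j⟩
  have hNmem : ∀ g : H, g ∈ N → (g : G) ∈ zpowers (W K) := fun g hg => by
    obtain ⟨j, rfl⟩ := mem_zpowers_iff.1 hg
    exact mem_zpowers_iff.2 ⟨j, by simp [wH]⟩
  have hmemN : ∀ g : H, (g : G) ∈ zpowers (W K) → g ∈ N := fun g hg => by
    obtain ⟨j, hj⟩ := mem_zpowers_iff.1 hg
    exact mem_zpowers_iff.2 ⟨j, Subtype.ext (by simpa [wH] using hj)⟩
  have ht1 := K.ne_one_t (by norm_num : 0 < 6)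
  have ht2 := K.t_sq (by norm_num : 0 < 6)
  have hdH : ∀ d ∈ dList, K.el d ∈ H := fun d hd => mem_centralizer_singleton_iff.2 (F.dW d hd)
  let q : H →* H ⧸ N := QuotientGroup.mk' N
  let tH : H := ⟨t, K.el_t ▸ hdH 64 (by decide)⟩
  let aH : H := ⟨K.el 2, hdH 2 (by decide)⟩
  let bH : H := ⟨K.el 16, hdH 16 (by decide)⟩
  have htU : t * U K = U K * t := (K.mem cu (by norm_num [cu])).symm
  have hzo : orderOf (q tH) = 2 := by
    refine orderOf_eq_prime (by rw [pow_two, ← map_mul, show tH * tH = 1 from Subtype.ext ht2, map_one]) ?_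
    intro e
    exact ht1 (wU_free F (hNmem _ ((QuotientGroup.eq_one_iff _).1 e)) htU)
  have hfuse : ∀ (v : ℕ) (w : H), v ∈ vList → (w : G) = t * K.el v → IsConj (q tH) (q w) := by
    intro v w hv hw
    obtain ⟨s, hsW, -, hs⟩ := fused hm F hv
    exact q.map_isConj (isConj_iff.2 ⟨⟨s, mem_centralizer_singleton_iff.2 hsW⟩, Subtype.ext (hs.trans hw.symm)⟩)
  have hdt : ∀ x, dHom K x ∈ H := fun x => mem_centralizer_singleton_iff.2 (dHom_comm F x).2.1
  let φ : DihedralGroup 4 →* centralizer ({q tH} : Set (H ⧸ N)) :=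
    (q.comp ((dHom K).codRestrict H hdt)).codRestrict _ fun x => mem_centralizer_singleton_iff.2 (by
      show q _ * q tH = q tH * q _
      rw [← map_mul, ← map_mul]
      exact congrArg q (Subtype.ext (dHom_comm F x).1))
  have hφ : Function.Bijective φ := by
    refine ⟨(injective_iff_map_eq_one φ).2 fun x h => dHom_one (wU_free F
      (hNmem _ ((QuotientGroup.eq_one_iff _).1 (congrArg Subtype.val h))) (dHom_comm F x).2.2), ?_⟩
    rintro ⟨g', hg'⟩
    obtain ⟨g, rfl⟩ : ∃ g, q g = g' := QuotientGroup.mk'_surjective N g'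
    have h1 : (g * tH * g⁻¹ * tH⁻¹ : H) ∈ N := (QuotientGroup.eq_one_iff _).1 (by
      show q (g * tH * g⁻¹ * tH⁻¹) = 1
      rw [map_mul, map_mul, map_mul, mem_centralizer_singleton_iff.1 hg', map_inv, map_inv]
      group)
    have hgW := mem_centralizer_singleton_iff.1 g.2
    -- the commutator is a power of `W` inverting to itself
    set p : G := (g : G) * t * (g : G)⁻¹ * t⁻¹ with hp
    have hpN : p ∈ zpowers (W K) := hNmem _ h1
    have hpW : p * t = t * p := by
      obtain ⟨j, hj⟩ := mem_zpowers_iff.1 hpN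
      rw [← hj]
      exact (Commute.zpow_left (show Commute (W K) t from K.mem cw (by norm_num [cw])) j).eq
    have hp2 : p * p = 1 := by
      have e : (g : G) * t * (g : G)⁻¹ = p * t := by rw [hp]; group
      have e2 : (g : G) * t * (g : G)⁻¹ * ((g : G) * t * (g : G)⁻¹) = 1 := by
        rw [show (g : G) * t * (g : G)⁻¹ * ((g : G) * t * (g : G)⁻¹) = g * (t * t) * (g : G)⁻¹ by group, ht2]
        group
      rw [e] at e2
      calc p * p = p * p * (t * t) := by rw [ht2, mul_one]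
        _ = p * (p * t) * t := by group
        _ = p * (t * p) * t := by rw [hpW]
        _ = p * t * (p * t) := by group
        _ = 1 := e2
    have hp1 : p = 1 := by
      obtain ⟨j, hj⟩ := mem_zpowers_iff.1 hpN
      have h3 : p ^ 3 = 1 := by
        rw [← hj, ← zpow_natCast, ← zpow_mul, mul_comm, zpow_mul, zpow_natCast, pow_succ, pow_two, F.w3,
          one_zpow]
      rwa [pow_succ, pow_two, hp2, one_mul] at h3
    have hgt : (g : G) * t = t * g := by
      rw [hp, mul_inv_eq_one, mul_inv_eq_iff_eq_mul] at hp1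
      exact hp1
    obtain ⟨d, hd, r, hr, hgd⟩ := (cent_w F hgt hgW).1
    obtain ⟨x, hx⟩ := dIdx_surj d hd
    refine ⟨x, Subtype.ext (QuotientGroup.eq.2 (hmemN _ ?_))⟩
    show (dHom K x)⁻¹ * (g : G) ∈ zpowers (W K)
    rwa [hgd, show dHom K x = K.el d from congrArg K.el hx, inv_mul_cancel_left]
  have hcases := card_of_fused (q tH) (q aH) (q bH) hzo ⟨(MulEquiv.ofBijective φ hφ).symm⟩
    (hfuse 66 aH (by decide) (t_mul (by norm_num) vList_pairs.1).symm)
    (hfuse 80 bH (by decide) (t_mul (by norm_num) vList_pairs.2).symm)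
    (by rw [← map_mul, ← map_mul]; exact congrArg q (Subtype.ext (K.mem 2 (by norm_num))))
    (by rw [← map_mul, ← map_mul]; exact congrArg q (Subtype.ext (K.mem 16 (by norm_num))))
    (by rw [← map_mul, ← map_mul]; exact congrArg q (Subtype.ext F.ab))
  have : Fact (Nat.Prime 3) := ⟨Nat.prime_three⟩
  have hN3 : Nat.card N = 3 := by
    rw [Nat.card_zpowers, ← orderOf_coe]
    exact orderOf_eq_prime (by rw [pow_succ, pow_two]; exact F.w3) F.w1
  rw [card_eq_card_quotient_mul_card_subgroup N, hN3]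
  rcases hcases with h | h | h <;> rw [h] <;> norm_num

/-- The pattern of `L5(2)` does not occur. -/
theorem not_linear (K : Coord t 0) (hG : Nat.card G = 4030387200) : K.mask ≠ 27 := by
  intro hm
  have F := linFacts K hm
  have : Fact (Nat.Prime 7) := ⟨by norm_num⟩
  obtain ⟨x, hx7, hxW, hxU⟩ := exists_seven hm F
  obtain ⟨g, hg⟩ := isConj_iff.1 F.ut
  have hcs : cs < 21504 := by norm_num [cs]
  have hb := linBasic_ok
  simp only [linBasicOK, Bool.and_eq_true, Nat.beq_eq, List.all_eq_true, Nat.blt_eq, allBelow_spec, and_assoc] at hb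
  obtain ⟨-, -, -, -, -, -, -, -, -, -, hslt, hstep⟩ := hb
  have hget : ∀ j < 7, sPow.getD j 0 ∈ sPow := by decide
  have hpow : ∀ j, j < 7 → K.el (sPow.getD j 0) = S K ^ j := by
    intro j
    induction j with
    | zero => intro _; rw [pow_zero]; exact K.el_zero (by norm_num)
    | succ j ih =>
      intro hj
      rw [pow_succ, ← ih (by omega), S, K.el_mul _ (hslt _ (hget j (by omega))) _ hcs, hstep j (by omega),
        Nat.mod_eq_of_lt hj]
  have hS7 : S K ^ 7 = 1 := by
    rw [pow_succ, ← hpow 6 (by norm_num), S, K.el_mul _ (hslt _ (hget 6 (by norm_num))) _ hcs,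
      hstep 6 (by norm_num)]
    exact K.el_zero (by norm_num)
  have hS1 : S K ≠ 1 := fun e => by
    have := K.el_inj cs hcs 0 (by norm_num) (e.trans (K.el_zero (by norm_num)).symm)
    norm_num [cs] at this
  have hSo : orderOf (S K) = 7 := orderOf_eq_prime hS7 hS1
  have hconj : ∀ (h : G) {a b : G}, a * b = b * a →
      h * a * h⁻¹ * (h * b * h⁻¹) = h * b * h⁻¹ * (h * a * h⁻¹) := fun h a b e => by
    rw [show h * a * h⁻¹ * (h * b * h⁻¹) = h * (a * b) * h⁻¹ by group, e]; group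
  have hx1t : g * x * g⁻¹ * t = t * (g * x * g⁻¹) := by
    have := hconj g hxU
    rwa [hg] at this
  obtain ⟨h, hht, hhx⟩ := conj_in_cent (p := 7) (n := 3072) (by norm_num) (by norm_num) K (K.mem cs hcs) hx1t hSo
    (by
      rw [← hx7]
      exact orderOf_injective (MulAut.conj g).toMonoidHom (MulAut.conj g).injective x)
  obtain ⟨f, hf⟩ : ∃ f, f = h * g := ⟨_, rfl⟩
  have hfU : f * U K * f⁻¹ = t := by
    rw [hf, show h * g * U K * (h * g)⁻¹ = h * (g * U K * g⁻¹) * h⁻¹ by group, hg, hht]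
    group
  have hfx : f * x * f⁻¹ ∈ zpowers (S K) := by
    rw [hf, show h * g * x * (h * g)⁻¹ = h * (g * x * g⁻¹) * h⁻¹ by group]; exact hhx
  set w := f * W K * f⁻¹ with hw
  have hwS : w * S K = S K * w := by
    have h1 : w * (f * x * f⁻¹) = f * x * f⁻¹ * w := hconj f hxW.symm
    have heq : zpowers (f * x * f⁻¹) = zpowers (S K) :=
      eq_of_le_of_card_ge (zpowers_le.2 hfx) (by
        rw [Nat.card_zpowers, Nat.card_zpowers, hSo, ← hx7]
        exact (orderOf_injective (MulAut.conj f).toMonoidHom (MulAut.conj f).injective x).symm.le)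
    obtain ⟨j, hj⟩ := mem_zpowers_iff.1 (heq.symm ▸ mem_zpowers (S K) : S K ∈ zpowers (f * x * f⁻¹))
    rw [← hj]
    exact (Commute.zpow_right (show Commute w (f * x * f⁻¹) from h1) j).eq
  set M := centralizer ({S K} : Set G) with hM
  have hSM : S K ∈ M := mem_centralizer_singleton_iff.2 rfl
  have htM : t ∈ M := mem_centralizer_singleton_iff.2 (K.mem cs hcs).symm
  have hwM : w ∈ M := mem_centralizer_singleton_iff.2 hwS
  let sM : M := ⟨S K, hSM⟩
  let N : Subgroup M := zpowers sM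
  have hNn : N.Normal := ⟨fun n hn g => by
    obtain ⟨j, rfl⟩ := mem_zpowers_iff.1 hn
    have hc : Commute g sM := Subtype.ext (mem_centralizer_singleton_iff.1 g.2)
    rw [(hc.zpow_right j).eq, mul_inv_cancel_right]
    exact zpow_mem (mem_zpowers sM) j⟩
  let q : M →* M ⧸ N := QuotientGroup.mk' N
  let tM : M := ⟨t, htM⟩
  have ht1 := K.ne_one_t (by norm_num : 0 < 6)
  have ht2 := K.t_sq (by norm_num : 0 < 6)
  have hNS : ∀ y : M, y ∈ N → (y : G) ∈ zpowers (S K) := fun y hy => by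
    obtain ⟨j, rfl⟩ := mem_zpowers_iff.1 hy
    exact mem_zpowers_iff.2 ⟨j, by simp [sM]⟩
  have hSN : ∀ y : M, (y : G) ∈ zpowers (S K) → y ∈ N := fun y hy => by
    obtain ⟨j, hj⟩ := mem_zpowers_iff.1 hy
    exact mem_zpowers_iff.2 ⟨j, Subtype.ext (by simpa [sM] using hj)⟩
  have hseven : ∀ {y : G}, y ∈ zpowers (S K) → y ^ 7 = 1 := by
    intro y hy
    obtain ⟨j, rfl⟩ := mem_zpowers_iff.1 hy
    rw [← zpow_natCast, ← zpow_mul, mul_comm, zpow_mul, zpow_natCast, hS7, one_zpow]
  have htwo : ∀ {y : G}, y ∈ zpowers (S K) → y * y = 1 → y = 1 := by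
    intro y hy hy2
    have h7 := hseven hy
    rwa [show y ^ 7 = y * y * (y * y) * (y * y) * y by simp only [pow_succ, pow_zero, one_mul, mul_assoc], hy2, one_mul, one_mul, one_mul] at h7
  have hsmall : ∀ e : M ⧸ N, e * q tM = q tM * e → e = 1 ∨ e = q tM := by
    intro e he
    obtain ⟨y, rfl⟩ : ∃ y, q y = e := QuotientGroup.mk'_surjective N e
    have h1 : (y * tM * y⁻¹ * tM⁻¹ : M) ∈ N := (QuotientGroup.eq_one_iff _).1 (by
      show q (y * tM * y⁻¹ * tM⁻¹) = 1
      rw [map_mul, map_mul, map_mul, he, map_inv, map_inv]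
      group)
    set p : G := (y : G) * t * (y : G)⁻¹ * t⁻¹ with hp
    have hpS : p ∈ zpowers (S K) := hNS _ h1
    have hpt : p * t = t * p := by
      obtain ⟨j, hj⟩ := mem_zpowers_iff.1 hpS
      rw [← hj]
      exact (Commute.zpow_left (show Commute (S K) t from K.mem cs hcs) j).eq
    have hp1 : p = 1 := htwo hpS (by
      have e0 : (y : G) * t * (y : G)⁻¹ = p * t := by rw [hp]; group
      have e2 : (y : G) * t * (y : G)⁻¹ * ((y : G) * t * (y : G)⁻¹) = 1 := by
        rw [show (y : G) * t * (y : G)⁻¹ * ((y : G) * t * (y : G)⁻¹) = y * (t * t) * (y : G)⁻¹ by group, ht2]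
        group
      rw [e0] at e2
      calc p * p = p * p * (t * t) := by rw [ht2, mul_one]
        _ = p * (p * t) * t := by group
        _ = p * (t * p) * t := by rw [hpt]
        _ = p * t * (p * t) := by group
        _ = 1 := e2)
    rw [hp, mul_inv_eq_one, mul_inv_eq_iff_eq_mul] at hp1
    obtain ⟨c, hc, hce⟩ := K.surj _ hp1
    have hcom : com c cs = true := (com_iff K hc hcs).2 (by
      rw [hce]; exact mem_centralizer_singleton_iff.1 y.2)
    have hcs2 := allBelow_spec.1 centS_ok c hc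
    rw [hcom, Bool.not_true, Bool.false_or, List.any_eq_true] at hcs2
    obtain ⟨d, hd, hde⟩ := hcs2
    obtain ⟨j, hj, rfl⟩ : ∃ j < 7, sPow.getD j 0 = d := by
      obtain ⟨j, hj, rfl⟩ := List.getElem_of_mem hd
      exact ⟨j, hj, List.getD_eq_getElem _ 0 hj⟩
    simp only [Bool.or_eq_true, Nat.beq_eq] at hde
    rcases hde with hde | hde
    · left
      refine (QuotientGroup.eq_one_iff _).2 (hSN _ ?_)
      rw [← hce, hde, hpow j hj]
      exact pow_mem (mem_zpowers _) j
    · right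
      refine QuotientGroup.eq.2 (hSN _ ?_)
      show (y : G)⁻¹ * t ∈ zpowers (S K)
      rw [← hce, hde, ← K.el_mul _ (hslt _ (hget j hj)) _ (by norm_num), K.el_t, hpow j hj, mul_inv_rev,
        inv_eq_of_mul_eq_one_right ht2]
      have hc' : Commute (S K ^ j) t := Commute.pow_left (show Commute (S K) t from K.mem cs hcs) j
      rw [mul_assoc, hc'.inv_left.eq, ← mul_assoc, ht2, one_mul]
      exact inv_mem (pow_mem (mem_zpowers _) j)
  have hq1 : q tM ≠ 1 := fun e => ht1 (htwo (hNS _ ((QuotientGroup.eq_one_iff _).1 e)) ht2)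
  have hq2 : q tM * q tM = 1 := by rw [← map_mul, show tM * tM = 1 from Subtype.ext ht2, map_one]
  have hW3 : w ^ 3 = 1 := by
    rw [hw, conj_pow, pow_succ, pow_two, F.w3]; group
  -- a subgroup of order at least 49 of a Sylow subgroup lies in `M`
  obtain ⟨P, hP⟩ := (IsPGroup.of_card (G := zpowers (S K)) (p := 7) (n := 1)
    (by rw [Nat.card_zpowers, hSo, pow_one])).exists_le_sylow
  have hP343 : Nat.card (P : Subgroup G) = 343 := by
    obtain ⟨k, hk⟩ := IsPGroup.iff_card.1 P.2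
    have hmul := (P : Subgroup G).card_mul_index
    rw [hk, hG] at hmul
    have hk3 : k = 3 := by
      rcases lt_trichotomy k 3 with hlt | heq | hgt
      · exfalso
        refine P.not_dvd_index ?_
        interval_cases k <;> omega
      · exact heq
      · exfalso
        have h4 : (7 : ℕ) ^ 4 ∣ 4030387200 := (pow_dvd_pow 7 hgt).trans ⟨_, hmul.symm⟩
        norm_num at h4
    rw [hk, hk3]; norm_num
  have hSP : S K ∈ (P : Subgroup G) := hP (mem_zpowers _)
  set R := (P : Subgroup G) ⊓ M with hR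
  have hcomm : ∀ y ∈ R, y * w = w * y := by
    intro y hy
    have hyo : y ^ 343 = 1 := by
      rw [← hP343]
      exact congrArg Subtype.val (pow_card_eq_one' (x := (⟨y, hy.1⟩ : (P : Subgroup G))))
    let yM : M := ⟨y, hy.2⟩
    let wM : M := ⟨w, hwM⟩
    have hq := commute_of_small_cent (q tM) hq1 hq2 hsmall (x := q yM) (y := q wM) (m := 343) (n := 3)
      (by decide) (by decide)
      (by rw [← map_pow, show yM ^ 343 = 1 from Subtype.ext hyo, map_one])
      (by rw [← map_pow, show wM ^ 3 = 1 from Subtype.ext hW3, map_one])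
    have he : (w * y * w⁻¹ * y⁻¹ : G) ∈ zpowers (S K) := hNS (wM * yM * wM⁻¹ * yM⁻¹)
      ((QuotientGroup.eq_one_iff _).1 (by
        show q (wM * yM * wM⁻¹ * yM⁻¹) = 1
        rw [map_mul, map_mul, map_mul, ← hq, map_inv, map_inv]
        group))
    set e := w * y * w⁻¹ * y⁻¹ with hedef
    have hec : Commute e w := by
      obtain ⟨j, hj⟩ := mem_zpowers_iff.1 he
      rw [← hj]
      exact Commute.zpow_left (show Commute (S K) w from hwS.symm) j
    have h1 : w * y * w⁻¹ = e * y := by rw [hedef]; group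
    have h3 : e ^ 3 = 1 := by
      have h2 : w * (w * (w * y * w⁻¹) * w⁻¹) * w⁻¹ = e ^ 3 * y := by
        have mv : ∀ z : G, w * (e * z) * w⁻¹ = e * (w * z * w⁻¹) := fun z => by
          rw [← mul_assoc w, ← hec.eq]; group
        rw [h1, mv, h1, mv, mv, h1, pow_succ, pow_two]
        group
      rw [show w * (w * (w * y * w⁻¹) * w⁻¹) * w⁻¹ = w ^ 3 * y * (w ^ 3)⁻¹ by rw [pow_succ, pow_two]; group,
        hW3, one_mul, inv_one, mul_one] at h2
      exact mul_eq_right.1 h2.symm
    have he1 : e = 1 := by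
      have h7 := hseven he
      rwa [show e ^ 7 = e ^ 3 * e ^ 3 * e by group, h3, one_mul, one_mul] at h7
    rw [hedef, mul_inv_eq_one, mul_inv_eq_iff_eq_mul] at he1
    exact he1.symm
  have h49 : 49 ∣ Nat.card R := by
    obtain ⟨k, hk⟩ := IsPGroup.iff_card.1 (P.2.to_le (inf_le_left : R ≤ (P : Subgroup G)))
    rcases le_or_gt 2 k with h2 | h2
    · rw [hk]; exact (show (49 : ℕ) = 7 ^ 2 by norm_num) ▸ pow_dvd_pow 7 h2
    exfalso
    have hRS : R = zpowers (S K) := by
      refine (eq_of_le_of_card_ge (zpowers_le.2 (mem_inf.2 ⟨hSP, hSM⟩)) ?_).symm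
      rw [hk, Nat.card_zpowers, hSo]
      exact (Nat.pow_le_pow_right (by norm_num) (by omega)).trans (pow_one 7).le
    haveI : Nontrivial ↥(P : Subgroup G) := ⟨⟨⟨S K, hSP⟩, 1, fun h => hS1 (congrArg Subtype.val h)⟩⟩
    haveI := P.2.center_nontrivial
    obtain ⟨⟨⟨c, hcP⟩, hcc⟩, hc1⟩ := exists_ne (1 : ↥(center ↥(P : Subgroup G)))
    have hc : ∀ z ∈ (P : Subgroup G), z * c = c * z := fun z hz =>
      congrArg Subtype.val (mem_center_iff.1 hcc ⟨z, hz⟩)
    have hc1' : c ≠ 1 := fun e => hc1 (Subtype.ext (Subtype.ext e))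
    have hcR : c ∈ zpowers (S K) := hRS ▸ (mem_inf.2 ⟨hcP, mem_centralizer_singleton_iff.2 (hc _ hSP).symm⟩ : c ∈ R)
    have heq : zpowers c = zpowers (S K) := eq_of_le_of_card_ge (zpowers_le.2 hcR) (by
      rw [Nat.card_zpowers, Nat.card_zpowers, hSo, orderOf_eq_prime (hseven hcR) hc1'])
    obtain ⟨j, hj⟩ := mem_zpowers_iff.1 (heq.symm ▸ mem_zpowers (S K) : S K ∈ zpowers c)
    have hPR : (P : Subgroup G) ≤ R := fun z hz => mem_inf.2 ⟨hz, mem_centralizer_singleton_iff.2 (by
      rw [← hj]; exact (Commute.zpow_right (show Commute z c from hc z hz) j).eq)⟩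
    have h343 := card_le_of_le hPR
    rw [hP343, hRS, Nat.card_zpowers, hSo] at h343
    omega
  refine cent_bound hm F ?_
  have hRw : Nat.card R ∣ Nat.card (centralizer ({w} : Set G)) :=
    card_dvd_of_le fun y hy => mem_centralizer_singleton_iff.2 (hcomm y hy)
  have hsame : Nat.card (centralizer ({W K} : Set G)) = Nat.card (centralizer ({w} : Set G)) := by
    refine card_conj f fun y => ?_
    rw [mem_centralizer_singleton_iff, mem_centralizer_singleton_iff, hw]
    exact ⟨fun e => hconj f e, fun e => by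
      have := hconj f⁻¹ e
      simpa [mul_assoc] using this⟩
  rw [hsame]
  exact h49.trans hRw

end CfsgLib.Recog.Held.Kill
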