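import Cfsg.Agent.Lib.Recog.Held.Colour
import Cfsg.Agent.Lib.Recog.Held.KillDefs
import Mathlib.GroupTheory.GroupAction.Quotient

set_option autoImplicit false

/-!
The fusion pattern of `M24` does not occur in order 4030387200 (owner: helper22): a quaternion subgroup of order
16 of `C(t)` permutes the conjugates of `t` outside `C(t)` freely, so their number is divisible by 16.
-/

namespace CfsgLib.Recog.Held.Kill

open Subgroup MulAction

variable {G : Type*} [Group G] [Finite G] {t : G}

omit [Finite G] in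
/-- A group acting freely has order dividing the size of the set. -/
theorem card_dvd_of_free {A X : Type*} [Group A] [MulAction A X] [Finite A] [Finite X]
    (h : ∀ a : A, ∀ x : X, a • x = x → a = 1) : Nat.card A ∣ Nat.card X := by
  classical
  have := Fintype.ofFinite X
  have := Fintype.ofFinite (orbitRel.Quotient A X)
  rw [Nat.card_congr (MulAction.selfEquivSigmaOrbitsQuotientStabilizer A X), Nat.card_sigma]
  refine Finset.dvd_sum fun w _ => ?_
  rw [show stabilizer A w.out = ⊥ from (eq_bot_iff_forall _).2 fun a ha => h a _ (mem_stabilizer_iff.1 ha)]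
  exact dvd_of_eq (index_bot (G := A)).symm

omit [Finite G] in
/-- The conjugates of an element are counted by the index of its centraliser. -/
theorem card_conjugates (t : G) : Nat.card {x : G // IsConj x t} = (centralizer ({t} : Set G)).index := by
  rw [Subgroup.index]
  refine (Nat.card_congr (Equiv.ofBijective (Quotient.lift
    (fun g : G => (⟨g * t * g⁻¹, (isConj_iff.2 ⟨g, rfl⟩).symm⟩ : {x : G // IsConj x t})) ?_) ⟨?_, ?_⟩)).symm
  · intro a b hab
    have h := mem_centralizer_singleton_iff.1 (QuotientGroup.leftRel_apply.1 hab)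
    apply Subtype.ext
    calc a * t * a⁻¹ = a * (t * (a⁻¹ * b)) * b⁻¹ := by group
      _ = b * t * b⁻¹ := by rw [← h]; group
  · rintro ⟨a⟩ ⟨b⟩ hab
    refine Quotient.sound (QuotientGroup.leftRel_apply.2 (mem_centralizer_singleton_iff.2 ?_))
    have h : a * t * a⁻¹ = b * t * b⁻¹ := congrArg Subtype.val hab
    calc a⁻¹ * b * t = a⁻¹ * (b * t * b⁻¹) * b := by group
      _ = t * (a⁻¹ * b) := by rw [← h]; group
  · rintro ⟨x, hx⟩
    obtain ⟨g, hg⟩ := isConj_iff.1 hx.symm
    exact ⟨Quotient.mk'' g, Subtype.ext hg⟩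

variable (K : Coord t 0)

/-- The quaternion group. -/
noncomputable def quat : Subgroup G := Subgroup.closure {x | ∃ a ∈ qList, K.el a = x}

theorem q_spec {a : ℕ} (ha : a ∈ qList) : a < 21504 ∧
    (a = 0 ∨ a = 64 ∨ mulC 0 a a = 64 ∨ mulC 0 (mulC 0 a a) (mulC 0 a a) = 64) ∧
    ∀ b ∈ qList, mulC 0 a b ∈ qList := by
  have h := q_ok
  simp only [qOK, List.all_eq_true, Bool.and_eq_true, Bool.or_eq_true, Nat.blt_eq, Nat.beq_eq,
    List.any_eq_true] at h
  obtain ⟨h1, h2, h3⟩ := h a ha
  refine ⟨h1, by tauto, fun b hb => ?_⟩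
  obtain ⟨c, hc, e⟩ := h3 b hb
  exact e ▸ hc

theorem mem_quat {x : G} : x ∈ quat K ↔ ∃ a ∈ qList, K.el a = x := by
  refine ⟨fun hx => ?_, fun hx => subset_closure hx⟩
  let M : Submonoid G :=
    { carrier := {x | ∃ a ∈ qList, K.el a = x}
      one_mem' := ⟨0, by decide, K.el_zero (by norm_num)⟩
      mul_mem' := by
        rintro _ _ ⟨a, ha, rfl⟩ ⟨b, hb, rfl⟩
        exact ⟨mulC 0 a b, (q_spec ha).2.2 b hb, (K.el_mul a (q_spec ha).1 b (q_spec hb).1).symm⟩ }
  have hle : quat K ≤ ⟨M, fun {x} hx => ?_⟩ := (closure_le _).2 fun x hx => hx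
  · exact hle hx
  · show x⁻¹ ∈ M
    rw [show x⁻¹ = x ^ (orderOf x - 1) from inv_eq_of_mul_eq_one_right (by
      rw [← pow_succ', Nat.sub_add_cancel (orderOf_pos x), pow_orderOf_eq_one])]
    exact pow_mem hx _

theorem quat_comm {x : G} (hx : x ∈ quat K) : x * t = t * x := by
  obtain ⟨a, ha, rfl⟩ := (mem_quat K).1 hx
  exact K.mem a (q_spec ha).1

theorem card_quat : Nat.card (quat K) = 16 := by
  have hget : ∀ j < 16, qList.getD j 0 ∈ qList := by decide
  have hinj : ∀ i < 16, ∀ j < 16, qList.getD i 0 = qList.getD j 0 → i = j := by decide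
  refine (card_eq_countBelow (fun j => K.el (qList.getD j 0)) 16 (fun _ => true) (· ∈ quat K)
    (fun i hi j hj e => hinj i hi j hj (K.el_inj _ (q_spec (hget i hi)).1 _ (q_spec (hget j hj)).1 e))
    (fun j hj => iff_of_true rfl ((mem_quat K).2 ⟨_, hget j hj, rfl⟩)) fun x hx => ?_).trans ?_
  · obtain ⟨a, ha, rfl⟩ := (mem_quat K).1 hx
    obtain ⟨j, hj, rfl⟩ := List.getElem_of_mem ha
    exact ⟨j, hj, congrArg K.el (List.getD_eq_getElem _ 0 hj)⟩
  · rw [countBelow_eq, Finset.filter_true_of_mem (fun _ _ => rfl), Finset.card_range]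

/-- The conjugates of `t` outside `C(t)` come in regular orbits of the quaternion group. -/
theorem sixteen_dvd (K : Coord t 0) : 16 ∣ Nat.card {x : G // IsConj x t ∧ ¬ x * t = t * x} := by
  let _ : MulAction (quat K) {x : G // IsConj x t ∧ ¬ x * t = t * x} :=
    { smul := fun a x => ⟨a.1 * x.1 * a.1⁻¹, ((isConj_iff.2 ⟨a.1, rfl⟩).symm).trans x.2.1, fun h => x.2.2 (by
        have ha := quat_comm K a.2
        apply mul_left_cancel (a := a.1)
        calc a.1 * (x.1 * t) = a.1 * x.1 * a.1⁻¹ * (a.1 * t) := by group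
          _ = a.1 * x.1 * a.1⁻¹ * t * a.1 := by rw [ha]; group
          _ = t * (a.1 * x.1 * a.1⁻¹) * a.1 := by rw [h]
          _ = t * a.1 * x.1 := by group
          _ = a.1 * (t * x.1) := by rw [← ha]; group)⟩
      one_smul := fun x => Subtype.ext (by show (1 : G) * x.1 * (1 : G)⁻¹ = x.1; group)
      mul_smul := fun a b x => Subtype.ext (by
        show a.1 * b.1 * x.1 * (a.1 * b.1)⁻¹ = a.1 * (b.1 * x.1 * b.1⁻¹) * a.1⁻¹
        group) }
  rw [← card_quat K]
  refine card_dvd_of_free fun a x hax => ?_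
  have hc : Commute a.1 x.1 := mul_inv_eq_iff_eq_mul.1 (congrArg Subtype.val hax)
  obtain ⟨j, hj, he⟩ := (mem_quat K).1 a.2
  obtain ⟨hlt, hpow, -⟩ := q_spec hj
  have hsq : K.el j * K.el j = K.el (mulC 0 j j) := K.el_mul j hlt j hlt
  rw [← he] at hc
  have key : ∀ z : G, z = t → Commute z x.1 → False := fun z hz h => x.2.2 (by
    have e := h.eq
    simp only [hz] at e
    exact e.symm)
  rcases hpow with rfl | rfl | h | h
  · exact Subtype.ext (by rw [← he, K.el_zero (by norm_num)]; rfl)
  · exact (key _ K.el_t hc).elim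
  · exact (key _ (by rw [hsq, h, K.el_t]) (hc.mul_left hc)).elim
  · exact (key _ (by rw [hsq, K.el_mul _ (mulC_lt hlt j) _ (mulC_lt hlt j), h, K.el_t])
      ((hc.mul_left hc).mul_left (hc.mul_left hc))).elim

/-- The number of conjugates of `t` is congruent to the number of those in `C(t)`. -/
theorem card_conjugates_mod (K : Coord t 0) :
    Nat.card {x : G // IsConj x t} % 16 = countBelow 21504 (colM K.mask) % 16 := by
  classical
  have hsplit : Nat.card {x : G // IsConj x t} = Nat.card {x : G // IsConj x t ∧ x * t = t * x} +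
      Nat.card {x : G // IsConj x t ∧ ¬ x * t = t * x} := by
    rw [← Nat.card_sum]
    exact Nat.card_congr ((Equiv.sumCompl (fun x : {x : G // IsConj x t} => x.1 * t = t * x.1)).symm.trans
      (Equiv.sumCongr (Equiv.subtypeSubtypeEquivSubtypeInter (fun x : G => IsConj x t) fun x => x * t = t * x)
        (Equiv.subtypeSubtypeEquivSubtypeInter (fun x : G => IsConj x t) fun x => ¬ x * t = t * x)))
  have hin : Nat.card {x : G // IsConj x t ∧ x * t = t * x} = countBelow 21504 (colM K.mask) := by
    refine card_eq_countBelow K.el 21504 _ _ (fun a ha b hb => K.el_inj a ha b hb) (fun a ha => ?_) fun x hx =>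
      K.surj x hx.2
    rw [colM, Bool.and_eq_true, Nat.blt_eq, Nat.pos_iff_ne_zero, ← K.mask_spec (by norm_num) ha]
    exact ⟨fun h => ⟨h, K.mem a ha⟩, fun h => h.1⟩
  obtain ⟨m, hm⟩ := sixteen_dvd K
  omega

/-- The patterns of `M24` do not occur. -/
theorem not_mathieu (K : Coord t 0) (hG : Nat.card G = 4030387200) : K.mask ≠ 59 ∧ K.mask ≠ 91 := by
  have hC : Nat.card (centralizer ({t} : Set G)) = 21504 := by
    rw [← K.card_cent]
    exact Nat.card_congr (Equiv.subtypeEquivRight fun x => mem_centralizer_singleton_iff)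
  have h := (centralizer ({t} : Set G)).card_mul_index
  rw [hC, hG, ← card_conjugates] at h
  have hm := card_conjugates_mod K
  constructor <;> intro e <;> rw [e] at hm
  · rw [count_59] at hm; omega
  · rw [count_91] at hm; omega

end CfsgLib.Recog.Held.Kill
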