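import Cfsg.Agent.Lib.Recog.Held.LocalGlueData
import Cfsg.Agent.Lib.Recog.Held.CoordBasic

set_option autoImplicit false
set_option maxRecDepth 100000

/-!
Generation of `C(t)` by the nine standard codes and by the four letters of each gluing (owner: helper25).
-/

namespace CfsgLib.Recog.Held

/-- The standard codes. -/
def stdC : List ℕ := [1, 2, 4, 8, 16, 32, 64, 128, 256]

/-- The standard word of an element of the extraspecial subgroup. -/
noncomputable def qWord (q : ℕ) : ℕ :=
  Nat.rec (motive := fun _ => ℕ) 0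
    (fun j ih => cond (Nat.beq (field 1 q j) 1) (mulC 0 ih (2 ^ j)) ih) 7

/-- The standard word of a lift. -/
noncomputable def lWord (l : ℕ) : ℕ :=
  Nat.rec (motive := fun _ => ℕ) 0
    (fun k ih => mulC 0 ih (cond (Nat.beq (wordBit l k) 0) 128 256)) (wordLen l)

/-- The standard words are right. -/
noncomputable def stdOK : Bool :=
  allBelow 128 (fun q => Nat.beq (qWord q) q) && (allBelow 168 (fun l => Nat.beq (lWord l) (128 * l)) &&
    allBelow 168 fun l => allBelow 128 fun q => Nat.beq (mulC 0 q (128 * l)) (q + 128 * l))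

theorem std_ok : stdOK = true := by decide +kernel

/-- The product of listed codes. -/
noncomputable def codeProd (cg : List ℕ) : List ℕ → ℕ
  | [] => 0
  | x :: w => mulC 0 (cg.getD x 0) (codeProd cg w)

/-- Words in the letters giving the standard codes. -/
def genWords27 : List (List ℕ) :=
  [[2, 1, 2, 0, 2, 0, 1, 2], [1, 2, 0, 2, 0, 1], [3, 0, 1, 2, 0, 2, 0, 1, 0, 3], [2, 3, 1, 3, 0, 2, 1, 0, 1, 0],
    [1, 0, 3, 0, 1, 0, 3, 0], [3, 1, 0, 3, 0, 1, 3, 0], [3, 0, 3, 0, 3, 0], [1, 2, 3, 2, 3, 2, 0, 3, 1, 3, 0],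
    [0, 3, 2, 3, 2, 1, 0, 3, 1, 0]]

/-- Words in the letters giving the standard codes. -/
def genWords91 : List (List ℕ) :=
  [[2, 1, 2, 0, 2, 0, 1, 2], [0, 1, 2, 0, 2, 0, 1, 0], [2, 3, 2, 0, 2, 0, 3, 2], [3, 1, 0, 3, 0, 3, 0, 1],
    [1, 0, 2, 3, 0, 3, 1, 0, 3, 2, 1, 0], [2, 1, 0, 2, 1, 0, 2, 1, 0], [2, 1, 2, 1, 2, 1],
    [3, 2, 3, 0, 1, 2, 0, 3, 2], [3, 0, 3, 1, 2, 0, 3, 0, 2]]

/-- The letters give the standard codes. -/
noncomputable def genOK (cg : List ℕ) (W : List (List ℕ)) : Bool :=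
  allBelow 4 (fun x => Nat.blt (cg.getD x 0) 21504) &&
    allBelow 9 fun k => (W.getD k []).all (fun x => Nat.blt x 4) && Nat.beq (codeProd cg (W.getD k [])) (stdC.getD k 0)

theorem gen_ok27 : genOK glue27.cg genWords27 = true := by decide +kernel

theorem gen_ok91 : genOK glue91.cg genWords91 = true := by decide +kernel

variable {G : Type*} [Group G] {t : G} (K : Coord t 0)

/-- A subgroup with the standard codes contains `C(t)`. -/
theorem cent_le_of_std {M : Subgroup G} (h : ∀ k < 9, K.el (stdC.getD k 0) ∈ M) :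
    Subgroup.centralizer {t} ≤ M := by
  have hs := std_ok
  simp only [stdOK, Bool.and_eq_true, allBelow_spec, Nat.beq_eq] at hs
  obtain ⟨hq, hl, hsum⟩ := hs
  have hbit : ∀ j < 7, K.el (2 ^ j) ∈ M := fun j hj => by
    have := h j (by omega)
    interval_cases j <;> exact this
  have hQ : ∀ n ≤ 7, ∀ q < 128, (Nat.rec (motive := fun _ => ℕ) 0
      (fun j ih => cond (Nat.beq (field 1 q j) 1) (mulC 0 ih (2 ^ j)) ih) n) < 21504 ∧
      K.el (Nat.rec (motive := fun _ => ℕ) 0
        (fun j ih => cond (Nat.beq (field 1 q j) 1) (mulC 0 ih (2 ^ j)) ih) n) ∈ M := by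
    intro n
    induction n with
    | zero => exact fun _ q _ => ⟨by norm_num, by show K.el 0 ∈ M; rw [K.el_zero (by norm_num)]; exact one_mem M⟩
    | succ n ih =>
      intro hn q hq
      obtain ⟨a, b⟩ := ih (by omega) q hq
      show cond (Nat.beq (field 1 q n) 1) (mulC 0 _ (2 ^ n)) _ < 21504 ∧
        K.el (cond (Nat.beq (field 1 q n) 1) (mulC 0 _ (2 ^ n)) _) ∈ M
      have hp : 2 ^ n < 21504 := lt_of_lt_of_le (Nat.pow_lt_pow_right one_lt_two (by omega : n < 7)) (by norm_num)
      cases Nat.beq (field 1 q n) 1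
      · exact ⟨a, b⟩
      · exact ⟨mulC_lt a _, by rw [cond_true, ← K.el_mul _ a _ hp]; exact mul_mem b (hbit n (by omega))⟩
  have hL : ∀ n l, (Nat.rec (motive := fun _ => ℕ) 0
      (fun k ih => mulC 0 ih (cond (Nat.beq (wordBit l k) 0) 128 256)) n) < 21504 ∧
      K.el (Nat.rec (motive := fun _ => ℕ) 0
        (fun k ih => mulC 0 ih (cond (Nat.beq (wordBit l k) 0) 128 256)) n) ∈ M := by
    intro n l
    induction n with
    | zero => exact ⟨by norm_num, by show K.el 0 ∈ M; rw [K.el_zero (by norm_num)]; exact one_mem M⟩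
    | succ n ih =>
      obtain ⟨a, b⟩ := ih
      show mulC 0 _ (cond (Nat.beq (wordBit l n) 0) 128 256) < 21504 ∧
        K.el (mulC 0 _ (cond (Nat.beq (wordBit l n) 0) 128 256)) ∈ M
      refine ⟨mulC_lt a _, ?_⟩
      cases Nat.beq (wordBit l n) 0
      · rw [cond_false, ← K.el_mul _ a 256 (by norm_num)]
        exact mul_mem b (h 8 (by norm_num))
      · rw [cond_true, ← K.el_mul _ a 128 (by norm_num)]
        exact mul_mem b (h 7 (by norm_num))
  intro g hg
  obtain ⟨c, hc, rfl⟩ := K.surj g (Subgroup.mem_centralizer_singleton_iff.1 hg)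
  have e1 : K.el (c % 128) ∈ M := by rw [← hq (c % 128) (by omega)]; exact (hQ 7 le_rfl _ (by omega)).2
  have e2 : K.el (128 * (c / 128)) ∈ M := by rw [← hl (c / 128) (by omega)]; exact (hL _ _).2
  have := mul_mem e1 e2
  rwa [K.el_mul _ (by omega) _ (by omega), hsum (c / 128) (by omega) (c % 128) (by omega),
    Nat.mod_add_div c 128] at this

/-- The four letters generate `C(t)`. -/
theorem closure_eq_cent {cg : List ℕ} {W : List (List ℕ)} (hok : genOK cg W = true) :
    Subgroup.closure {g | ∃ x < 4, g = K.el (cg.getD x 0)} = Subgroup.centralizer {t} := by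
  simp only [genOK, Bool.and_eq_true, allBelow_spec, Nat.blt_eq, List.all_eq_true, Nat.beq_eq] at hok
  obtain ⟨hcg, hW⟩ := hok
  refine le_antisymm ((Subgroup.closure_le _).2 ?_) (cent_le_of_std K fun k hk => ?_)
  · rintro _ ⟨x, hx, rfl⟩
    exact Subgroup.mem_centralizer_singleton_iff.2 (K.mem _ (hcg x hx))
  · obtain ⟨hw, he⟩ := hW k hk
    rw [← he]
    suffices H : ∀ w : List ℕ, (∀ x ∈ w, x < 4) → codeProd cg w < 21504 ∧
        K.el (codeProd cg w) ∈ Subgroup.closure {g | ∃ x < 4, g = K.el (cg.getD x 0)} from (H _ hw).2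
    intro w
    induction w with
    | nil => exact fun _ => ⟨by norm_num [codeProd], by
        rw [codeProd, K.el_zero (by norm_num)]; exact one_mem _⟩
    | cons x w ih =>
      intro hv
      obtain ⟨a, b⟩ := ih fun y hy => hv y (List.mem_cons_of_mem _ hy)
      have hx := hv x List.mem_cons_self
      refine ⟨mulC_lt (hcg x hx) _, ?_⟩
      rw [codeProd, ← K.el_mul _ (hcg x hx) _ a]
      exact mul_mem (Subgroup.subset_closure ⟨x, hx, rfl⟩) b

end CfsgLib.Recog.Held
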