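import Cfsg.Agent.Lib.Recog.Held.SLCoord
import Cfsg.Agent.Lib.Recog.Held.LocalGen
import Mathlib.LinearAlgebra.Matrix.GeneralLinearGroup.Card
import Mathlib.LinearAlgebra.Matrix.ToLinearEquiv
import Mathlib.Algebra.Field.ZMod

set_option autoImplicit false
set_option maxRecDepth 100000

/-!
The centraliser of a transvection in `SL(5, 2)` in the coordinates of candidate 0, and transport of the
coordinates along an isomorphism of centralisers (owner: helper25).
-/

namespace CfsgLib.Recog.Held.SL5

open Matrix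

/-- The transvection code. -/
theorem phi_64 : phi 64 = Matrix.transvection 0 1 1 := by
  have h := sl_ok
  simp only [slOK, Bool.and_eq_true, Nat.beq_eq] at h
  rw [phi, h.2.2.2.2.2.2.1]
  ext i j
  simp only [toM, Matrix.transvection, Matrix.add_apply, Matrix.one_apply, Matrix.single_apply,
    field_eq', Nat.testBit_eq_decide_div_mod_eq]
  fin_cases i <;> fin_cases j <;> decide

/-- The only nonidentity code commuting with the nine standard codes is the central involution. -/
theorem central_ok : allBelow 21504 (fun x => Nat.beq x 0 || (Nat.beq x 64 ||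
    !allBelow 9 fun k => Nat.beq (mulC 0 x (stdC.getD k 0)) (mulC 0 (stdC.getD k 0) x))) = true := by
  decide +kernel

theorem central_64 : allBelow 21504 (fun x => Nat.beq (mulC 0 x 64) (mulC 0 64 x)) = true := by
  decide +kernel

/-- The entries of a matrix commuting with the transvection, and its free part. -/
theorem cent_entries {A : SpecialLinearGroup (Fin 5) (ZMod 2)}
    (hA : (A : Matrix (Fin 5) (Fin 5) (ZMod 2)) * Matrix.transvection 0 1 1 =
      Matrix.transvection 0 1 1 * (A : Matrix (Fin 5) (Fin 5) (ZMod 2))) :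
    A 0 0 = 1 ∧ A 1 1 = 1 ∧ (∀ i, i ≠ 0 → A i 0 = 0) ∧ (∀ j, j ≠ 1 → A 1 j = 0) := by
  rw [Matrix.transvection, mul_add, add_mul, mul_one, one_mul, add_right_inj] at hA
  have e : ∀ i j, (if j = 1 then A i 0 else 0) = if i = 0 then A 1 j else 0 := by
    intro i j
    have := congrFun (congrFun hA i) j
    simpa [Matrix.mul_apply, Matrix.single_apply, ite_and, eq_comm] using this
  have h1 : ∀ i, i ≠ 0 → A i 0 = 0 := fun i hi => by simpa [hi] using e i 1
  have h2 : ∀ j, j ≠ 1 → A 1 j = 0 := fun j hj => by simpa [hj] using (e 0 j).symm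
  have h3 : A 0 0 = A 1 1 := by simpa using e 0 1
  have h4 : A 0 0 = 1 := by
    rcases (by decide : ∀ a : ZMod 2, a = 0 ∨ a = 1) (A 0 0) with h | h
    · exfalso
      have hz := Matrix.det_eq_zero_of_column_eq_zero (A := (A : Matrix (Fin 5) (Fin 5) (ZMod 2))) 0
        fun i => by by_cases hi : i = 0 <;> [(rw [hi]; exact h); exact h1 i hi]
      rw [A.2] at hz
      exact one_ne_zero hz
    · exact h
  exact ⟨h4, by rw [← h3, h4], h1, h2⟩

theorem cancel6 : ∀ x y z : ZMod 2, x + y + z + x + y + z = 0 := by decide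

/-- At most `128 * 168` matrices commute with the transvection. -/
theorem card_cent_le [Fact (Nat.Prime 2)] (s : SpecialLinearGroup (Fin 5) (ZMod 2))
    (hs : (s : Matrix (Fin 5) (Fin 5) (ZMod 2)) = Matrix.transvection 0 1 1) :
    Nat.card (Subgroup.centralizer ({s} : Set (SpecialLinearGroup (Fin 5) (ZMod 2)))) ≤ 21504 := by
  classical
  have hent : ∀ A : Subgroup.centralizer ({s} : Set (SpecialLinearGroup (Fin 5) (ZMod 2))),
      A.1 0 0 = 1 ∧ A.1 1 1 = 1 ∧ (∀ i, i ≠ 0 → A.1 i 0 = 0) ∧ (∀ j, j ≠ 1 → A.1 1 j = 0) := fun A => by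
    refine cent_entries ?_
    rw [← hs, ← SpecialLinearGroup.coe_mul, ← SpecialLinearGroup.coe_mul,
      Subgroup.mem_centralizer_singleton_iff.1 A.2]
  let b : Fin 3 → Fin 5 := fun k => ⟨k + 2, by omega⟩
  let B : Subgroup.centralizer ({s} : Set (SpecialLinearGroup (Fin 5) (ZMod 2))) →
      Matrix (Fin 3) (Fin 3) (ZMod 2) := fun A => Matrix.of fun k l => A.1 (b k) (b l)
  have hdet : ∀ A, (B A).det ≠ 0 := by
    intro A h0
    obtain ⟨v, hv, hvB⟩ := Matrix.exists_vecMul_eq_zero_iff.2 h0
    obtain ⟨h00, h11, hc, hr⟩ := hent A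
    have hB : ∀ l, v 0 * A.1 2 (b l) + v 1 * A.1 3 (b l) + v 2 * A.1 4 (b l) = 0 := fun l => by
      simpa [Matrix.vecMul, dotProduct, Fin.sum_univ_three, B, b] using congrFun hvB l
    have hz : Matrix.det (A.1 : Matrix (Fin 5) (Fin 5) (ZMod 2)) = 0 :=
      Matrix.exists_vecMul_eq_zero_iff.1
        ⟨![0, v 0 * A.1 2 1 + v 1 * A.1 3 1 + v 2 * A.1 4 1, v 0, v 1, v 2], fun e => hv (funext fun k => by
          fin_cases k
          · simpa using congrFun e 2
          · simpa using congrFun e 3
          · simpa using congrFun e 4), by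
        funext j
        simp only [Matrix.vecMul, dotProduct, Fin.sum_univ_five, Pi.zero_apply]
        show 0 * A.1 0 j + (v 0 * A.1 2 1 + v 1 * A.1 3 1 + v 2 * A.1 4 1) * A.1 1 j + v 0 * A.1 2 j +
          v 1 * A.1 3 j + v 2 * A.1 4 j = 0
        rw [zero_mul, zero_add]
        by_cases hj0 : j = 0
        · subst hj0
          rw [hc 1 (by decide), hc 2 (by decide), hc 3 (by decide), hc 4 (by decide)]
          simp
        by_cases hj1 : j = 1
        · subst hj1
          rw [h11, mul_one]
          exact cancel6 _ _ _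
        have hj : j = b 0 ∨ j = b 1 ∨ j = b 2 := by
          revert hj0 hj1
          fin_cases j <;> decide
        rw [hr j hj1, mul_zero, zero_add]
        rcases hj with rfl | rfl | rfl
        · exact hB 0
        · exact hB 1
        · exact hB 2⟩
    rw [A.1.2] at hz
    exact one_ne_zero hz
  refine (Nat.card_le_card_of_injective
    (fun A => ((fun k : Fin 7 => ![A.1 0 1, A.1 0 2, A.1 0 3, A.1 0 4, A.1 2 1, A.1 3 1, A.1 4 1] k),
      ((Matrix.isUnit_iff_isUnit_det (B A)).2 (isUnit_iff_ne_zero.2 (hdet A))).unit)) ?_).trans ?_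
  · intro A A' e
    have e1 := congrArg Prod.fst e
    have e2 : B A = B A' := Units.ext_iff.1 (congrArg Prod.snd e)
    have eB : ∀ k l, A.1 (b k) (b l) = A'.1 (b k) (b l) := fun k l =>
      congrFun (congrFun e2 k) l
    obtain ⟨p00, p11, pc, pr⟩ := hent A
    obtain ⟨q00, q11, qc, qr⟩ := hent A'
    apply Subtype.ext
    ext i j
    have g01 : A.1 0 1 = A'.1 0 1 := congrFun e1 0
    have g02 : A.1 0 2 = A'.1 0 2 := congrFun e1 1
    have g03 : A.1 0 3 = A'.1 0 3 := congrFun e1 2
    have g04 : A.1 0 4 = A'.1 0 4 := congrFun e1 3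
    have g21 : A.1 2 1 = A'.1 2 1 := congrFun e1 4
    have g31 : A.1 3 1 = A'.1 3 1 := congrFun e1 5
    have g41 : A.1 4 1 = A'.1 4 1 := congrFun e1 6
    have g22 : A.1 2 2 = A'.1 2 2 := eB 0 0
    have g23 : A.1 2 3 = A'.1 2 3 := eB 0 1
    have g24 : A.1 2 4 = A'.1 2 4 := eB 0 2
    have g32 : A.1 3 2 = A'.1 3 2 := eB 1 0
    have g33 : A.1 3 3 = A'.1 3 3 := eB 1 1
    have g34 : A.1 3 4 = A'.1 3 4 := eB 1 2
    have g42 : A.1 4 2 = A'.1 4 2 := eB 2 0
    have g43 : A.1 4 3 = A'.1 4 3 := eB 2 1
    have g44 : A.1 4 4 = A'.1 4 4 := eB 2 2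
    have g10 : A.1 1 0 = A'.1 1 0 := (pc 1 (by decide)).trans (qc 1 (by decide)).symm
    have g20 : A.1 2 0 = A'.1 2 0 := (pc 2 (by decide)).trans (qc 2 (by decide)).symm
    have g30 : A.1 3 0 = A'.1 3 0 := (pc 3 (by decide)).trans (qc 3 (by decide)).symm
    have g40 : A.1 4 0 = A'.1 4 0 := (pc 4 (by decide)).trans (qc 4 (by decide)).symm
    have g00 : A.1 0 0 = A'.1 0 0 := p00.trans q00.symm
    have g11 : A.1 1 1 = A'.1 1 1 := p11.trans q11.symm
    have g12 : A.1 1 2 = A'.1 1 2 := (pr 2 (by decide)).trans (qr 2 (by decide)).symm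
    have g13 : A.1 1 3 = A'.1 1 3 := (pr 3 (by decide)).trans (qr 3 (by decide)).symm
    have g14 : A.1 1 4 = A'.1 1 4 := (pr 4 (by decide)).trans (qr 4 (by decide)).symm
    have key : ∀ k : Fin 5, k = 0 ∨ k = 1 ∨ k = 2 ∨ k = 3 ∨ k = 4 := by decide
    rcases key i with rfl | rfl | rfl | rfl | rfl <;> rcases key j with rfl | rfl | rfl | rfl | rfl <;> assumption
  · rw [Nat.card_prod, Nat.card_fun, Matrix.card_GL_field, Fin.prod_univ_three]
    simp

end CfsgLib.Recog.Held.SL5

namespace CfsgLib.Recog.Held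

open SL5

/-- The coordinates on the centraliser of a transvection in `SL(5, 2)`. -/
noncomputable def slCoord (s : Matrix.SpecialLinearGroup (Fin 5) (ZMod 2))
    (hs : (s : Matrix (Fin 5) (Fin 5) (ZMod 2)) = Matrix.transvection 0 1 1) : Coord s 0 :=
  have h64 : el 64 = s := Subtype.ext (by rw [el_val (by norm_num), phi_64, hs])
  have hmem : ∀ x < 21504, el x * s = s * el x := fun x hx => by
    rw [← h64, el_mul hx (by norm_num), el_mul (by norm_num) hx,
      Nat.eq_of_beq_eq_true (allBelow_spec.1 central_64 x hx)]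
  { el := el
    mem := hmem
    el_mul := fun _ hx _ hy => el_mul hx hy
    el_inj := fun _ hx _ hy => el_inj hx hy
    el_t := h64
    surj := fun g hg => by
      let f : Fin 21504 → Subgroup.centralizer ({s} : Set (Matrix.SpecialLinearGroup (Fin 5) (ZMod 2))) :=
        fun x => ⟨el x, Subgroup.mem_centralizer_singleton_iff.2 (hmem x x.2)⟩
      have hf : Function.Injective f := fun x y e =>
        Fin.ext (el_inj x.2 y.2 (congrArg Subtype.val e))
      have hb := hf.bijective_of_nat_card_le (by rw [Nat.card_fin]; exact @card_cent_le ⟨Nat.prime_two⟩ s hs)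
      obtain ⟨x, hx⟩ := hb.2 ⟨g, Subgroup.mem_centralizer_singleton_iff.2 hg⟩
      exact ⟨x, x.2, congrArg Subtype.val hx⟩ }

/-- A central involution of the centraliser of the coordinates is the centre element. -/
theorem Coord.eq_t {H : Type*} [Group H] {t : H} (K : Coord t 0) {x : H} (hx : x * t = t * x) (h1 : x ≠ 1)
    (hc : ∀ g, g * t = t * g → x * g = g * x) : x = t := by
  obtain ⟨c, hclt, rfl⟩ := K.surj x hx
  have h := allBelow_spec.1 central_ok c hclt
  simp only [Bool.or_eq_true, Nat.beq_eq, Bool.not_eq_true'] at h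
  rcases h with h | h | h
  · subst h; exact absurd (K.el_zero (by norm_num)) h1
  · subst h; exact K.el_t
  · exfalso
    rw [Bool.eq_false_iff] at h
    refine h (allBelow_spec.2 fun k hk => ?_)
    rw [Nat.beq_eq]
    have hk2 : stdC.getD k 0 < 21504 := by interval_cases k <;> decide
    exact K.el_inj _ (mulC_lt hclt _) _ (mulC_lt hk2 _) (by
      rw [← K.el_mul _ hclt _ hk2, ← K.el_mul _ hk2 _ hclt]; exact hc _ (K.mem _ hk2))

/-- Coordinates pulled back along an isomorphism of centralisers. -/
noncomputable def Coord.pull {G H : Type*} [Group G] [Group H] {s : H} (K : Coord s 0) {j : G} (hj : j ≠ 1)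
    (e : Subgroup.centralizer ({j} : Set G) ≃* Subgroup.centralizer ({s} : Set H)) : Coord j 0 :=
  have hmem : ∀ x < 21504, K.el x ∈ Subgroup.centralizer ({s} : Set H) := fun x hx =>
    Subgroup.mem_centralizer_singleton_iff.2 (K.mem x hx)
  { el := fun x => if h : x < 21504 then (e.symm ⟨K.el x, hmem x h⟩ : G) else 1
    mem := fun x hx => by
      rw [dif_pos hx]
      exact Subgroup.mem_centralizer_singleton_iff.1 (e.symm ⟨K.el x, hmem x hx⟩).2
    el_mul := fun x hx y hy => by
      rw [dif_pos hx, dif_pos hy, dif_pos (mulC_lt hx y), ← Subgroup.coe_mul, ← map_mul]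
      exact congrArg (fun z => (e.symm z : G)) (Subtype.ext (K.el_mul x hx y hy))
    el_inj := fun x hx y hy h => by
      rw [dif_pos hx, dif_pos hy] at h
      exact K.el_inj x hx y hy (congrArg Subtype.val (e.symm.injective (Subtype.ext h)))
    surj := fun g hg => by
      obtain ⟨x, hx, h⟩ := K.surj _ (Subgroup.mem_centralizer_singleton_iff.1
        (e ⟨g, Subgroup.mem_centralizer_singleton_iff.2 hg⟩).2)
      refine ⟨x, hx, ?_⟩
      rw [dif_pos hx]
      simp only [h, Subtype.coe_eta, MulEquiv.symm_apply_apply]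
    el_t := by
      rw [dif_pos (by norm_num : (64 : ℕ) < 21504)]
      let j' : Subgroup.centralizer ({j} : Set G) := ⟨j, Subgroup.mem_centralizer_singleton_iff.2 rfl⟩
      have h : ((e j' : Subgroup.centralizer ({s} : Set H)) : H) = s := by
        refine K.eq_t (Subgroup.mem_centralizer_singleton_iff.1 (e j').2) ?_ ?_
        · intro h1
          have : e j' = 1 := Subtype.ext h1
          exact hj (congrArg Subtype.val (e.map_eq_one_iff.1 this))
        · intro g hg
          have hj' : j' * e.symm ⟨g, Subgroup.mem_centralizer_singleton_iff.2 hg⟩ =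
              e.symm ⟨g, Subgroup.mem_centralizer_singleton_iff.2 hg⟩ * j' :=
            Subtype.ext (Subgroup.mem_centralizer_singleton_iff.1
              (e.symm ⟨g, Subgroup.mem_centralizer_singleton_iff.2 hg⟩).2).symm
          have := congrArg e hj'
          rw [map_mul, map_mul, MulEquiv.apply_symm_apply] at this
          exact congrArg Subtype.val this
      have e64 : (⟨K.el 64, hmem 64 (by norm_num)⟩ : Subgroup.centralizer ({s} : Set H)) = e j' :=
        Subtype.ext (K.el_t.trans h.symm)
      rw [e64, MulEquiv.symm_apply_apply] }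

end CfsgLib.Recog.Held
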