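import Cfsg.Agent.Lib.Recog.Held.LocalOrder
import Cfsg.Agent.Lib.Recog.Held.SLCentral
import Cfsg.Agent.Lib.Classical.LinearOrder

set_option autoImplicit false
set_option maxRecDepth 100000

/-!
The pattern of `L5(2)` gives `SL(5, 2)` (owner: helper25).
-/

namespace CfsgLib.Recog.Held

open Matrix

/-- The packed matrix of a letter. -/
noncomputable def slLetCode (x : ℕ) : ℕ := cond (Nat.blt x 4) (slMat (glue27.cg.getD x 0)) slN

/-- The letters satisfy the relators. -/
theorem slRels_ok : (SporBound.HeldL5.cert.rels.all fun w =>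
    Nat.beq (w.foldr (fun x r => m5 (slLetCode x) r) i5) i5) = true := by decide +kernel

theorem slN_ne : Nat.beq slN i5 = false := by decide +kernel

theorem slN_lt : slN < 2 ^ 25 := by decide +kernel

theorem i5_lt : i5 < 2 ^ 25 := by decide +kernel

theorem relsL5_square : ∀ y < 5, [y, y] ∈ SporBound.HeldL5.cert.rels := by decide +kernel

theorem slN_det : (SL5.toM slN).det = 1 := by
  have h := List.all_eq_true.1 slRels_ok _ (relsL5_square 4 (by norm_num))
  have e := congrArg SL5.toM (Nat.eq_of_beq_eq_true h)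
  simp only [List.foldr, SL5.toM_m5, SL5.toM_i5, mul_one] at e
  have e' := congrArg Matrix.det e
  rw [show slLetCode 4 = slN from rfl, Matrix.det_mul, Matrix.det_one] at e'
  exact (by decide : ∀ a : ZMod 2, a * a = 1 → a = 1) _ e'

/-- The letter outside the centraliser in `SL(5, 2)`. -/
noncomputable def slLast : SpecialLinearGroup (Fin 5) (ZMod 2) := ⟨SL5.toM slN, slN_det⟩

/-- The five letters in `SL(5, 2)`. -/
noncomputable def slLetters (x : ℕ) : SpecialLinearGroup (Fin 5) (ZMod 2) :=
  if x < 4 then SL5.el (glue27.cg.getD x 0) else slLast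

theorem cg27_lt : ∀ x < 4, glue27.cg.getD x 0 < 21504 := by decide +kernel

theorem slLetters_val (x : ℕ) :
    (slLetters x : Matrix (Fin 5) (Fin 5) (ZMod 2)) = SL5.toM (slLetCode x) := by
  by_cases hx : x < 4
  · rw [slLetters, if_pos hx, SL5.el_val (cg27_lt x hx), slLetCode,
      show Nat.blt x 4 = true by rw [Nat.blt_eq]; exact hx, cond_true]
    rfl
  · rw [slLetters, if_neg hx, slLetCode, show Nat.blt x 4 = false from Bool.eq_false_iff.2 (fun h => hx (by rwa [Nat.blt_eq] at h)),
      cond_false]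
    rfl

theorem slLetters_rels : ∀ w ∈ relsL5, (w.map slLetters).prod = 1 := by
  intro w hw
  have hval : ∀ w : List ℕ, (((w.map slLetters).prod : SpecialLinearGroup (Fin 5) (ZMod 2)) :
      Matrix (Fin 5) (Fin 5) (ZMod 2)) = SL5.toM (w.foldr (fun x r => m5 (slLetCode x) r) i5) := by
    intro w
    induction w with
    | nil => simp [SL5.toM_i5]
    | cons x w ih =>
      rw [List.map_cons, List.prod_cons, List.foldr_cons, SL5.toM_m5, ← slLetters_val, ← ih]
      exact Matrix.SpecialLinearGroup.coe_mul (slLetters x) _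
  apply Subtype.ext
  rw [hval, Nat.eq_of_beq_eq_true (List.all_eq_true.1 slRels_ok w hw), SL5.toM_i5]
  rfl

theorem card_SL52 : Nat.card (SpecialLinearGroup (Fin 5) (ZMod 2)) = 9999360 := by
  have : Fact (Nat.Prime 2) := ⟨Nat.prime_two⟩
  have h := CfsgLib.Classical.card_SL (F := ZMod 2) 5 (by norm_num)
  rw [Fin.prod_univ_five, ZMod.card] at h
  generalize Nat.card (SpecialLinearGroup (Fin 5) (ZMod 2)) = N at h ⊢
  norm_num at h
  exact h

variable {G : Type*} [Group G] [Finite G] {t : G} (K : Coord t 0)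

omit [Finite G] in
/-- The coordinates give a homomorphism from `C(t)` to `SL(5, 2)`. -/
theorem exists_centHom : ∃ φ : Subgroup.centralizer ({t} : Set G) →* SpecialLinearGroup (Fin 5) (ZMod 2),
    ∀ x, ∀ hx : x < 21504, φ ⟨K.el x, Subgroup.mem_centralizer_singleton_iff.2 (K.mem x hx)⟩ = SL5.el x := by
  have h : ∀ g : Subgroup.centralizer ({t} : Set G), ∃ x < 21504, K.el x = g :=
    fun g => K.surj g (Subgroup.mem_centralizer_singleton_iff.1 g.2)
  choose c hc hcg using h
  refine ⟨MonoidHom.mk' (fun g => SL5.el (c g)) fun g g' => ?_, fun x hx => ?_⟩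
  · show SL5.el (c (g * g')) = SL5.el (c g) * SL5.el (c g')
    rw [SL5.el_mul (hc g) (hc g')]
    congr 1
    refine K.el_inj _ (hc _) _ (mulC_lt (hc g) _) ?_
    rw [hcg, ← K.el_mul _ (hc g) _ (hc g'), hcg, hcg]
    rfl
  · show SL5.el (c _) = SL5.el x
    congr 1
    exact K.el_inj _ (hc _) x hx (hcg _)

/-- The pattern of `L5(2)` gives `SL(5, 2)`. -/
theorem iso_27 [IsSimpleGroup G] (hS : ∃ Q : Sylow 2 G, (Q : Subgroup G) ≤ Subgroup.centralizer {t})
    (hm : K.mask = 27) : Nonempty (G ≃* SpecialLinearGroup (Fin 5) (ZMod 2)) := by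
  classical
  obtain ⟨hG, m, hrel, htop⟩ := order_27 hS hm
  obtain ⟨φ, hφ⟩ := exists_centHom K
  let p : ℕ → G × SpecialLinearGroup (Fin 5) (ZMod 2) := fun x => (letters K glue27 m x, slLetters x)
  have hp : ∀ w ∈ relsL5, (w.map p).prod = 1 := by
    intro w hw
    apply Prod.ext
    · have := map_list_prod (MonoidHom.fst G (SpecialLinearGroup (Fin 5) (ZMod 2))) (w.map p)
      rw [List.map_map] at this
      exact this.trans (hrel w hw)
    · have := map_list_prod (MonoidHom.snd G (SpecialLinearGroup (Fin 5) (ZMod 2))) (w.map p)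
      rw [List.map_map] at this
      exact this.trans (slLetters_rels w hw)
  have inv : ∀ x < 5, p x * p x = 1 := fun x hx => by simpa using hp [x, x] (relsL5_square x hx)
  let f := (Subgroup.centralizer ({t} : Set G)).subtype.prod φ
  have hfinj : Function.Injective f := fun a b h => Subtype.ext (congrArg Prod.fst h)
  obtain ⟨C, hCdef⟩ : ∃ C, C = Subgroup.closure {g | ∃ x < 4, g = p x} := ⟨_, rfl⟩
  have hfp : ∀ x, ∀ hx : x < 4, f ⟨K.el (glue27.cg.getD x 0),
      Subgroup.mem_centralizer_singleton_iff.2 (K.mem _ (cg27_lt x hx))⟩ = p x := fun x hx => by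
    refine Prod.ext ?_ ?_
    · show K.el _ = letters K glue27 m x
      rw [letters, if_pos hx]
    · show φ _ = slLetters x
      rw [hφ _ (cg27_lt x hx), slLetters, if_pos hx]
  have hC : C = f.range := by
    refine le_antisymm ?_ ?_
    · rw [hCdef, Subgroup.closure_le]
      rintro _ ⟨x, hx, rfl⟩
      exact ⟨_, hfp x hx⟩
    · rintro _ ⟨g, rfl⟩
      have hle : Subgroup.centralizer ({t} : Set G) ≤ (C.comap f).map (Subgroup.subtype _) := by
        refine le_trans (ge_of_eq (closure_eq_cent K gen_ok27)) ((Subgroup.closure_le _).2 ?_)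
        rintro _ ⟨x, hx, rfl⟩
        refine ⟨⟨K.el _, Subgroup.mem_centralizer_singleton_iff.2 (K.mem _ (cg27_lt x hx))⟩, ?_, rfl⟩
        show f _ ∈ C
        rw [hfp x hx, hCdef]
        exact Subgroup.subset_closure ⟨x, hx, rfl⟩
      obtain ⟨g', hg', e⟩ := hle g.2
      obtain rfl : g' = g := Subtype.ext e
      exact hg'
  have hcardC : Nat.card C = 21504 := by
    rw [hC, Nat.card_congr (MonoidHom.ofInjective hfinj).toEquiv.symm, ← K.card_cent]
    exact Nat.card_congr (Equiv.subtypeEquivRight fun x => Subgroup.mem_centralizer_singleton_iff)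
  obtain ⟨D, hD⟩ : ∃ D, D = Subgroup.closure {g | ∃ x < 5, g = p x} := ⟨_, rfl⟩
  let q : D →* G := (MonoidHom.fst G _).comp D.subtype
  have hq : Function.Surjective q := by
    rw [← MonoidHom.range_eq_top, eq_top_iff, ← htop, Subgroup.closure_le]
    rintro _ ⟨x, hx, rfl⟩
    exact ⟨⟨p x, hD ▸ Subgroup.subset_closure ⟨x, hx, rfl⟩⟩, rfl⟩
  have hCD : C ≤ D := by
    rw [hCdef, hD]
    refine Subgroup.closure_mono ?_
    rintro g ⟨x, hx, rfl⟩
    exact ⟨x, by omega, rfl⟩
  have hbig := Nat.card_le_card_of_surjective q hq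
  have hindex := (C.subgroupOf D).card_mul_index
  rw [Nat.card_congr (Subgroup.subgroupOfEquivOfLe hCD).toEquiv, hcardC] at hindex
  have hk : 113 ≤ C.relIndex D := by
    show 113 ≤ (C.subgroupOf D).index
    omega
  have hcardD : Nat.card D = 465 * 21504 := by
    rw [hD]
    exact enum_l5 p inv hp C hCdef hcardC (by rw [← hD]; exact hk)
  have hqb : Function.Bijective q := hq.bijective_of_nat_card_le (by omega)
  let Q : D ≃* G := MulEquiv.ofBijective q hqb
  let ψ : G →* SpecialLinearGroup (Fin 5) (ZMod 2) :=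
    ((MonoidHom.snd G _).comp D.subtype).comp Q.symm.toMonoidHom
  have hψ : ψ (letters K glue27 m 4) = slLetters 4 := by
    have h4 : p 4 ∈ D := hD ▸ Subgroup.subset_closure ⟨4, by norm_num, rfl⟩
    have : Q.symm (letters K glue27 m 4) = ⟨p 4, h4⟩ := Q.symm_apply_apply ⟨p 4, h4⟩
    show ((Q.symm (letters K glue27 m 4)).1).2 = _
    rw [this]
  have hinj : Function.Injective ψ := by
    rw [← MonoidHom.ker_eq_bot_iff]
    refine ψ.normal_ker.eq_bot_or_eq_top.resolve_right fun h => ?_
    have h1 : ψ (letters K glue27 m 4) = 1 := MonoidHom.mem_ker.1 (h ▸ Subgroup.mem_top _)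
    rw [hψ] at h1
    have e : SL5.toM slN = SL5.toM i5 := by
      rw [SL5.toM_i5]
      exact (slLetters_val 4).symm.trans (congrArg Subtype.val h1)
    have := slN_ne
    rw [SL5.toM_inj slN_lt i5_lt e] at this
    simp at this
  exact ⟨MulEquiv.ofBijective ψ (hinj.bijective_of_nat_card_le (by rw [card_SL52, hG]))⟩

end CfsgLib.Recog.Held
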