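import Cfsg.Agent.Lib.Recog.Held.LocalDefs

set_option autoImplicit false
set_option maxRecDepth 100000
set_option Elab.async false

/-! Kernel evaluation of the checks on the normalisers (owner: helper25). -/

namespace CfsgLib.Recog.Held

theorem eOK_A : eOK eDataA = true := by decide +kernel

theorem eOK_B : eOK eDataB = true := by decide +kernel

theorem normOK_A27 : normOK sideA27 = true := by decide +kernel

theorem normOK_B27 : normOK sideB27 = true := by decide +kernel

theorem normOK_A91 : normOK sideA91 = true := by decide +kernel

theorem normOK_B91 : normOK sideB91 = true := by decide +kernel

theorem matsOK_A27 : matsOK sideA27 = true := by decide +kernel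

theorem matsOK_B27 : matsOK sideB27 = true := by decide +kernel

theorem matsOK_A91 : matsOK sideA91 = true := by decide +kernel

theorem matsOK_B91 : matsOK sideB91 = true := by decide +kernel

end CfsgLib.Recog.Held
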