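import Cfsg.Agent.Lib.Recog.Held.Count

set_option autoImplicit false

/-!
The three wrong classes of complements on each side, with witnesses (owner: helper25).
Generated by `notes/held/local25/emit2.py`.
-/

namespace CfsgLib.Recog.Held

/-- The wrong classes on side A27: offsets and witnesses. -/
def witDataA27 : List (List ℕ) := [[0, 1, 0, 2, 0, 2171902161, 21, 2], [0, 2, 0, 2, 0, 17247896136, 3, 28], [0, 3, 0, 2, 0, 17247896136, 11, 28]]

/-- The wrong classes on side B27: offsets and witnesses. -/
def witDataB27 : List (List ℕ) := [[0, 6, 0, 1, 0, 51103949362, 10, 2], [0, 14, 0, 1, 0, 6509890568, 59, 1], [0, 8, 0, 1, 0, 6509890568, 9, 1]]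

/-- The wrong classes on side A91: offsets and witnesses. -/
def witDataA91 : List (List ℕ) := [[0, 2, 0, 2, 0, 17247896136, 11, 28], [2, 3, 0, 2, 0, 17247896136, 11, 28], [2, 1, 0, 2, 0, 2171902161, 21, 2]]

/-- The wrong classes on side B91: offsets and witnesses. -/
def witDataB91 : List (List ℕ) := [[0, 4, 0, 1, 0, 24012038689, 14, 14], [8, 0, 0, 1, 0, 34336226272, 46, 18], [8, 4, 0, 1, 0, 34336226272, 32, 18]]

/-- Parents in the tree on side A27. -/
def parDataA27 : ℕ := 0xc6a6dab96b61c241a9158494a0c0d3a30e0394249fce56f979f3891319b875caf5850bdbb32e40152680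

/-- Parents in the tree on side B27. -/
def parDataB27 : ℕ := 0x216d5e01b0662d220863b173307b25f38b245b58a33412a9315124a395544b80ae71f83227a38aba980

/-- Parents in the tree on side A91. -/
def parDataA91 : ℕ := 0x9846245c054b17115450b183475b015e70309af16390b604150a552b494532741b6f5fa54e51fddbf300

/-- Parents in the tree on side B91. -/
def parDataB91 : ℕ := 0x9e7a1c79d5e14b3f5a34a82aa6d18124ca05722854cfaeddfcdbc694d5baf621d74069b184088b85f400

end CfsgLib.Recog.Held
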