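import Cfsg.Agent.Lib.Recog.Held.LocalDefs
import Cfsg.Agent.Lib.Recog.Held.LocalWit

set_option autoImplicit false

/-!
The checks that only one class of complements fits the colours (owner: helper25).
-/

namespace CfsgLib.Recog.Held

/-- The extra data of a side. -/
structure CompData where
  /-- parents in the tree -/
  par : ℕ
  /-- wrong offsets with witnesses -/
  wit : List (List ℕ)

/-- The parent. -/
noncomputable def parOf (c : CompData) (j : ℕ) : ℕ := Nat.land (field 7 c.par j) 63
/-- The generator from the parent. -/
noncomputable def genOf (c : CompData) (j : ℕ) : ℕ := Nat.shiftRight (field 7 c.par j) 6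

/-- Steps to the root. -/
noncomputable def up (c : CompData) : ℕ → ℕ → ℕ
  | 0, j => j
  | n + 1, j => cond (Nat.beq j 0) 0 (up c n (parOf c j))

/-- The offset of an element from the offsets of the generators. -/
noncomputable def offs (s : SideData) (c : CompData) (x y : ℕ) : ℕ → ℕ → ℕ
  | 0, _ => 0
  | n + 1, j => cond (Nat.beq j 0) 0
      (Nat.xor (offs s c x y n (parOf c j)) (apM (kMat s (parOf c j)) (cond (Nat.beq (genOf c j) 0) x y)))

/-- The tree. -/
noncomputable def treeOK (s : SideData) (c : CompData) : Bool :=
  allBelow 48 fun j => Nat.beq (up c 16 j) 0 && (Nat.blt (parOf c j) 48 && (Nat.blt (genOf c j) 2 &&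
    (Nat.beq j 0 || Nat.beq (kSuc s (parOf c j) (genOf c j)) j)))

/-- The offsets of the generators extend to a complement. -/
noncomputable def consistent (s : SideData) (c : CompData) (x y : ℕ) : Bool :=
  allBelow 48 fun j => allBelow 2 fun g =>
    Nat.beq (offs s c x y 16 (kSuc s j g))
      (Nat.xor (offs s c x y 16 j) (apM (kMat s j) (cond (Nat.beq g 0) x y)))

/-- A witness against one offset. -/
noncomputable def witOK (s : SideData) (c : CompData) : List ℕ → Bool
  | [x, y, v, j, w, B, v', j'] =>
    Nat.blt v 64 && (Nat.blt w 64 && (Nat.blt v' 64 && (Nat.blt j 48 && (Nat.blt j' 48 &&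
      (Nat.beq (mmM B (kMat s j)) (mmM (kMat s j') B) && (allBelow 64 (fun u => Nat.beq u 0 || !Nat.beq (apM B u) 0) &&
      (allBelow 64 (fun u => (colT s u && colT s (apM B u)) || (!colT s u && !colT s (apM B u))) &&
      (Nat.beq (Nat.xor (Nat.xor (apM B (Nat.xor v (offs s c x y 16 j))) w) (apM (kMat s j') w))
          (Nat.xor v' (offs s c x y 16 j')) &&
        ((bitOn s.mask (clsOf 0 (nEl s v j) - 1) && Nat.blt 0 (clsOf 0 (nEl s v j))) !=
          (bitOn s.mask (clsOf 0 (nEl s v' j') - 1) && Nat.blt 0 (clsOf 0 (nEl s v' j'))))))))))))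
  | _ => false

/-- The shift of an offset by a vector is zero or a listed one. -/
noncomputable def goodShift (s : SideData) (c : CompData) (x y z : ℕ) : Bool :=
  let x' := Nat.xor x (Nat.xor z (apM (kMat s (kGen s 0)) z))
  let y' := Nat.xor y (Nat.xor z (apM (kMat s (kGen s 1)) z))
  (Nat.beq x' 0 && Nat.beq y' 0) || c.wit.any fun w => Nat.beq x' (w.getD 0 0) && Nat.beq y' (w.getD 1 0)

/-- Every complement is one of the listed ones up to conjugation. -/
noncomputable def compOK (s : SideData) (c : CompData) : Bool :=
  treeOK s c && (c.wit.all (witOK s c) &&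
    allBelow 64 fun x => allBelow 64 fun y => !consistent s c x y || !allBelow 64 fun z => !goodShift s c x y z)

/-- The extra data. -/
def compA27 : CompData := ⟨parDataA27, witDataA27⟩
/-- The extra data. -/
def compB27 : CompData := ⟨parDataB27, witDataB27⟩
/-- The extra data. -/
def compA91 : CompData := ⟨parDataA91, witDataA91⟩
/-- The extra data. -/
def compB91 : CompData := ⟨parDataB91, witDataB91⟩

end CfsgLib.Recog.Held
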