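import Cfsg.Agent.Lib.Recog.Held.LocalNorm
import Cfsg.Agent.Lib.Recog.Held.LocalCompatDefs

set_option autoImplicit false
set_option linter.unusedSectionVars false

/-!
The element of order three can be chosen so that the liftings of the stabiliser of `t` are the listed
complement (owner: helper25).
-/

namespace CfsgLib.Recog.Held

/-- An element of order three compatible with the complement. -/
structure Compat {G : Type*} [Group G] {t : G} (K : Coord t 0) (s : SideData) (p : G) : Prop where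
  acts : SideHyp.Acts K s p s.P
  cube : p * p * p = 1
  stab : ∀ j < 48, SideHyp.IsLift K s p (K.el (kAt s j)) (kMat s j)

namespace SideHyp

variable {G : Type*} [Group G] [Finite G] {t : G} {K : Coord t 0} {s : SideData} (h : SideHyp K s)
include h

theorem exists_compat {c : CompData} (hc : compOK s c = true) : ∃ p : G, Compat K s p := by
  classical
  simp only [compOK, Bool.and_eq_true, List.all_eq_true, allBelow_spec, Bool.or_eq_true,
    Bool.not_eq_true'] at hc
  obtain ⟨htree, hwit, hsearch⟩ := hc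
  simp only [treeOK, allBelow_spec, Bool.and_eq_true, Nat.beq_eq, Nat.blt_eq, Bool.or_eq_true] at htree
  have hn := normSpec h.nok
  have hm := matsSpec h.eok h.mok
  have presK : ∀ j < 48, Pres s (kMat s j) := fun j hj => h.pres_of_acts (h.acts_kEl hj)
  -- offsets
  have offsets : ∀ p : G, Acts K s p s.P → p * p * p = 1 → ∃ O : ℕ → ℕ, (∀ j < 48, O j < 64 ∧
      IsLift K s p (eEl K s (O j) * K.el (kAt s j)) (kMat s j)) ∧ O 0 = 0 ∧
      ∀ j < 48, ∀ g < 2, O (kSuc s j g) = Nat.xor (O j) (apM (kMat s j) (O (kGen s g))) := by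
    intro p hp hp3
    have hex : ∀ j, ∃ o, j < 48 → o < 64 ∧ IsLift K s p (eEl K s o * K.el (kAt s j)) (kMat s j) := by
      intro j
      by_cases hj : j < 48
      · obtain ⟨n, hn'⟩ := h.exists_lift hp hp3 (presK j hj)
        obtain ⟨o, ho, e⟩ := h.eq_e_of_fix (n := n * (K.el (kAt s j))⁻¹) fun v hv => by
          obtain ⟨u, hu, rfl⟩ := exists_preimage (fun u _ => apM_lt (kMat s j) u)
            (fun a ha b hb e => (presK j hj).inj ha hb e) hv
          conv_lhs => rw [← h.acts_kEl hj u hu]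
          rw [← hn'.1 u hu]; group
        exact ⟨o, fun _ => ⟨ho, by rw [← e, inv_mul_cancel_right]; exact hn'⟩⟩
      · exact ⟨0, fun hj' => absurd hj' hj⟩
    choose O hO using hex
    refine ⟨O, hO, ?_, ?_⟩
    · have h1 : IsLift K s p 1 (kMat s 0) := by
        refine ⟨fun v hv => by rw [hn.m0, apM_idM hv]; group, Or.inl (by group)⟩
      have := h.lift_unique hp hp3 (hO 0 (by norm_num)).2 h1
      rw [hn.k0, K.el_zero (by norm_num), mul_one, ← h.e_zero] at this
      exact h.e_inj (hO 0 (by norm_num)).1 (by norm_num) this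
    · intro j hj g hg
      have hgg : kGen s g < 48 := by
        rcases g with _ | _ | g
        exacts [hn.g0, hn.g1, absurd hg (by omega)]
      obtain ⟨hs, hmul, hmat⟩ := hn.ksuc j hj g hg
      have hl := h.lift_mul hp hp3 (hO j hj).2 (hO _ hgg).2
      rw [hmat] at hl
      have := h.lift_unique hp hp3 (hO _ hs).2 hl
      have hsplit : eEl K s (O j) * K.el (kAt s j) * (eEl K s (O (kGen s g)) * K.el (kAt s (kGen s g))) =
          eEl K s (Nat.xor (O j) (apM (kMat s j) (O (kGen s g)))) * K.el (kAt s (kSuc s j g)) := by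
        rw [← h.e_mul (hO j hj).1 (apM_lt _ _), ← h.acts_kEl hj _ (hO _ hgg).1, ← hmul,
          ← K.el_mul _ (hn.klt j hj) _ (hn.klt _ hgg)]
        group
      rw [hsplit] at this
      exact h.e_inj (hO _ hs).1 (xor_lt64 (hO j hj).1 (apM_lt _ _)) (mul_right_cancel this)
  have offs_eq : ∀ (O : ℕ → ℕ) (x y : ℕ), O 0 = 0 → O (kGen s 0) = x → O (kGen s 1) = y →
      (∀ j < 48, ∀ g < 2, O (kSuc s j g) = Nat.xor (O j) (apM (kMat s j) (O (kGen s g)))) →
      ∀ j < 48, offs s c x y 16 j = O j := by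
    intro O x y h0 hx hy hrec
    have key : ∀ n j, j < 48 → up c n j = 0 → offs s c x y n j = O j := by
      intro n
      induction n with
      | zero => intro j _ hj; rw [show j = 0 from hj, h0]; rfl
      | succ n ih =>
        intro j hj hup
        by_cases hj0 : j = 0
        · subst hj0; rw [h0]; rfl
        · have hb : Nat.beq j 0 = false := Bool.eq_false_iff.2 fun e => hj0 (Nat.eq_of_beq_eq_true e)
          rw [up, hb, cond_false] at hup
          obtain ⟨-, hp48, hg2, hsuc⟩ := htree j hj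
          have hsuc := hsuc.resolve_left hj0
          rw [offs, hb, cond_false, ih _ hp48 hup]
          conv_rhs => rw [← hsuc, hrec _ hp48 _ hg2]
          congr 2
          interval_cases genOf c j
          · rw [show Nat.beq 0 0 = true from rfl, cond_true, hx]
          · rw [show Nat.beq 1 0 = false from rfl, cond_false, hy]
    exact fun j hj => key 16 j hj (htree j hj).1
  -- shift to a listed offset
  obtain ⟨p₀, hp₀, hp₀3⟩ := h.exists_p
  obtain ⟨O, hO, hO0, hrec⟩ := offsets p₀ hp₀ hp₀3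
  have hcons : consistent s c (O (kGen s 0)) (O (kGen s 1)) = true := by
    simp only [consistent, allBelow_spec, Nat.beq_eq]
    intro j hj g hg
    rw [offs_eq O _ _ hO0 rfl rfl hrec _ (hn.ksuc j hj g hg).1, offs_eq O _ _ hO0 rfl rfl hrec _ hj, hrec j hj g hg]
    congr 2
    interval_cases g <;> rfl
  obtain ⟨z, hz, hgood⟩ : ∃ z < 64, goodShift s c (O (kGen s 0)) (O (kGen s 1)) z = true := by
    have := (hsearch _ (hO _ hn.g0).1 _ (hO _ hn.g1).1).resolve_left (by rw [hcons]; simp)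
    rw [Bool.eq_false_iff] at this
    by_contra hc
    exact this (allBelow_spec.2 fun z hz => by
      rw [Bool.not_eq_true', Bool.eq_false_iff]
      exact fun e => hc ⟨z, hz, e⟩)
  obtain ⟨p, hpdef⟩ : ∃ p, p = eEl K s z * p₀ * eEl K s z := ⟨_, rfl⟩
  have hconj : ∀ g : G, eEl K s z * g * eEl K s z = eEl K s z * g * (eEl K s z)⁻¹ := fun g => by
    rw [h.e_inv hz]
  have hp : Acts K s p s.P := fun v hv => by
    rw [hpdef, hconj, show eEl K s z * p₀ * (eEl K s z)⁻¹ * eEl K s v * (eEl K s z * p₀ * (eEl K s z)⁻¹)⁻¹ =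
      eEl K s z * (p₀ * ((eEl K s z)⁻¹ * eEl K s v * eEl K s z) * p₀⁻¹) * (eEl K s z)⁻¹ by group,
      h.e_inv hz, (h.e_comm hz hv).eq, mul_assoc (eEl K s v), h.e_mul hz hz, show Nat.xor z z = 0 from Nat.xor_self z,
      h.e_zero, mul_one, hp₀ v hv, (h.e_comm hz (apM_lt _ _)).eq, mul_assoc, h.e_mul hz hz,
      show Nat.xor z z = 0 from Nat.xor_self z, h.e_zero, mul_one]
  have hp3 : p * p * p = 1 := by
    rw [hpdef, hconj, show eEl K s z * p₀ * (eEl K s z)⁻¹ * (eEl K s z * p₀ * (eEl K s z)⁻¹) *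
      (eEl K s z * p₀ * (eEl K s z)⁻¹) = eEl K s z * (p₀ * p₀ * p₀) * (eEl K s z)⁻¹ by group, hp₀3]
    group
  obtain ⟨O', hO', hO'0, hrec'⟩ := offsets p hp hp3
  have hOO : ∀ j < 48, O' j = Nat.xor (O j) (Nat.xor z (apM (kMat s j) z)) := by
    intro j hj
    have hl : IsLift K s p (eEl K s z * (eEl K s (O j) * K.el (kAt s j)) * eEl K s z) (kMat s j) := by
      obtain ⟨ha, hb⟩ := (hO j hj).2
      refine ⟨fun v hv => ?_, ?_⟩
      · have := (h.acts_mul (h.acts_mul (h.acts_e hz) ha) (h.acts_e hz)) v hv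
        rwa [apM_mmM _ _ hv, apM_mmM _ _ (apM_lt _ _), apM_idM (apM_lt _ _), apM_idM hv] at this
      · generalize eEl K s (O j) * K.el (kAt s j) = n at hb ⊢
        rw [hpdef, hconj, hconj]
        rcases hb with e | e
        · left
          calc eEl K s z * n * (eEl K s z)⁻¹ * (eEl K s z * p₀ * (eEl K s z)⁻¹) * (eEl K s z * n * (eEl K s z)⁻¹)⁻¹
              = eEl K s z * (n * p₀ * n⁻¹) * (eEl K s z)⁻¹ := by group
            _ = _ := by rw [e]
        · right
          calc eEl K s z * n * (eEl K s z)⁻¹ * (eEl K s z * p₀ * (eEl K s z)⁻¹) * (eEl K s z * n * (eEl K s z)⁻¹)⁻¹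
              = eEl K s z * (n * p₀ * n⁻¹) * (eEl K s z)⁻¹ := by group
            _ = _ := by rw [e]; group
    have e := h.lift_unique hp hp3 (hO' j hj).2 hl
    have e2 : eEl K s z * (eEl K s (O j) * K.el (kAt s j)) * eEl K s z =
        eEl K s (Nat.xor (O j) (Nat.xor z (apM (kMat s j) z))) * K.el (kAt s j) := by
      rw [← h.e_mul (hO j hj).1 (xor_lt64 hz (apM_lt _ _)), ← h.e_mul hz (apM_lt _ _), ← h.acts_kEl hj z hz,
        ← mul_assoc, (h.e_comm hz (hO j hj).1).eq]
      group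
    rw [e2] at e
    exact h.e_inj (hO' j hj).1 (xor_lt64 (hO j hj).1 (xor_lt64 hz (apM_lt _ _))) (mul_right_cancel e)
  simp only [goodShift, Bool.or_eq_true, Bool.and_eq_true, Nat.beq_eq, List.any_eq_true] at hgood
  rw [← hOO _ hn.g0, ← hOO _ hn.g1] at hgood
  rcases hgood with ⟨hx, hy⟩ | ⟨w, hwmem, hx, hy⟩
  · refine ⟨p, hp, hp3, fun j hj => ?_⟩
    have hz0 : ∀ n j, offs s c 0 0 n j = 0 := by
      intro n
      induction n with
      | zero => intro j; rfl
      | succ n ih =>
        intro j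
        rw [offs, ih]
        cases Nat.beq j 0
        · rw [cond_false, show (cond (Nat.beq (genOf c j) 0) 0 0) = 0 by cases Nat.beq (genOf c j) 0 <;> rfl, apM_zero]
          rfl
        · rfl
    have := (hO' j hj).2
    rwa [← offs_eq O' 0 0 hO'0 hx hy hrec' j hj, hz0, h.e_zero, one_mul] at this
  · exfalso
    have hw := hwit w hwmem
    rcases w with _ | ⟨x, _ | ⟨y, _ | ⟨v, _ | ⟨j, _ | ⟨w, _ | ⟨B, _ | ⟨v', _ | ⟨j', _ | ⟨a, r⟩⟩⟩⟩⟩⟩⟩⟩⟩ <;>
      simp only [witOK, Bool.false_eq_true] at hw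
    simp only [Bool.and_eq_true, Nat.blt_eq, Nat.beq_eq, allBelow_spec, Bool.or_eq_true, Bool.not_eq_true',
      bne_iff_ne, ne_eq] at hw
    obtain ⟨hv, hw, hv', hj, hj', hBcomm, hBker, hBcol, heq, hcol⟩ := hw
    simp only [List.getD_cons_zero, List.getD_cons_succ] at hx hy
    rw [offs_eq O' x y hO'0 hx hy hrec' j hj, offs_eq O' x y hO'0 hx hy hrec' j' hj'] at heq
    have hB : Pres s B := fun u hu => ⟨by rcases hBcol u hu with e | e <;> rw [e.1, e.2],
      fun e => (hBker u hu).resolve_right (by rw [e]; simp)⟩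
    obtain ⟨L, hL⟩ := h.exists_lift hp hp3 hB
    have hLn := h.lift_unique hp hp3 (h.lift_mul hp hp3 hL (hO' j hj).2)
      (h.lift_congr hp hp3 (h.lift_mul hp hp3 (hO' j' hj').2 hL) fun u _ => by rw [hBcomm])
    obtain ⟨n, hn1⟩ : ∃ n, n = eEl K s (O' j) * K.el (kAt s j) := ⟨_, rfl⟩
    obtain ⟨n', hn2⟩ : ∃ n, n = eEl K s (O' j') * K.el (kAt s j') := ⟨_, rfl⟩
    rw [← hn1, ← hn2] at hLn
    have e1 : eEl K s v * K.el (kAt s j) = eEl K s (Nat.xor v (O' j)) * n := by
      rw [hn1, ← mul_assoc, h.e_mul (xor_lt64 hv (hO' j hj).1) (hO' j hj).1]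
      congr 2
      show v = (v ^^^ O' j) ^^^ O' j
      rw [Nat.xor_assoc, Nat.xor_self, Nat.xor_zero]
    have e2 : (eEl K s w * L) * (eEl K s v * K.el (kAt s j)) * (eEl K s w * L)⁻¹ =
        eEl K s v' * K.el (kAt s j') := by
      rw [e1]
      calc eEl K s w * L * (eEl K s (Nat.xor v (O' j)) * n) * (eEl K s w * L)⁻¹
          = eEl K s w * (L * eEl K s (Nat.xor v (O' j)) * L⁻¹) * (L * n * L⁻¹) * (eEl K s w)⁻¹ := by group
        _ = eEl K s w * eEl K s (apM B (Nat.xor v (O' j))) * (n' * eEl K s w * n'⁻¹) * n' := by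
            rw [hL.1 _ (xor_lt64 hv (hO' j hj).1), hLn, mul_inv_cancel_right, h.e_inv hw]; group
        _ = eEl K s (Nat.xor v' (O' j')) * n' := by
            rw [hn2, (hO' j' hj').2.1 w hw, h.e_mul hw (apM_lt _ _), h.e_mul (xor_lt64 hw (apM_lt _ _)) (apM_lt _ _),
              ← heq]
            congr 2
            show (w ^^^ apM B (v ^^^ O' j)) ^^^ apM (kMat s j') w = (apM B (v ^^^ O' j) ^^^ w) ^^^ apM (kMat s j') w
            rw [Nat.xor_comm w]
        _ = _ := by
            rw [hn2, ← mul_assoc, h.e_mul (xor_lt64 hv' (hO' j' hj').1) (hO' j' hj').1]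
            congr 2
            show (v' ^^^ O' j') ^^^ O' j' = v'
            rw [Nat.xor_assoc, Nat.xor_self, Nat.xor_zero]
    have hcl : ∀ v j, v < 64 → j < 48 → ((bitOn s.mask (clsOf 0 (nEl s v j) - 1) &&
        Nat.blt 0 (clsOf 0 (nEl s v j))) = true ↔ IsConj (eEl K s v * K.el (kAt s j)) t) := by
      intro v j hv hj
      have hlt := ((eOK_spec h.eok).2.2.2 v hv).1
      rw [eEl, K.el_mul _ hlt _ (hn.klt j hj), K.mask_spec (by norm_num) (mulC_lt hlt _), h.colour,
        Bool.and_eq_true, Nat.blt_eq, Nat.pos_iff_ne_zero]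
      exact and_comm
    refine hcol (Bool.eq_iff_iff.2 ?_)
    rw [hcl v j hv hj, hcl v' j' hv' hj', ← e2]
    exact ⟨fun e => (isConj_iff.2 ⟨_, rfl⟩ : IsConj (eEl K s v * K.el (kAt s j)) _).symm.trans e,
      fun e => (isConj_iff.2 ⟨_, rfl⟩ : IsConj (eEl K s v * K.el (kAt s j)) _).trans e⟩

end SideHyp

end CfsgLib.Recog.Held
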