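import Cfsg.Agent.Lib.Recog.Held.LocalCompatDefs

set_option autoImplicit false
set_option maxRecDepth 100000
set_option Elab.async false

/-! Kernel evaluation of the complement checks (owner: helper25). -/

namespace CfsgLib.Recog.Held

theorem compOK_A27 : compOK sideA27 compA27 = true := by decide +kernel

theorem compOK_B27 : compOK sideB27 compB27 = true := by decide +kernel

end CfsgLib.Recog.Held
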