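import Mathlib.Tactic.IntervalCases
import Mathlib.Data.Finset.Card
import Mathlib.Data.Nat.Bitwise
import Cfsg.Agent.Lib.Recog.Held.Count

set_option autoImplicit false

/-!
Linear maps of a six-dimensional space over the field of two elements as packed numbers: six bits for each
column (owner: helper25).
-/

namespace CfsgLib.Recog.Held

/-- A matrix applied to a vector. -/
noncomputable def apM (A v : ℕ) : ℕ :=
  Nat.rec (motive := fun _ => ℕ) 0
    (fun j ih => cond (Nat.beq (field 1 v j) 1) (Nat.xor ih (field 6 A j)) ih) 6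

/-- Six columns packed. -/
noncomputable def packM (f : ℕ → ℕ) : ℕ :=
  f 0 + 2 ^ 6 * f 1 + 2 ^ 12 * f 2 + 2 ^ 18 * f 3 + 2 ^ 24 * f 4 + 2 ^ 30 * f 5

/-- The product of two matrices. -/
noncomputable def mmM (A B : ℕ) : ℕ := packM fun j => apM A (field 6 B j)

/-- The identity matrix. -/
noncomputable def idM : ℕ := packM fun j => 2 ^ j

theorem field_eq (w x k : ℕ) : field w x k = x / 2 ^ (w * k) % 2 ^ w := by
  show (x >>> (w * k)) &&& (2 ^ w - 1) = _
  rw [Nat.and_two_pow_sub_one_eq_mod, Nat.shiftRight_eq_div_pow]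

theorem field_packM {f : ℕ → ℕ} (hf : ∀ j < 6, f j < 64) {j : ℕ} (hj : j < 6) : field 6 (packM f) j = f j := by
  have h0 := hf 0 (by norm_num); have h1 := hf 1 (by norm_num); have h2 := hf 2 (by norm_num)
  have h3 := hf 3 (by norm_num); have h4 := hf 4 (by norm_num); have h5 := hf 5 (by norm_num)
  rw [field_eq, packM]
  interval_cases j <;> norm_num <;> omega

theorem field_one_xor (v w j : ℕ) : field 1 (Nat.xor v w) j = Nat.xor (field 1 v j) (field 1 w j) := by
  show field 1 (v ^^^ w) j = field 1 v j ^^^ field 1 w j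
  rw [field_eq, field_eq, field_eq, pow_one, one_mul, ← Nat.shiftRight_eq_div_pow, ← Nat.shiftRight_eq_div_pow,
    ← Nat.shiftRight_eq_div_pow, Nat.shiftRight_xor_distrib]
  simpa using Nat.xor_mod_two_pow (a := v >>> j) (b := w >>> j) (n := 1)

theorem apM_lt (A v : ℕ) : apM A v < 64 := by
  have h : ∀ n, Nat.rec (motive := fun _ => ℕ) 0
      (fun j ih => cond (Nat.beq (field 1 v j) 1) (Nat.xor ih (field 6 A j)) ih) n < 64 := by
    intro n
    induction n with
    | zero => norm_num
    | succ n ih =>
      show cond (Nat.beq (field 1 v n) 1) (Nat.xor _ (field 6 A n)) _ < 64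
      cases Nat.beq (field 1 v n) 1
      · exact ih
      · exact Nat.xor_lt_two_pow (n := 6) ih (field_lt 6 A n)
  exact h 6

theorem apM_xor (A v w : ℕ) : apM A (Nat.xor v w) = Nat.xor (apM A v) (apM A w) := by
  have h : ∀ n, Nat.rec (motive := fun _ => ℕ) 0
        (fun j ih => cond (Nat.beq (field 1 (Nat.xor v w) j) 1) (Nat.xor ih (field 6 A j)) ih) n =
      Nat.xor (Nat.rec (motive := fun _ => ℕ) 0
        (fun j ih => cond (Nat.beq (field 1 v j) 1) (Nat.xor ih (field 6 A j)) ih) n)
        (Nat.rec (motive := fun _ => ℕ) 0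
        (fun j ih => cond (Nat.beq (field 1 w j) 1) (Nat.xor ih (field 6 A j)) ih) n) := by
    intro n
    induction n with
    | zero => exact (Nat.xor_self 0).symm
    | succ n ih =>
      simp only at ih ⊢
      rw [ih, field_one_xor]
      have hv := field_lt 1 v n
      have hw := field_lt 1 w n
      generalize field 1 v n = a at hv ⊢
      generalize field 1 w n = b at hw ⊢
      generalize field 6 A n = c
      interval_cases a <;> interval_cases b <;>
        simp only [show Nat.beq 0 1 = false from rfl, show Nat.beq 1 1 = true from rfl, cond_true, cond_false,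
          show Nat.xor 0 0 = 0 from rfl, show Nat.xor 0 1 = 1 from rfl, show Nat.xor 1 0 = 1 from rfl,
          show Nat.xor 1 1 = 0 from rfl]
      · simp only [show ∀ a b, Nat.xor a b = a ^^^ b from fun a b => rfl]
        rw [Nat.xor_assoc]
      · simp only [show ∀ a b, Nat.xor a b = a ^^^ b from fun a b => rfl]
        rw [Nat.xor_assoc, Nat.xor_assoc, Nat.xor_comm c]
      · simp only [show ∀ a b, Nat.xor a b = a ^^^ b from fun a b => rfl]
        rw [Nat.xor_assoc, Nat.xor_comm c, Nat.xor_assoc, Nat.xor_self, Nat.xor_zero]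
  exact h 6

theorem apM_zero (A : ℕ) : apM A 0 = 0 := by
  have h := apM_xor A 0 0
  rw [show Nat.xor 0 0 = 0 from rfl] at h
  rw [h]
  exact Nat.xor_self _

theorem apM_unit (A : ℕ) {j : ℕ} (hj : j < 6) : apM A (2 ^ j) = field 6 A j := by
  interval_cases j <;> exact Nat.zero_xor _

/-- Two additive functions that agree on the unit vectors agree. -/
theorem additive_ext {f g : ℕ → ℕ} (hf : ∀ v < 64, ∀ w < 64, f (Nat.xor v w) = Nat.xor (f v) (f w))
    (hg : ∀ v < 64, ∀ w < 64, g (Nat.xor v w) = Nat.xor (g v) (g w)) (h : ∀ j < 6, f (2 ^ j) = g (2 ^ j)) :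
    ∀ v < 64, f v = g v := by
  have key : ∀ n ≤ 6, ∀ v < 2 ^ n, f v = g v := by
    intro n hn
    induction n with
    | zero =>
      intro v hv
      obtain rfl : v = 0 := by simpa using hv
      have a := hf 0 (by norm_num) 0 (by norm_num)
      have b := hg 0 (by norm_num) 0 (by norm_num)
      rw [show Nat.xor 0 0 = 0 from rfl] at a b
      rw [a, b]
      show f 0 ^^^ f 0 = g 0 ^^^ g 0
      rw [Nat.xor_self, Nat.xor_self]
    | succ n ih =>
      intro v hv
      rcases Nat.lt_or_ge v (2 ^ n) with h' | h'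
      · exact ih (by omega) v h'
      · have hp : 2 ^ (n + 1) ≤ 64 := le_trans (Nat.pow_le_pow_right two_pos hn) (by norm_num)
        have hw : v - 2 ^ n < 2 ^ n := by rw [pow_succ] at hv; omega
        have hv' : v = Nat.xor (2 ^ n) (v - 2 ^ n) := by
          have h1 := Nat.two_pow_add_eq_or_of_lt hw 1
          have h2 : 2 ^ n ^^^ (v - 2 ^ n) = 2 ^ n + (v - 2 ^ n) := by
            have hn6 : n < 6 := hn
            interval_cases n <;> norm_num at hw h' ⊢ <;> interval_cases v <;> rfl
          show v = 2 ^ n ^^^ (v - 2 ^ n)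
          omega
        rw [hv', hf _ (lt_of_lt_of_le (Nat.pow_lt_pow_right one_lt_two n.lt_succ_self) hp) _ (by omega),
          hg _ (lt_of_lt_of_le (Nat.pow_lt_pow_right one_lt_two n.lt_succ_self) hp) _ (by omega),
          h n (by omega), ih (by omega) _ hw]
  exact key 6 le_rfl

theorem apM_mmM (A B : ℕ) {v : ℕ} (hv : v < 64) : apM (mmM A B) v = apM A (apM B v) :=
  additive_ext (f := apM (mmM A B)) (g := fun v => apM A (apM B v)) (fun a _ b _ => apM_xor _ a b)
    (fun a _ b _ => by simp only [apM_xor]) (fun j hj => by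
      simp only [apM_unit _ hj]
      exact field_packM (fun k _ => apM_lt _ _) hj) v hv

theorem apM_idM {v : ℕ} (hv : v < 64) : apM idM v = v :=
  additive_ext (f := apM idM) (g := fun v => v) (fun a _ b _ => apM_xor _ a b) (fun _ _ _ _ => rfl)
    (fun j hj => by
      rw [apM_unit _ hj]
      exact field_packM (fun k hk => (Nat.pow_lt_pow_right one_lt_two hk).trans_eq (by norm_num)) hj) v hv

/-- An injective function on a range of the same size is onto. -/
theorem exists_preimage {n : ℕ} {f : ℕ → ℕ} (hlt : ∀ v < n, f v < n)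
    (hinj : ∀ v < n, ∀ w < n, f v = f w → v = w) {u : ℕ} (hu : u < n) : ∃ v < n, f v = u := by
  classical
  have h : (Finset.range n).image f = Finset.range n :=
    Finset.eq_of_subset_of_card_le (fun x hx => by
        obtain ⟨v, hv, rfl⟩ := Finset.mem_image.1 hx
        exact Finset.mem_range.2 (hlt v (Finset.mem_range.1 hv)))
      (by
        rw [Finset.card_image_of_injOn (fun a ha b hb => hinj a (Finset.mem_range.1 ha) b (Finset.mem_range.1 hb))])
  have := Finset.mem_range.2 hu
  rw [← h] at this
  obtain ⟨v, hv, e⟩ := Finset.mem_image.1 this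
  exact ⟨v, Finset.mem_range.1 hv, e⟩

end CfsgLib.Recog.Held
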