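import Cfsg.Agent.Lib.Recog.Held.LocalData
import Cfsg.Agent.Lib.Recog.Held.LocalVec
import Cfsg.Agent.Lib.Recog.Held.ColourDefs

set_option autoImplicit false

/-!
The checks on the elementary subgroups of order 64 and their normalisers in `C(t)` (owner: helper25).
-/

namespace CfsgLib.Recog.Held

/-- A side: one of the two subgroups with a complement in its normaliser inside `C(t)`. -/
structure SideData where
  /-- the coloured classes -/
  mask : ℕ
  /-- the codes of the subgroup -/
  e : ℕ
  /-- the complement -/
  kc : ℕ
  /-- its matrices -/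
  km : ℕ
  /-- its table -/
  suc : ℕ
  /-- a tree in it -/
  tree : ℕ
  /-- a transversal of the normaliser -/
  tr : ℕ
  /-- a basis of coloured vectors -/
  basis : ℕ
  /-- two generators of the complement -/
  ga : ℕ
  /-- a matrix of order three without fixed points -/
  P : ℕ
  /-- the coloured vectors -/
  cols : List ℕ
  /-- their bits -/
  bits : ℕ
  /-- for each coloured vector a matrix sending the vector of `t` to it -/
  trans : List ℕ

/-- The first side for mask 27. -/
def sideA27 : SideData :=
  ⟨27, eDataA, kcDataA27, kmDataA27, sucDataA27, treeDataA27, trDataA27, basisDataA27, gaDataA27, fpfDataA27,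
    [1, 2, 3, 4, 8, 9, 10, 11, 12, 16, 17, 20, 29, 32, 35, 36, 47, 48, 50, 52, 62], 4617737838338973470, transDataA27⟩
/-- The second side for mask 27. -/
def sideB27 : SideData :=
  ⟨27, eDataB, kcDataB27, kmDataB27, sucDataB27, treeDataB27, trDataB27, basisDataB27, gaDataB27, fpfDataB27,
    [1, 2, 4, 6, 8, 9, 10, 12, 14, 16, 17, 20, 29, 32, 33, 38, 47, 48, 49, 50, 59], 578572102929700694, transDataB27⟩
/-- The first side for mask 91. -/
def sideA91 : SideData :=
  ⟨91, eDataA, kcDataA91, kmDataA91, sucDataA91, treeDataA91, trDataA91, basisDataA91, gaDataA91, fpfDataA91,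
    [1, 2, 3, 4, 8, 9, 10, 11, 12, 16, 17, 20, 29, 32, 35, 36, 47, 48, 50, 52, 62], 4617737838338973470, transDataA91⟩
/-- The second side for mask 91. -/
def sideB91 : SideData :=
  ⟨91, eDataB, kcDataB91, kmDataB91, sucDataB91, treeDataB91, trDataB91, basisDataB91, gaDataB91, fpfDataB91,
    [1, 2, 4, 6, 8, 9, 10, 12, 14, 16, 17, 18, 19, 20, 22, 23, 26, 27, 29, 30, 31, 32, 33, 34, 35, 36, 37, 38, 42, 43, 44, 45, 47, 48, 49, 50, 52, 53, 54, 55, 59, 60, 61, 62, 63], 17940014898274588502, transDataB91⟩

/-- The element of a vector. -/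
noncomputable def eAt (e v : ℕ) : ℕ := field 15 e v

/-- The vector of an element, `64` if it is not in the subgroup. -/
noncomputable def spIn (e x n : ℕ) : ℕ :=
  Nat.rec (motive := fun _ => ℕ) 64 (fun v ih => cond (Nat.beq (eAt e v) x) v ih) n

/-- The vector of an element. -/
noncomputable def spOf (e x : ℕ) : ℕ := spIn e x 64

/-- The vector of `t`. -/
noncomputable def tVec (e : ℕ) : ℕ := spOf e 64

/-- The subgroup is elementary abelian of order 64 and contains `t`. -/
noncomputable def eOK (e : ℕ) : Bool :=
  Nat.beq (eAt e 0) 0 && (Nat.blt (tVec e) 64 && allBelow 64 fun v => Nat.blt (eAt e v) 21504 &&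
    (Nat.beq (spOf e (eAt e v)) v &&
      allBelow 64 fun w => Nat.beq (mulC 0 (eAt e v) (eAt e w)) (eAt e (Nat.xor v w))))

/-- The element `j` of a complement. -/
noncomputable def kAt (s : SideData) (j : ℕ) : ℕ := field 15 s.kc j
/-- Its matrix. -/
noncomputable def kMat (s : SideData) (j : ℕ) : ℕ := field 36 s.km j
/-- The product with a generator. -/
noncomputable def kSuc (s : SideData) (j g : ℕ) : ℕ := field 6 s.suc (2 * j + g)
/-- A generator. -/
noncomputable def kGen (s : SideData) (g : ℕ) : ℕ := field 6 s.ga g
/-- An element of the transversal. -/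
noncomputable def trAt (s : SideData) (r : ℕ) : ℕ := field 15 s.tr r
/-- Its inverse. -/
noncomputable def trInv (s : SideData) (r : ℕ) : ℕ := field 15 s.tr (7 + r)
/-- The element of a pair. -/
noncomputable def nEl (s : SideData) (v j : ℕ) : ℕ := mulC 0 (eAt s.e v) (kAt s j)

/-- The conjugate of a unit vector by a quotient of two transversal elements. -/
noncomputable def trConj (s : SideData) (i r b : ℕ) : ℕ :=
  mulC 0 (mulC 0 (mulC 0 (trInv s i) (trAt s r)) (eAt s.e (2 ^ b))) (mulC 0 (trInv s r) (trAt s i))

/-- An element of the transversal moves the subgroup away from the earlier ones. -/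
noncomputable def trOK (s : SideData) (r : ℕ) : Bool :=
  Nat.blt (trAt s r) 21504 && (Nat.blt (trInv s r) 21504 &&
    (Nat.beq (mulC 0 (trInv s r) (trAt s r)) 0 && (Nat.beq (mulC 0 (trAt s r) (trInv s r)) 0 &&
      allBelow r (fun i => !allBelow 6 (fun b => Nat.blt (spOf s.e (trConj s i r b)) 64)))))

/-- The complement normalises with the given matrices, and the transversal moves the subgroup. -/
noncomputable def normOK (s : SideData) : Bool :=
  Nat.beq (kAt s 0) 0 && (Nat.beq (trAt s 0) 0 && (Nat.beq (kMat s 0) idM && (Nat.blt (kGen s 0) 48 && (Nat.blt (kGen s 1) 48 &&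
    (allBelow 48 (fun j => Nat.blt (kAt s j) 21504 &&
      (allBelow j (fun i => !Nat.beq (kMat s i) (kMat s j)) &&
      (Nat.beq (apM (kMat s j) (tVec s.e)) (tVec s.e) &&
      (allBelow 64 (fun v =>
        Nat.beq (mulC 0 (kAt s j) (eAt s.e v)) (mulC 0 (eAt s.e (apM (kMat s j) v)) (kAt s j))) &&
      allBelow 2 (fun g => Nat.blt (kSuc s j g) 48 &&
        (Nat.beq (mulC 0 (kAt s j) (kAt s (kGen s g))) (kAt s (kSuc s j g)) &&
          Nat.beq (mmM (kMat s j) (kMat s (kGen s g))) (kMat s (kSuc s j g)))))))) &&
    allBelow 7 (trOK s))))))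

/-- The vector is coloured. -/
noncomputable def colT (s : SideData) (v : ℕ) : Bool :=
  Nat.blt 0 (clsOf 0 (eAt s.e v)) && bitOn s.mask (clsOf 0 (eAt s.e v) - 1)

/-- Evaluate a number before it is used. -/
noncomputable def force {α : Type} (x : ℕ) (k : ℕ → α) : α :=
  Nat.rec (motive := fun _ => α) (k 0) (fun n _ => k (n + 1)) x

theorem force_eq {α : Type} (x : ℕ) (k : ℕ → α) : force x k = k x := by cases x <;> rfl

/-- An image may be added to a partial map. -/
noncomputable def okExt (s : SideData) (b w : ℕ) : List ℕ → List ℕ → Bool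
  | d :: ds, i :: is =>
    !Nat.beq (Nat.xor i w) 0 &&
      (((bitOn s.bits (Nat.xor d b) && bitOn s.bits (Nat.xor i w)) ||
        (!bitOn s.bits (Nat.xor d b) && !bitOn s.bits (Nat.xor i w))) &&
        okExt s b w ds is)
  | _, _ => true

/-- Image of a vector in a complete map. -/
noncomputable def lookup : List ℕ → List ℕ → ℕ → ℕ
  | d :: ds, i :: is, v => cond (Nat.beq d v) i (lookup ds is v)
  | _, _, _ => 0

/-- All colour preserving maps. -/
noncomputable def srchM (s : SideData) : List ℕ → List ℕ → List ℕ → List ℕ
  | [], dom, img => [packM fun j => lookup dom img (2 ^ j)]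
  | b :: r, dom, img => (s.cols.filter fun w => okExt s b w dom img).flatMap fun w =>
      srchM s r (dom ++ dom.map fun d => Nat.xor d b) (img ++ img.map fun i => Nat.xor i w)

/-- All colour preserving maps fixing `t`. -/
noncomputable def allMats (s : SideData) : List ℕ :=
  srchM s (((List.range 6).map fun k => field 6 s.basis k).drop 1) [0, tVec s.e] [0, tVec s.e]

/-- The square of the matrix of order three. -/
noncomputable def P2 (s : SideData) : ℕ := mmM s.P s.P

/-- A matrix is listed in the complement. -/
noncomputable def inStab (s : SideData) (A : ℕ) : Bool := !allBelow 48 fun j => !Nat.beq (kMat s j) A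

/-- A matrix normalises the group of order three. -/
noncomputable def normsP (s : SideData) (A : ℕ) : Bool :=
  Nat.beq (mmM A s.P) (mmM s.P A) || Nat.beq (mmM A s.P) (mmM (P2 s) A)

/-- A listed matrix sends the vector of `t` to the given one. -/
noncomputable def transOK (s : SideData) (u : ℕ) : Bool :=
  !bitOn s.bits u || s.trans.any fun W => Nat.beq (apM W (tVec s.e)) u &&
    (normsP s W && allBelow 64 (fun v => !xor (bitOn s.bits v) (bitOn s.bits (apM W v)) &&
      (Nat.beq v 0 || !Nat.beq (apM W v) 0)))

/-- The basis is good, the stabiliser of `t` is the complement, and every map normalises the element of order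
three, which has no fixed vector. -/
noncomputable def matsOK (s : SideData) : Bool :=
  allBelow 6 (fun k => colT s (field 6 s.basis k) && Nat.blt (field 6 s.basis k) 64) &&
    (allBelow 64 (fun v => !allBelow 64 fun c => !Nat.beq v (apM (packM fun k => field 6 s.basis k) c)) &&
    (colT s (tVec s.e) && (Nat.beq (mmM s.P (P2 s)) idM && (allBelow 64 (fun v => Nat.beq v 0 ||
      !Nat.beq (apM s.P v) v) && (allBelow 64 (fun v => (colT s v && colT s (apM s.P v)) || (!colT s v && !colT s (apM s.P v))) &&
      (allBelow 64 (fun v => !xor (bitOn s.bits v) (colT s v)) &&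
      (allBelow 64 (fun v => !colT s v || s.cols.any (Nat.beq v)) && (Nat.beq (field 6 s.basis 0) (tVec s.e) &&
      (allBelow 48 (fun j => normsP s (kMat s j)) && (allBelow 64 (transOK s) &&
      (allMats s).all fun A => force A fun A => inStab s A))))))))))

end CfsgLib.Recog.Held
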