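import Cfsg.Agent.Lib.Recog.Held.LocalElemDefs

set_option autoImplicit false
set_option maxRecDepth 100000
set_option Elab.async false

/-! Kernel evaluation of the checks on elementary subgroups of order 64 (owner: helper25). -/

namespace CfsgLib.Recog.Held

theorem quot_ok : quotOK = true := by decide +kernel

theorem q_ok' : qOK = true := by decide +kernel

theorem pair_ok : pairOK = true := by decide +kernel

theorem sylow_ok : sylowOK = true := by decide +kernel

end CfsgLib.Recog.Held
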