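import Cfsg.Agent.Lib.Recog.Held.LocalNorm
import Cfsg.Agent.Lib.Recog.Held.LocalCheck
import Cfsg.Agent.Lib.Recog.Held.LocalElemCheck

set_option autoImplicit false
set_option linter.unusedSectionVars false

/-!
The elementary abelian subgroups of order 64 through `t` fall into the two sides, which are not fused; so every
coloured vector of a side is moved to `t` inside the normaliser of that side (owner: helper25).
-/

namespace CfsgLib.Recog.Held

open Subgroup

theorem lcancel : ∀ l < 168, ∀ m < 168, lMul l m = l → m = 0 := by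
  have h : allBelow 168 (fun l => allBelow 168 fun m => !Nat.beq (lMul l m) l || Nat.beq m 0) = true := by
    decide +kernel
  intro l hl m hm e
  have := allBelow_spec.1 (allBelow_spec.1 h l hl) m hm
  rw [e] at this
  simpa using this

theorem lzero : ∀ l < 168, lMul 0 l = l ∧ lMul l 0 = l := by
  have h : allBelow 168 (fun l => Nat.beq (lMul 0 l) l && Nat.beq (lMul l 0) l) = true := by decide +kernel
  intro l hl
  simpa using allBelow_spec.1 h l hl

theorem sideE_ok (a : ℕ) : eOK (sideE a) = true := by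
  unfold sideE
  cases Nat.beq a 0
  exacts [eOK_B, eOK_A]

theorem isInvC_iff {G : Type*} [Group G] {t : G} (K : Coord t 0) {x : ℕ} (hx : x < 21504) :
    isInvC x = true ↔ K.el x ≠ 1 ∧ K.el x * K.el x = 1 := by
  simp [K.sq_iff (by norm_num) hx, isInvC, ← Bool.not_eq_true]

theorem commC_iff {G : Type*} [Group G] {t : G} (K : Coord t 0) {x y : ℕ} (hx : x < 21504) (hy : y < 21504) :
    commC x y = true ↔ K.el x * K.el y = K.el y * K.el x := by
  rw [K.commute_iff hx hy, commC, Nat.beq_eq]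

variable {G : Type*} [Group G] [Finite G] {t : G} (K : Coord t 0)

/-- An elementary subgroup of order 64 of `C(t)` through `t`. -/
structure Elem64 {G : Type*} [Group G] {t : G} (K : Coord t 0) (E : Subgroup G) : Prop where
  card : Nat.card E = 64
  sq : ∀ x ∈ E, x * x = 1
  comm : ∀ x ∈ E, x * t = t * x
  mem_t : t ∈ E

theorem Elem64.commute {K : Coord t 0} {E : Subgroup G} (h : Elem64 K E) {x y : G} (hx : x ∈ E) (hy : y ∈ E) : x * y = y * x := by
  have hi : ∀ z ∈ E, z⁻¹ = z := fun z hz => inv_eq_of_mul_eq_one_right (h.sq z hz)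
  rw [← hi _ (mul_mem hx hy), _root_.mul_inv_rev, hi x hx, hi y hy]

/-- A side as a subgroup. -/
noncomputable def eSub (a : ℕ) : Subgroup G where
  carrier := {x | ∃ v < 64, K.el (eAt (sideE a) v) = x}
  one_mem' := ⟨0, by norm_num, by rw [(eOK_spec (sideE_ok a)).1, K.el_zero (by norm_num)]⟩
  mul_mem' := by
    obtain ⟨-, -, -, H⟩ := eOK_spec (sideE_ok a)
    rintro _ _ ⟨v, hv, rfl⟩ ⟨w, hw, rfl⟩
    exact ⟨Nat.xor v w, xor_lt64 hv hw, by rw [K.el_mul _ (H v hv).1 _ (H w hw).1, (H v hv).2.2 w hw]⟩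
  inv_mem' := by
    obtain ⟨h0, -, -, H⟩ := eOK_spec (sideE_ok a)
    rintro _ ⟨v, hv, rfl⟩
    refine ⟨v, hv, (inv_eq_of_mul_eq_one_right ?_).symm⟩
    rw [K.el_mul _ (H v hv).1 _ (H v hv).1, (H v hv).2.2 v hv, show Nat.xor v v = 0 from Nat.xor_self v, h0,
      K.el_zero (by norm_num)]

theorem mem_eSub {a : ℕ} {x : G} : x ∈ eSub K a ↔ ∃ v < 64, K.el (eAt (sideE a) v) = x := Iff.rfl

theorem card_eSub (a : ℕ) : Nat.card (eSub K a) = 64 := by
  obtain ⟨-, -, -, H⟩ := eOK_spec (sideE_ok a)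
  refine (card_eq_countBelow (fun v => K.el (eAt (sideE a) v)) 64 (fun _ => true) (· ∈ eSub K a) ?_ ?_
    fun x hx => hx).trans ?_
  · intro v hv w hw e
    rw [← (H v hv).2.1, ← (H w hw).2.1, K.el_inj _ (H v hv).1 _ (H w hw).1 e]
  · exact fun v hv => iff_of_true rfl ⟨v, hv, rfl⟩
  · rw [countBelow_eq, Finset.filter_true_of_mem (fun _ _ => rfl), Finset.card_range]

theorem elem64_eSub (a : ℕ) : Elem64 K (eSub K a) := by
  obtain ⟨h0, ht, hte, H⟩ := eOK_spec (sideE_ok a)
  refine ⟨card_eSub K a, ?_, ?_, ⟨_, ht, by rw [hte, K.el_t]⟩⟩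
  · rintro _ ⟨v, hv, rfl⟩
    rw [K.el_mul _ (H v hv).1 _ (H v hv).1, (H v hv).2.2 v hv, show Nat.xor v v = 0 from Nat.xor_self v, h0,
      K.el_zero (by norm_num)]
  · rintro _ ⟨v, hv, rfl⟩
    exact K.mem _ (H v hv).1

theorem Elem64.conj {K : Coord t 0} {E : Subgroup G} (h : Elem64 K E) {g : G} (hg : ∃ x ∈ E, g * x * g⁻¹ = t) :
    Elem64 K (E.map (MulAut.conj g).toMonoidHom) := by
  obtain ⟨e, he, hge⟩ := hg
  refine ⟨?_, ?_, ?_, ⟨e, he, hge⟩⟩
  · rw [← Nat.card_congr (E.equivMapOfInjective _ (MulAut.conj g).injective).toEquiv, h.card]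
  · rintro _ ⟨x, hx, rfl⟩
    show g * x * g⁻¹ * (g * x * g⁻¹) = 1
    rw [show g * x * g⁻¹ * (g * x * g⁻¹) = g * (x * x) * g⁻¹ by group, h.sq x hx, mul_one, mul_inv_cancel]
  · rintro _ ⟨x, hx, rfl⟩
    show g * x * g⁻¹ * t = t * (g * x * g⁻¹)
    rw [← hge, show g * x * g⁻¹ * (g * e * g⁻¹) = g * (x * e) * g⁻¹ by group, h.commute hx he]
    group

section Classify

variable {K}

open Classical in
/-- The codes of the subgroup. -/
noncomputable def Elem64.codes {E : Subgroup G} (_h : Elem64 K E) : Finset ℕ :=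
  (Finset.range 21504).filter fun x => K.el x ∈ E

/-- The part in the extraspecial subgroup. -/
noncomputable def Elem64.low {E : Subgroup G} (h : Elem64 K E) : Finset ℕ := h.codes.filter fun x => x / 128 = 0

/-- The image in the quotient. -/
noncomputable def Elem64.image {E : Subgroup G} (h : Elem64 K E) : Finset ℕ := h.codes.image fun x => x / 128

variable {E : Subgroup G} (h : Elem64 K E)
include h

theorem Elem64.mem_codes {x : ℕ} : x ∈ h.codes ↔ x < 21504 ∧ K.el x ∈ E := by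
  simp [Elem64.codes]

theorem Elem64.card_codes : h.codes.card = 64 := by
  classical
  rw [← h.card, ← Nat.card_eq_finsetCard]
  refine Nat.card_congr (Equiv.ofBijective
    (fun x => (⟨K.el x.1, (h.mem_codes.1 x.2).2⟩ : E)) ⟨fun x y e => Subtype.ext ?_, fun x => ?_⟩)
  · exact K.el_inj _ (h.mem_codes.1 x.2).1 _ (h.mem_codes.1 y.2).1 (congrArg Subtype.val e)
  · obtain ⟨c, hc, e⟩ := K.surj x.1 (h.comm _ x.2)
    exact ⟨⟨c, h.mem_codes.2 ⟨hc, e ▸ x.2⟩⟩, Subtype.ext e⟩

theorem Elem64.mul_codes {x y : ℕ} (hx : x ∈ h.codes) (hy : y ∈ h.codes) : mulC 0 x y ∈ h.codes := by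
  obtain ⟨hx, hxE⟩ := h.mem_codes.1 hx
  obtain ⟨hy, hyE⟩ := h.mem_codes.1 hy
  exact h.mem_codes.2 ⟨mulC_lt hx y, by rw [← K.el_mul x hx y hy]; exact mul_mem hxE hyE⟩

theorem Elem64.zero_codes : 0 ∈ h.codes :=
  h.mem_codes.2 ⟨by norm_num, by rw [K.el_zero (by norm_num)]; exact one_mem _⟩

theorem Elem64.t_codes : 64 ∈ h.codes := h.mem_codes.2 ⟨by norm_num, by rw [K.el_t]; exact h.mem_t⟩

theorem Elem64.sq_codes {x : ℕ} (hx : x ∈ h.codes) : mulC 0 x x = 0 := by
  obtain ⟨hx, hxE⟩ := h.mem_codes.1 hx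
  exact (K.mul_eq_iff hx hx (by norm_num)).1 (by rw [h.sq _ hxE, K.el_zero (by norm_num)])

theorem Elem64.inv_codes {x : ℕ} (hx : x ∈ h.codes) (h0 : x ≠ 0) : isInvC x = true := by
  obtain ⟨hx, hxE⟩ := h.mem_codes.1 hx
  exact (isInvC_iff K hx).2 ⟨fun e => h0 (K.el_inj x hx 0 (by norm_num) (by rw [e, K.el_zero (by norm_num)])),
    h.sq _ hxE⟩

theorem Elem64.comm_codes {x y : ℕ} (hx : x ∈ h.codes) (hy : y ∈ h.codes) : commC x y = true :=
  (commC_iff K (h.mem_codes.1 hx).1 (h.mem_codes.1 hy).1).2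
    (h.commute (h.mem_codes.1 hx).2 (h.mem_codes.1 hy).2)

theorem Elem64.fibre {l : ℕ} (hl : l ∈ h.image) :
    (h.codes.filter fun x => x / 128 = l).card = h.low.card := by
  classical
  obtain ⟨x, hx, rfl⟩ := Finset.mem_image.1 hl
  have hlt : ∀ {y}, y ∈ h.codes → y < 21504 := fun hy => (h.mem_codes.1 hy).1
  have hinv : ∀ y ∈ h.codes, mulC 0 x (mulC 0 x y) = y := by
    intro y hy
    refine K.el_inj _ (mulC_lt (hlt hx) _) _ (hlt hy) ?_
    rw [← K.el_mul _ (hlt hx) _ (mulC_lt (hlt hx) y), ← K.el_mul _ (hlt hx) _ (hlt hy), ← mul_assoc,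
      h.sq _ (h.mem_codes.1 hx).2, one_mul]
  refine Finset.card_nbij' (mulC 0 x) (mulC 0 x) ?_ ?_ ?_ ?_
  · intro y hy
    obtain ⟨hy, e⟩ := Finset.mem_filter.1 hy
    refine Finset.mem_filter.2 ⟨h.mul_codes hx hy, ?_⟩
    show mulC 0 x y / 128 = 0
    rw [mulC_div (hlt hx), e, ← mulC_div (i := 0) (hlt hx), h.sq_codes hx]
  · intro y hy
    obtain ⟨hy, e⟩ := Finset.mem_filter.1 hy
    refine Finset.mem_filter.2 ⟨h.mul_codes hx hy, ?_⟩
    show mulC 0 x y / 128 = x / 128
    rw [mulC_div (hlt hx), e]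
    exact (lzero _ (by have := hlt hx; omega)).2
  · exact fun y hy => hinv y (Finset.mem_filter.1 hy).1
  · exact fun y hy => hinv y (Finset.mem_filter.1 hy).1

theorem Elem64.card_mul : h.image.card * h.low.card = 64 := by
  classical
  conv_rhs => rw [← h.card_codes, Finset.card_eq_sum_card_image (fun x => x / 128) h.codes]
  refine ((Finset.sum_congr rfl fun l hl => h.fibre hl).trans ?_).symm
  rw [Finset.sum_const, smul_eq_mul]

theorem Elem64.image_small : h.image.card = 1 ∨ h.image.card = 2 ∨ h.image.card = 4 := by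
  classical
  have h0 : 0 ∈ h.image := Finset.mem_image.2 ⟨0, h.zero_codes, rfl⟩
  have hinv : ∀ {l}, l ∈ h.image.erase 0 → l < 168 ∧ isInvL l = true := by
    intro l hl
    obtain ⟨hne, hl⟩ := Finset.mem_erase.1 hl
    obtain ⟨x, hx, rfl⟩ := Finset.mem_image.1 hl
    have hxlt := (h.mem_codes.1 hx).1
    refine ⟨by omega, ?_⟩
    rw [isInvL, ← mulC_div (i := 0) hxlt, h.sq_codes hx]
    simp [← Bool.not_eq_true]
    omega
  have hclosed : ∀ {l m}, l ∈ h.image → m ∈ h.image → lMul l m ∈ h.image ∧ lMul l m = lMul m l := by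
    intro l m hl hm
    obtain ⟨x, hx, rfl⟩ := Finset.mem_image.1 hl
    obtain ⟨y, hy, rfl⟩ := Finset.mem_image.1 hm
    have hc := h.comm_codes hx hy
    rw [commC, Nat.beq_eq] at hc
    refine ⟨Finset.mem_image.2 ⟨_, h.mul_codes hx hy, mulC_div (h.mem_codes.1 hx).1 y⟩, ?_⟩
    rw [← mulC_div (i := 0) (h.mem_codes.1 hx).1, ← mulC_div (i := 0) (h.mem_codes.1 hy).1, hc]
  have hc1 : (h.image.erase 0).card + 1 = h.image.card := Finset.card_erase_add_one h0
  have hne3 : h.image.card ≠ 3 := fun e => by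
    have := h.card_mul
    rw [e] at this
    omega
  by_contra hc
  obtain ⟨l, hl⟩ : (h.image.erase 0).Nonempty := Finset.card_pos.1 (by omega)
  obtain ⟨m, hm⟩ : ((h.image.erase 0).erase l).Nonempty :=
    Finset.card_pos.1 (by rw [Finset.card_erase_of_mem hl]; omega)
  obtain ⟨hml, hm'⟩ := Finset.mem_erase.1 hm
  obtain ⟨n, hn⟩ : (((h.image.erase 0).erase l).erase m |>.erase (lMul l m)).Nonempty := by
    refine Finset.card_pos.1 ?_
    have h1 := Finset.card_erase_of_mem hl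
    have h2 := Finset.card_erase_of_mem hm
    have h3 := Finset.pred_card_le_card_erase (a := lMul l m) (s := ((h.image.erase 0).erase l).erase m)
    omega
  simp only [Finset.mem_erase] at hn
  obtain ⟨hn1, hn2, hn3, hn'⟩ := hn
  have q := quot_ok
  rw [quotOK, allBelow_spec] at q
  have q1 := q l (hinv hl).1
  rw [(hinv hl).2, Bool.not_true, Bool.false_or, allBelow_spec] at q1
  have q2 := q1 m (hinv hm').1
  have cm : lMul l m = lMul m l := (hclosed (Finset.mem_of_mem_erase hl) (Finset.mem_of_mem_erase hm')).2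
  rw [(hinv hm').2, show Nat.beq m l = false from Bool.eq_false_iff.2 fun e => hml (Nat.eq_of_beq_eq_true e),
    show Nat.beq (lMul l m) (lMul m l) = true by rw [cm, Nat.beq_eq]] at q2
  simp only [Bool.not_false, Bool.and_self, Bool.not_true, Bool.false_or, allBelow_spec] at q2
  have hn'' := Finset.mem_erase.2 hn'
  have q3 := q2 n (hinv hn'').1
  rw [(hinv hn'').2, (hclosed (Finset.mem_of_mem_erase hl) hn'.2).2,
    (hclosed (Finset.mem_of_mem_erase hm') hn'.2).2] at q3
  simp [hn1, hn2, hn3] at q3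

/-- A code of the subgroup is moved to the representative of its class. -/
theorem Elem64.move {x : ℕ} (hx : x ∈ h.codes) (h0 : x ≠ 0) (hxt : x ≠ 64) :
    ∃ (E' : Subgroup G) (h' : Elem64 K E') (g : G) (k : ℕ), g * t = t * g ∧ k < ncls 0 ∧ k ≠ ktc 0 ∧
      E' = E.map (MulAut.conj g).toMonoidHom ∧ rep 0 k ∈ h'.codes ∧ (rep 0 k < 128 ↔ x < 128) ∧
      h'.low.card = h.low.card := by
  obtain ⟨hxlt, hxE⟩ := h.mem_codes.1 hx
  have hcls : clsOf 0 x ≠ 0 := fun e => by simpa [isInvC, e] using h.inv_codes hx h0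
  obtain ⟨w, hw, hwx⟩ := K.class_conj (by norm_num) hxlt hcls
  obtain ⟨_, hlt⟩ := clsOf_pos (by norm_num) hxlt hcls
  obtain ⟨k, hk⟩ : ∃ k, k = clsOf 0 x - 1 := ⟨_, rfl⟩
  rw [← hk] at hwx
  have hk0 : k < ncls 0 := hk ▸ hlt.lt
  have hr := ((classes_spec (i := 0) (by norm_num)).2.2.2.2 k hk0).1
  have hwt : w⁻¹ * t = t * w⁻¹ := by
    rw [inv_mul_eq_iff_eq_mul, ← mul_assoc, hw, mul_assoc, mul_inv_cancel, mul_one]
  have hkt : k ≠ ktc 0 := fun e => hxt (K.el_inj x hxlt 64 (by norm_num) (by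
    rw [← hwx, e, K.rep_kt (by norm_num), K.el_t, hw, mul_assoc, mul_inv_cancel, mul_one]))
  have h' := h.conj (g := w⁻¹) ⟨t, h.mem_t, by rw [hwt, mul_assoc, mul_inv_cancel, mul_one]⟩
  have hrE : K.el (rep 0 k) ∈ E.map (MulAut.conj w⁻¹).toMonoidHom :=
    ⟨_, hxE, by show w⁻¹ * K.el x * w⁻¹⁻¹ = _; rw [← hwx]; group⟩
  -- the image in the quotient of a moved code
  obtain ⟨c, hc, hce⟩ := K.surj w hw
  have key : ∀ y < 21504, ∀ z < 21504, K.el z = w⁻¹ * K.el y * w → (z < 128 ↔ y < 128) := by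
    intro y hy z hz e
    have e' : mulC 0 c z = mulC 0 y c := (K.mul_eq_iff hc hz (mulC_lt hy c)).1 (by
      rw [e, hce, ← K.el_mul y hy c hc, hce]; group)
    have el := congrArg (· / 128) e'
    simp only [mulC_div hc, mulC_div hy] at el
    have hcl : c / 128 < 168 := by omega
    constructor <;> intro hlt'
    · rw [show z / 128 = 0 by omega, (lzero _ hcl).2] at el
      by_contra hyy
      have hinvl : ∀ a < 168, ∀ b < 168, lMul a b = b → a = 0 := by
        have h : allBelow 168 (fun a => allBelow 168 fun b => !Nat.beq (lMul a b) b || Nat.beq a 0) = true := by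
          decide +kernel
        intro a ha b hb e
        have := allBelow_spec.1 (allBelow_spec.1 h a ha) b hb
        rw [e] at this
        simpa using this
      have := hinvl _ (by omega) _ hcl el.symm
      omega
    · rw [show y / 128 = 0 by omega, (lzero _ hcl).1] at el
      have := lcancel _ hcl _ (by omega) el
      omega
  refine ⟨_, h', w⁻¹, k, hwt, hk0, hkt, rfl, h'.mem_codes.2 ⟨hr, hrE⟩,
    key x hxlt _ hr (by rw [← hwx]; group), ?_⟩
  classical
  refine le_antisymm ?_ ?_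
  · refine Finset.card_le_card_of_injOn (fun z => mulC 0 (mulC 0 c z) (Classical.choose (K.surj w⁻¹ hwt))) ?_ ?_
    · intro z hz
      obtain ⟨hz, hz0⟩ := Finset.mem_filter.1 hz
      obtain ⟨hzlt, hzE⟩ := h'.mem_codes.1 hz
      obtain ⟨hi, hie⟩ := Classical.choose_spec (K.surj w⁻¹ hwt)
      have he : K.el (mulC 0 (mulC 0 c z) (Classical.choose (K.surj w⁻¹ hwt))) = w * K.el z * w⁻¹ := by
        rw [← K.el_mul _ (mulC_lt hc z) _ hi, ← K.el_mul c hc z hzlt, hce, hie]
      have hl := mulC_lt (i := 0) (mulC_lt (i := 0) hc z) (Classical.choose (K.surj w⁻¹ hwt))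
      refine Finset.mem_filter.2 ⟨h.mem_codes.2 ⟨hl, ?_⟩, ?_⟩
      · obtain ⟨y, hy, hye⟩ := hzE
        rw [he, ← hye]
        show w * (w⁻¹ * y * w⁻¹⁻¹) * w⁻¹ ∈ E
        simpa [mul_assoc] using hy
      · have := (key _ hl z hzlt (by rw [he]; group)).1 (by omega)
        dsimp only
        omega
    · intro z hz y hy e
      obtain ⟨hi, hie⟩ := Classical.choose_spec (K.surj w⁻¹ hwt)
      have hzlt := (h'.mem_codes.1 (Finset.mem_filter.1 hz).1).1
      have hylt := (h'.mem_codes.1 (Finset.mem_filter.1 hy).1).1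
      have e' := congrArg K.el e
      simp only [← K.el_mul _ (mulC_lt hc _) _ hi, ← K.el_mul c hc _ hzlt, ← K.el_mul c hc _ hylt] at e'
      exact K.el_inj _ hzlt _ hylt (mul_left_cancel (mul_right_cancel e'))
  · refine Finset.card_le_card_of_injOn (fun z => mulC 0 (mulC 0 (Classical.choose (K.surj w⁻¹ hwt)) z) c) ?_ ?_
    · intro z hz
      obtain ⟨hz, hz0⟩ := Finset.mem_filter.1 hz
      obtain ⟨hzlt, hzE⟩ := h.mem_codes.1 hz
      obtain ⟨hi, hie⟩ := Classical.choose_spec (K.surj w⁻¹ hwt)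
      have he : K.el (mulC 0 (mulC 0 (Classical.choose (K.surj w⁻¹ hwt)) z) c) = w⁻¹ * K.el z * w := by
        rw [← K.el_mul _ (mulC_lt hi z) _ hc, ← K.el_mul _ hi z hzlt, hce, hie]
      have hl := mulC_lt (i := 0) (mulC_lt (i := 0) hi z) c
      refine Finset.mem_filter.2 ⟨h'.mem_codes.2 ⟨hl, ?_⟩, ?_⟩
      · exact ⟨_, hzE, by rw [he]; show w⁻¹ * K.el z * w⁻¹⁻¹ = _; rw [inv_inv]⟩
      · have := (key z hzlt _ hl he).2 (by omega)
        dsimp only
        omega
    · intro z hz y hy e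
      obtain ⟨hi, hie⟩ := Classical.choose_spec (K.surj w⁻¹ hwt)
      have hzlt := (h.mem_codes.1 (Finset.mem_filter.1 hz).1).1
      have hylt := (h.mem_codes.1 (Finset.mem_filter.1 hy).1).1
      have e' := congrArg K.el e
      simp only [← K.el_mul _ (mulC_lt hi _) _ hc, ← K.el_mul _ hi _ hzlt, ← K.el_mul _ hi _ hylt] at e'
      exact K.el_inj _ hzlt _ hylt (mul_left_cancel (mul_right_cancel e'))

theorem Elem64.card_low : h.image.card = 4 ∧ h.low.card = 16 := by
  classical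
  have hm := h.card_mul
  suffices hlow : h.low.card < 32 by
    rcases h.image_small with e | e | e <;> rw [e] at hm <;> omega
  by_contra hge
  push Not at hge
  obtain ⟨x, hx⟩ : ((h.low.erase 0).erase 64).Nonempty := by
    refine Finset.card_pos.1 ?_
    have h1 := Finset.pred_card_le_card_erase (a := 0) (s := h.low)
    have h2 := Finset.pred_card_le_card_erase (a := 64) (s := h.low.erase 0)
    omega
  simp only [Finset.mem_erase] at hx
  obtain ⟨hx64, hx0, hx'⟩ := hx
  obtain ⟨hxc, hxq⟩ := Finset.mem_filter.1 hx'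
  obtain ⟨E', h', g, k, -, hk, hkt, -, hrc, hiff, hcard⟩ := h.move hxc hx0 hx64
  have hr128 : rep 0 k < 128 := hiff.2 (by omega)
  obtain ⟨hr, hrcls, -⟩ := (classes_spec (i := 0) (by norm_num)).2.2.2.2 k hk
  obtain ⟨r, hrdef⟩ : ∃ r, r = rep 0 k := ⟨_, rfl⟩
  rw [← hrdef] at hr128 hrc hrcls
  obtain ⟨b, hb⟩ : ((((h'.low.erase 0).erase 64).erase r).erase (mulC 0 r 64)).Nonempty := by
    refine Finset.card_pos.1 ?_
    have h1 := Finset.pred_card_le_card_erase (a := 0) (s := h'.low)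
    have h2 := Finset.pred_card_le_card_erase (a := 64) (s := h'.low.erase 0)
    have h3 := Finset.pred_card_le_card_erase (a := r) (s := (h'.low.erase 0).erase 64)
    have h4 := Finset.pred_card_le_card_erase (a := mulC 0 r 64) (s := ((h'.low.erase 0).erase 64).erase r)
    omega
  simp only [Finset.mem_erase] at hb
  obtain ⟨hb1, hb2, hb3, hb4, hb5⟩ := hb
  obtain ⟨hbc, hbq⟩ := Finset.mem_filter.1 hb5
  have q := q_ok'
  rw [qOK, allBelow_spec] at q
  have q1 := q k hk
  rw [show Nat.beq k (ktc 0) = false from Bool.eq_false_iff.2 fun e => hkt (Nat.eq_of_beq_eq_true e), ← hrdef,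
    show Nat.blt r 128 = true by rw [Nat.blt_eq]; exact hr128] at q1
  simp only [Bool.not_true, Bool.false_or, allBelow_spec] at q1
  have q2 := q1 b (by omega)
  have hne : Nat.beq (mulC 0 r b) 64 = false := Bool.eq_false_iff.2 fun e => hb1 (by
    have e' := Nat.eq_of_beq_eq_true e
    rw [← e']
    obtain ⟨hrl, hrE⟩ := h'.mem_codes.1 hrc
    obtain ⟨hbl, -⟩ := h'.mem_codes.1 hbc
    refine K.el_inj _ hbl _ (mulC_lt hrl _) ?_
    rw [← K.el_mul _ hrl _ (mulC_lt hrl b), ← K.el_mul _ hrl _ hbl, ← mul_assoc, h'.sq _ hrE, one_mul])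
  rw [h'.inv_codes hbc hb4, show Nat.beq b r = false from Bool.eq_false_iff.2 fun e => hb2 (Nat.eq_of_beq_eq_true e),
    show Nat.beq b 64 = false from Bool.eq_false_iff.2 fun e => hb3 (Nat.eq_of_beq_eq_true e), hne,
    h'.comm_codes hrc hbc] at q2
  simp only [Bool.not_false, Bool.and_self, Bool.not_true, Bool.false_or, Nat.ble_eq, countBelow_eq] at q2
  have hsub : h'.low.erase 0 ⊆ (Finset.range 128).filter
      (fun q => (isInvC q && (commC q r && commC q b)) = true) := by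
    intro q hq
    obtain ⟨hq0, hq⟩ := Finset.mem_erase.1 hq
    obtain ⟨hqc, hqq⟩ := Finset.mem_filter.1 hq
    refine Finset.mem_filter.2 ⟨Finset.mem_range.2 (by omega), ?_⟩
    rw [h'.inv_codes hqc hq0, h'.comm_codes hqc hrc, h'.comm_codes hqc hbc]
    rfl
  have := Finset.card_le_card hsub
  have := Finset.pred_card_le_card_erase (a := 0) (s := h'.low)
  omega

/-- Every such subgroup is a conjugate of a side in `C(t)`. -/
theorem Elem64.cases : ∃ a < 2, ∃ c, c * t = t * c ∧ ∀ y ∈ E, c * y * c⁻¹ ∈ eSub K a := by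
  classical
  obtain ⟨hi4, hl16⟩ := h.card_low
  obtain ⟨l, hl⟩ : (h.image.erase 0).Nonempty := by
    refine Finset.card_pos.1 ?_
    have := Finset.pred_card_le_card_erase (a := 0) (s := h.image)
    omega
  obtain ⟨hl0, hl⟩ := Finset.mem_erase.1 hl
  obtain ⟨x, hx, rfl⟩ := Finset.mem_image.1 hl
  obtain ⟨E', h', g, k, hg, hk, hkt, hE', hrc, hiff, -⟩ :=
    h.move hx (fun e => hl0 (by rw [e])) (fun e => hl0 (by rw [e]))
  suffices h2 : ∃ a < 2, ∃ c, c * t = t * c ∧ ∀ y ∈ E', c * y * c⁻¹ ∈ eSub K a by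
    obtain ⟨a, ha, c, hc, hcy⟩ := h2
    refine ⟨a, ha, c * g, by rw [mul_assoc, hg, ← mul_assoc, hc, mul_assoc], fun y hy => ?_⟩
    have := hcy (g * y * g⁻¹) (hE' ▸ ⟨y, hy, rfl⟩)
    rwa [show c * g * y * (c * g)⁻¹ = c * (g * y * g⁻¹) * c⁻¹ by group]
  obtain ⟨hi4', hl16'⟩ := h'.card_low
  obtain ⟨r, hrdef⟩ : ∃ r, r = rep 0 k := ⟨_, rfl⟩
  rw [← hrdef] at hrc hiff
  obtain ⟨hrl, hrE⟩ := h'.mem_codes.1 hrc
  have hr128 : ¬ r < 128 := fun e => by have := hiff.1 e; omega
  obtain ⟨m, hm⟩ : ((h'.image.erase 0).erase (r / 128)).Nonempty := by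
    refine Finset.card_pos.1 ?_
    have h1 := Finset.pred_card_le_card_erase (a := 0) (s := h'.image)
    have h2 := Finset.pred_card_le_card_erase (a := r / 128) (s := h'.image.erase 0)
    omega
  simp only [Finset.mem_erase] at hm
  obtain ⟨hmr, hm0, hm⟩ := hm
  obtain ⟨v, hv, rfl⟩ := Finset.mem_image.1 hm
  obtain ⟨hvl, hvE⟩ := h'.mem_codes.1 hv
  obtain ⟨j, hj, hje⟩ := (K.stab_iff (by norm_num) hk hkt (K.el v)).1
    ⟨K.mem v hvl, by rw [← hrdef]; exact h'.commute hvE hrE⟩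
  have hvj : v = stabEl 0 k j := (K.el_inj _ (K.stabEl_lt (by norm_num) hk hkt hj) _ hvl hje).symm
  have q := pair_ok
  simp only [pairOK, Bool.and_eq_true, Nat.beq_eq, allBelow_spec] at q
  obtain ⟨hI0, hI1, q⟩ := q
  have q1 := q k hk
  rw [show Nat.beq k (ktc 0) = false from Bool.eq_false_iff.2 fun e => hkt (Nat.eq_of_beq_eq_true e), ← hrdef,
    show Nat.blt r 128 = false from Bool.eq_false_iff.2 fun e => hr128 (by simpa [Nat.blt_eq] using e)] at q1
  simp only [Bool.false_or, allBelow_spec] at q1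
  have q2 := q1 j hj
  rw [← hvj, h'.inv_codes hv (fun e => hm0 (by rw [e])),
    show Nat.beq (v / 128) 0 = false from Bool.eq_false_iff.2 fun e => hm0 (Nat.eq_of_beq_eq_true e),
    show Nat.beq (v / 128) (r / 128) = false from Bool.eq_false_iff.2 fun e => hmr (Nat.eq_of_beq_eq_true e)] at q2
  simp only [Bool.not_false, Bool.and_self, Bool.not_true, Bool.false_or, Bool.or_eq_true, Nat.blt_eq,
    countBelow_eq] at q2
  have hsub : h'.low.erase 0 ⊆ (Finset.range 128).filter
      (fun q => (isInvC q && (commC q r && commC q v)) = true) := by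
    intro q hq
    obtain ⟨hq0, hq⟩ := Finset.mem_erase.1 hq
    obtain ⟨hqc, hqq⟩ := Finset.mem_filter.1 hq
    refine Finset.mem_filter.2 ⟨Finset.mem_range.2 (by omega), ?_⟩
    rw [h'.inv_codes hqc hq0, h'.comm_codes hqc hrc, h'.comm_codes hqc hv]
    rfl
  have hcard := Finset.card_le_card hsub
  have hp := Finset.pred_card_le_card_erase (a := 0) (s := h'.low)
  have q3 := q2.resolve_left (by omega)
  obtain ⟨a, ha, qa⟩ : ∃ a < 2, (inMoved a r && (inMoved a v && allBelow 128 fun q =>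
      !(isInvC q && (commC q r && commC q v)) || inMoved a q)) = true := by
    by_contra hc
    simp only [Bool.not_eq_true', Bool.eq_false_iff] at q3
    exact q3 (allBelow_spec.2 fun a ha => by
      rw [Bool.not_eq_true', Bool.eq_false_iff]
      exact fun e => hc ⟨a, ha, e⟩)
  simp only [Bool.and_eq_true, allBelow_spec] at qa
  obtain ⟨qr, qv, qq⟩ := qa
  have hC : moveC a < 21504 ∧ moveI a < 21504 ∧ K.el (moveI a) * K.el (moveC a) = 1 := by
    rcases a with _ | _ | a
    · exact ⟨Nat.le_of_ble_eq_true rfl, Nat.le_of_ble_eq_true rfl, by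
        rw [K.el_mul _ (Nat.le_of_ble_eq_true rfl) _ (Nat.le_of_ble_eq_true rfl), hI0, K.el_zero (by norm_num)]⟩
    · exact ⟨Nat.le_of_ble_eq_true rfl, Nat.le_of_ble_eq_true rfl, by
        rw [K.el_mul _ (Nat.le_of_ble_eq_true rfl) _ (Nat.le_of_ble_eq_true rfl), hI1, K.el_zero (by norm_num)]⟩
    · omega
  obtain ⟨hcl, hil, hic⟩ := hC
  have hmem : ∀ y < 21504, inMoved a y = true → K.el (moveI a) * K.el y * (K.el (moveI a))⁻¹ ∈ eSub K a := by
    intro y hy e
    rw [inMoved, Nat.blt_eq] at e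
    refine ⟨_, e, ?_⟩
    rw [spOf_spec e, inv_eq_of_mul_eq_one_right hic, K.el_mul _ hil _ hy, K.el_mul _ (mulC_lt hil y) _ hcl]
  refine ⟨a, ha, K.el (moveI a), K.mem _ hil, fun y hy => ?_⟩
  let M : Subgroup G := (eSub K a).comap (MulAut.conj (K.el (moveI a))).toMonoidHom
  show y ∈ M
  have hrM : K.el r ∈ M := hmem r hrl qr
  have hvM : K.el v ∈ M := hmem v hvl qv
  have hlowM : ∀ q ∈ h'.low, K.el q ∈ M := by
    intro q hq
    by_cases hq0 : q = 0
    · rw [hq0, K.el_zero (by norm_num)]; exact one_mem M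
    · obtain ⟨hqc, hqq⟩ := Finset.mem_filter.1 hq
      have := qq q (by omega)
      rw [h'.inv_codes hqc hq0, h'.comm_codes hqc hrc, h'.comm_codes hqc hv] at this
      exact hmem q (h'.mem_codes.1 hqc).1 (by simpa using this)
  obtain ⟨c, hc, rfl⟩ := K.surj y (h'.comm y hy)
  have hcc : c ∈ h'.codes := h'.mem_codes.2 ⟨hc, hy⟩
  have hrv := h'.mul_codes hrc hv
  have hrvdiv : mulC 0 r v / 128 = lMul (r / 128) (v / 128) := mulC_div hrl v
  -- the quotient has only the four listed elements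
  have himg : c / 128 = 0 ∨ c / 128 = r / 128 ∨ c / 128 = v / 128 ∨ c / 128 = mulC 0 r v / 128 := by
    have h0 : 0 ∈ h'.image := Finset.mem_image.2 ⟨0, h'.zero_codes, rfl⟩
    have hne1 : mulC 0 r v / 128 ≠ 0 := fun e => hmr (by
      have h1 := mulC_div (i := 0) hrl (mulC 0 r v)
      rw [e, (lzero _ (by omega)).2, show mulC 0 r (mulC 0 r v) = v from K.el_inj _ (mulC_lt hrl _) _ hvl (by
        rw [← K.el_mul _ hrl _ (mulC_lt hrl v), ← K.el_mul _ hrl _ hvl, ← mul_assoc, h'.sq _ hrE, one_mul])] at h1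
      exact h1)
    have hne2 : mulC 0 r v / 128 ≠ r / 128 := fun e => hm0 (lcancel _ (by omega) _ (by omega) (hrvdiv ▸ e))
    have hne3 : mulC 0 r v / 128 ≠ v / 128 := fun e => by
      have hx : mulC 0 v (mulC 0 r v) = r := K.el_inj _ (mulC_lt hvl _) _ hrl (by
        rw [← K.el_mul _ hvl _ (mulC_lt hrl v), ← K.el_mul _ hrl _ hvl, h'.commute hrE hvE, ← mul_assoc,
          h'.sq _ hvE, one_mul])
      have h1 := mulC_div (i := 0) hvl (mulC 0 r v)
      rw [e, hx, ← mulC_div (i := 0) hvl v, h'.sq_codes hv] at h1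
      omega
    have hset : h'.image = {0, r / 128, v / 128, mulC 0 r v / 128} := by
      refine (Finset.eq_of_subset_of_card_le ?_ ?_).symm
      · intro z hz
        simp only [Finset.mem_insert, Finset.mem_singleton] at hz
        rcases hz with rfl | rfl | rfl | rfl
        · exact h0
        · exact Finset.mem_image.2 ⟨r, hrc, rfl⟩
        · exact Finset.mem_image.2 ⟨v, hv, rfl⟩
        · exact Finset.mem_image.2 ⟨_, hrv, rfl⟩
      · rw [hi4', Finset.card_insert_of_notMem, Finset.card_insert_of_notMem, Finset.card_insert_of_notMem,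
          Finset.card_singleton]
        · simp [Ne.symm hne3]
        · simp only [Finset.mem_insert, Finset.mem_singleton, not_or]
          exact ⟨Ne.symm hmr, Ne.symm hne2⟩
        · simp only [Finset.mem_insert, Finset.mem_singleton, not_or]
          exact ⟨by omega, Ne.symm hm0, Ne.symm hne1⟩
    have hcm : c / 128 ∈ h'.image := Finset.mem_image.2 ⟨c, hcc, rfl⟩
    simpa [hset] using hcm
  have hstep : ∀ z, z ∈ h'.codes → K.el z ∈ M → c / 128 = z / 128 → K.el c ∈ M := by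
    intro z hz hzM e
    obtain ⟨hzl, hzE⟩ := h'.mem_codes.1 hz
    have hq : mulC 0 z c ∈ h'.low := Finset.mem_filter.2 ⟨h'.mul_codes hz hcc, by
      show mulC 0 z c / 128 = 0
      rw [mulC_div hzl, e, ← mulC_div (i := 0) hzl, h'.sq_codes hz]⟩
    have := mul_mem hzM (hlowM _ hq)
    rwa [← K.el_mul _ hzl _ hc, ← mul_assoc, h'.sq _ hzE, one_mul] at this
  rcases himg with e | e | e | e
  · exact hstep 0 h'.zero_codes (by rw [K.el_zero (by norm_num)]; exact one_mem M) e
  · exact hstep r hrc hrM e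
  · exact hstep v hv hvM e
  · exact hstep _ hrv (by rw [← K.el_mul _ hrl _ hvl]; exact mul_mem hrM hvM) e

end Classify

/-- The common Sylow subgroup. -/
noncomputable def sylSub : Subgroup G where
  carrier := {x | ∃ c < 21504, inD (c / 128) = true ∧ K.el c = x}
  one_mem' := ⟨0, by norm_num, rfl, K.el_zero (by norm_num)⟩
  mul_mem' := by
    rintro _ _ ⟨a, ha, da, rfl⟩ ⟨b, hb, db, rfl⟩
    refine ⟨mulC 0 a b, mulC_lt ha b, ?_, (K.el_mul a ha b hb).symm⟩
    have h := sylow_ok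
    simp only [sylowOK, Bool.and_eq_true, allBelow_spec, Bool.or_eq_true, Bool.not_eq_true'] at h
    have h1 := ((h.2.1 (a / 128) (by omega)).resolve_left (by rw [da]; simp)).2.1 (b / 128) (by omega)
    rw [mulC_div ha]
    exact h1.resolve_left (by rw [db]; simp)
  inv_mem' := by
    intro x hx
    let M : Submonoid G :=
      { carrier := {x | ∃ c < 21504, inD (c / 128) = true ∧ K.el c = x}
        one_mem' := ⟨0, by norm_num, rfl, K.el_zero (by norm_num)⟩
        mul_mem' := by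
          rintro _ _ ⟨a, ha, da, rfl⟩ ⟨b, hb, db, rfl⟩
          refine ⟨mulC 0 a b, mulC_lt ha b, ?_, (K.el_mul a ha b hb).symm⟩
          have h := sylow_ok
          simp only [sylowOK, Bool.and_eq_true, allBelow_spec, Bool.or_eq_true, Bool.not_eq_true'] at h
          have h1 := ((h.2.1 (a / 128) (by omega)).resolve_left (by rw [da]; simp)).2.1 (b / 128) (by omega)
          rw [mulC_div ha]
          exact h1.resolve_left (by rw [db]; simp) }
    show x⁻¹ ∈ M
    rw [show x⁻¹ = x ^ (orderOf x - 1) from inv_eq_of_mul_eq_one_right (by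
      rw [← pow_succ', Nat.sub_add_cancel (orderOf_pos x), pow_orderOf_eq_one])]
    exact pow_mem (S := M) hx _

theorem card_sylSub : Nat.card (sylSub K) = 1024 := by
  have h := sylow_ok
  simp only [sylowOK, Bool.and_eq_true, Nat.beq_eq] at h
  rw [← h.2.2.1]
  exact card_eq_countBelow K.el 21504 _ (· ∈ sylSub K) (fun a ha b hb => K.el_inj a ha b hb)
    (fun a ha => ⟨fun e => ⟨a, ha, e, rfl⟩, fun ⟨c, hc, hd, e⟩ => by rwa [← K.el_inj c hc a ha e]⟩)
    fun x ⟨c, hc, _, e⟩ => ⟨c, hc, e⟩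

theorem xor_pow_add : ∀ n < 6, ∀ w < 2 ^ n, Nat.xor w (2 ^ n) = w + 2 ^ n := by decide

theorem normalises_side {x xi : ℕ} (h : normsBoth x xi = true) {a : ℕ} (ha : a < 2) :
    K.el x ∈ normalizer (eSub K a : Set G) := by
  simp only [normsBoth, Bool.and_eq_true, Nat.blt_eq, Nat.beq_eq, allBelow_spec] at h
  obtain ⟨hx, hxi, hinv, hb⟩ := h
  have hi : (K.el x)⁻¹ = K.el xi := inv_eq_of_mul_eq_one_left (by
    rw [K.el_mul _ hxi _ hx, hinv, K.el_zero (by norm_num)])
  obtain ⟨h0, -, -, H⟩ := eOK_spec (sideE_ok a)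
  have hgen : ∀ n ≤ 6, ∀ v < 2 ^ n, K.el x * K.el (eAt (sideE a) v) * (K.el x)⁻¹ ∈ eSub K a := by
    intro n hn
    induction n with
    | zero =>
      intro v hv
      obtain rfl : v = 0 := by simpa using hv
      rw [h0, K.el_zero (by norm_num), mul_one, mul_inv_cancel]
      exact one_mem _
    | succ n ih =>
      intro v hv
      by_cases hvn : v < 2 ^ n
      · exact ih (by omega) v hvn
      · have hp : 2 ^ (n + 1) ≤ 64 := le_trans (Nat.pow_le_pow_right two_pos hn) (by norm_num)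
        rw [pow_succ] at hp hv
        have hw : v - 2 ^ n < 2 ^ n := by omega
        have e : Nat.xor (v - 2 ^ n) (2 ^ n) = v := by rw [xor_pow_add n (by omega) _ hw]; omega
        have hb1 : K.el x * K.el (eAt (sideE a) (2 ^ n)) * (K.el x)⁻¹ ∈ eSub K a := by
          have hbn := hb a ha n (by omega)
          refine ⟨_, hbn, ?_⟩
          rw [spOf_spec hbn, hi, K.el_mul _ hx _ (H _ (by omega)).1, K.el_mul _ (mulC_lt hx _) _ hxi]
        rw [← e, ← (H _ (by omega)).2.2 _ (by omega), ← K.el_mul _ (H _ (by omega)).1 _ (H _ (by omega)).1,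
          show ∀ p q : G, K.el x * (p * q) * (K.el x)⁻¹ =
            K.el x * p * (K.el x)⁻¹ * (K.el x * q * (K.el x)⁻¹) by intros; group]
        exact mul_mem (ih (by omega) _ hw) hb1
  refine mem_normalizer_iff_map_conj_eq.2 (eq_of_le_of_card_ge ?_ ?_)
  · rintro _ ⟨_, ⟨v, hv, rfl⟩, rfl⟩
    exact hgen 6 le_rfl v (by simpa using hv)
  · exact (Nat.card_congr ((eSub K a).equivMapOfInjective _ (MulAut.conj (K.el x)).injective).toEquiv).le

theorem sylSub_le {a : ℕ} (ha : a < 2) : sylSub K ≤ normalizer (eSub K a : Set G) := by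
  rintro _ ⟨c, hc, hd, rfl⟩
  have h := sylow_ok
  simp only [sylowOK, Bool.and_eq_true, allBelow_spec, Bool.or_eq_true, Bool.not_eq_true', Nat.beq_eq] at h
  have hq := normalises_side K (h.1 (c % 128) (by omega)) ha
  obtain ⟨hl, -, he⟩ := (h.2.1 (c / 128) (by omega)).resolve_left (by rw [hd]; simp)
  have hl' := normalises_side K hl ha
  have e := he (c % 128) (by omega)
  have := mul_mem hq hl'
  rwa [K.el_mul _ (by omega) _ (by omega), e, Nat.mod_add_div c 128] at this

theorem sylSub_centre {x : G} (hx : x ∈ sylSub K) (h1 : x ≠ 1) (hc : ∀ y ∈ sylSub K, x * y = y * x) : x = t := by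
  obtain ⟨c, hc', hd, rfl⟩ := hx
  have h := sylow_ok
  simp only [sylowOK, Bool.and_eq_true, allBelow_spec, Bool.or_eq_true, Bool.not_eq_true', Nat.beq_eq] at h
  have hh := ((h.2.2.2.1 (c / 128) (by omega)).resolve_left (by rw [hd]; simp)) (c % 128) (by omega)
  have e : c % 128 + 128 * (c / 128) = c := Nat.mod_add_div c 128
  rw [e] at hh
  rcases hh with ⟨hl, hq⟩ | hh | hh
  · rcases hq with hq | hq
    · exact absurd (by rw [show c = 0 by omega, K.el_zero (by norm_num)]) h1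
    · rw [show c = 64 by omega, K.el_t]
  · exfalso
    rw [Bool.eq_false_iff] at hh
    exact hh (allBelow_spec.2 fun r hr => (commC_iff K hc' (by omega)).2
      (hc _ ⟨r, by omega, by rw [show r / 128 = 0 by omega]; rfl, rfl⟩))
  · exfalso
    rw [Bool.eq_false_iff] at hh
    refine hh (allBelow_spec.2 fun m hm => ?_)
    cases hdm : inD m
    · rfl
    · exact (commC_iff K hc' (by omega)).2
        (hc _ ⟨128 * m, by omega, by rw [Nat.mul_div_cancel_left _ (by norm_num)]; exact hdm, rfl⟩)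

/-- The sides are not fused. -/
theorem no_fusion (hS : ∃ P : Sylow 2 G, (P : Subgroup G) ≤ centralizer {t}) {n : G}
    (hn : ∀ y ∈ eSub K 0, n * y * n⁻¹ ∈ eSub K 1) : False := by
  have : Fact (Nat.Prime 2) := ⟨Nat.prime_two⟩
  have hmap : (eSub K 0).map (MulAut.conj n).toMonoidHom = eSub K 1 := by
    refine eq_of_le_of_card_ge ?_ ?_
    · rintro _ ⟨y, hy, rfl⟩
      exact hn y hy
    · rw [card_eSub, ← Nat.card_congr ((eSub K 0).equivMapOfInjective _ (MulAut.conj n).injective).toEquiv,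
        card_eSub]
  obtain ⟨P, hP⟩ := hS
  obtain ⟨Q, hQ⟩ := (IsPGroup.of_card (p := 2) (n := 10) ((card_sylSub K).trans (by norm_num))).exists_le_sylow
  have hQS : (Q : Subgroup G) = sylSub K := by
    refine (eq_of_le_of_card_ge hQ ?_).symm
    have h1 : Nat.card (P : Subgroup G) ∣ 21504 := by
      rw [← K.card_cent, show Nat.card {g : G // g * t = t * g} = Nat.card (centralizer ({t} : Set G)) from
        Nat.card_congr (Equiv.subtypeEquivRight fun x => mem_centralizer_singleton_iff.symm)]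
      exact card_dvd_of_le hP
    obtain ⟨e, he⟩ := IsPGroup.iff_card.1 P.2
    have he10 : e ≤ 10 := by
      by_contra hc
      rw [he] at h1
      exact absurd ((pow_dvd_pow 2 (show 11 ≤ e by omega)).trans h1) (by norm_num)
    rw [Nat.card_congr (P.equiv Q).toEquiv] at he
    rw [he, card_sylSub]
    exact le_trans (Nat.pow_le_pow_right two_pos he10) (by norm_num)
  set N := normalizer (eSub K 1 : Set G) with hN
  have h1 : (Q : Subgroup G) ≤ N := hQS ▸ sylSub_le K (by norm_num)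
  have h2 : ((n • Q : Sylow 2 G) : Subgroup G) ≤ N := by
    rintro _ ⟨y, hy, rfl⟩
    rw [hN, mem_normalizer_iff_map_conj_eq]
    have hy' := mem_normalizer_iff_map_conj_eq.1 (sylSub_le K (a := 0) (by norm_num) (hQS ▸ hy))
    show (eSub K 1).map (MulAut.conj (n * y * n⁻¹)).toMonoidHom = eSub K 1
    rw [← hmap, map_map]
    conv_rhs => rw [← hy', map_map]
    congr 1
    ext z
    simp [MulAut.conj_apply, mul_assoc]
  obtain ⟨m, hm⟩ := MulAction.exists_smul_eq N ((n • Q).subtype h2) (Q.subtype h1)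
  rw [Sylow.smul_subtype] at hm
  have hm' : ((m : G) * n) • Q = Q := by
    rw [mul_smul]
    exact Sylow.subtype_injective hm
  rw [Sylow.smul_eq_iff_mem_normalizer] at hm'
  have hQn : ∀ y, y ∈ (Q : Subgroup G) ↔ (m : G) * n * y * ((m : G) * n)⁻¹ ∈ (Q : Subgroup G) :=
    fun y => mem_normalizer_iff.1 hm' y
  have htS : t ∈ sylSub K := ⟨64, by norm_num, rfl, K.el_t⟩
  have hz : (m : G) * n * t * ((m : G) * n)⁻¹ = t := by
    refine sylSub_centre K (hQS ▸ (hQn t).1 (hQS ▸ htS)) ?_ ?_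
    · intro e
      exact K.ne_one_t (by norm_num) (conj_eq_one_iff.1 e)
    · intro y hy
      have hy' : ((m : G) * n)⁻¹ * y * ((m : G) * n) ∈ sylSub K := by
        rw [← hQS, hQn]
        simpa [mul_assoc] using hQS ▸ hy
      obtain ⟨c, hc, -, hce⟩ := hy'
      have hcomm : K.el c * t = t * K.el c := K.mem c hc
      rw [hce] at hcomm
      calc (m : G) * n * t * ((m : G) * n)⁻¹ * y
          = (m : G) * n * (t * (((m : G) * n)⁻¹ * y * ((m : G) * n))) * ((m : G) * n)⁻¹ := by group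
        _ = (m : G) * n * ((((m : G) * n)⁻¹ * y * ((m : G) * n)) * t) * ((m : G) * n)⁻¹ := by rw [hcomm]
        _ = _ := by group
  obtain ⟨x, hx, hxe⟩ := K.surj _ (mul_inv_eq_iff_eq_mul.1 hz)
  have hfix : (eSub K 1).map (MulAut.conj (m : G)).toMonoidHom = eSub K 1 :=
    mem_normalizer_iff_map_conj_eq.1 m.2
  have hxmap : ∀ y ∈ eSub K 0, K.el x * y * (K.el x)⁻¹ ∈ eSub K 1 := fun y hy => by
    rw [hxe, ← hfix]
    exact ⟨n * y * n⁻¹, hn y hy, by show (m : G) * (n * y * n⁻¹) * (m : G)⁻¹ = _; group⟩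
  have h := sylow_ok
  simp only [sylowOK, Bool.and_eq_true, allBelow_spec, Bool.not_eq_true', Nat.beq_eq] at h
  obtain ⟨-, -, -, -, ⟨hV, hwit⟩, hsep⟩ := h
  have hs := hsep (x / 128) (by omega)
  rw [Bool.eq_false_iff] at hs
  refine hs (allBelow_spec.2 fun k hk => ?_)
  rw [Bool.not_eq_true', Bool.eq_false_iff]
  intro hall
  obtain ⟨v, hv, hve⟩ : ∃ v < 64, eAt eDataA v / 128 = [87, 99, 141].getD k 0 := by
    by_contra hc
    have h' := hwit k hk
    rw [Bool.eq_false_iff] at h'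
    exact h' (allBelow_spec.2 fun v hv => by
      rw [Bool.not_eq_true', Bool.eq_false_iff]
      exact fun e => hc ⟨v, hv, Nat.eq_of_beq_eq_true e⟩)
  obtain ⟨-, -, -, HA⟩ := eOK_spec (sideE_ok 0)
  obtain ⟨-, -, -, HB⟩ := eOK_spec (sideE_ok 1)
  obtain ⟨w, hw, hwe⟩ := hxmap _ ⟨v, hv, rfl⟩
  have e1 : mulC 0 (eAt (sideE 1) w) x = mulC 0 x (eAt (sideE 0) v) :=
    (K.mul_eq_iff (HB w hw).1 hx (mulC_lt hx _)).1 (by
      rw [hwe, ← K.el_mul _ hx _ (HA v hv).1]; group)
  have e2 := congrArg (· / 128) e1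
  simp only [mulC_div (HB w hw).1, mulC_div hx] at e2
  have hm2 := allBelow_spec.1 hall (eAt (sideE 1) w / 128) (by have := (HB w hw).1; omega)
  have hVB : inVB (eAt (sideE 1) w / 128) = true := hV 1 (by norm_num) w hw
  rw [show eAt (sideE 0) v / 128 = [87, 99, 141].getD k 0 from hve] at e2
  rw [hVB, e2] at hm2
  simp at hm2

/-- The hypotheses on a side. -/
theorem sideHyp_of (hS : ∃ P : Sylow 2 G, (P : Subgroup G) ≤ centralizer {t}) {s : SideData} {a : ℕ}
    (ha : a < 2) (he : s.e = sideE a) (hn : normOK s = true) (hm : matsOK s = true) (hcol : K.mask = s.mask) :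
    SideHyp K s := by
  refine ⟨he ▸ sideE_ok a, hn, hm, hcol, fun v hv hc => ?_⟩
  obtain ⟨-, -, -, H⟩ := eOK_spec (sideE_ok a)
  have hconj : IsConj (K.el (eAt (sideE a) v)) t := by
    rw [K.mask_spec (by norm_num) (H v hv).1, hcol]
    simpa [colT, he, Nat.blt_eq, Nat.pos_iff_ne_zero] using hc
  obtain ⟨g, hg⟩ := isConj_iff.1 hconj
  obtain ⟨b, hb, c, hct, hc'⟩ := ((elem64_eSub K a).conj (g := g) ⟨_, ⟨v, hv, rfl⟩, hg⟩).cases
  have hmove : ∀ y ∈ eSub K a, c * g * y * (c * g)⁻¹ ∈ eSub K b := fun y hy => by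
    rw [show c * g * y * (c * g)⁻¹ = c * (g * y * g⁻¹) * c⁻¹ by group]
    exact hc' _ ⟨y, hy, rfl⟩
  obtain rfl : b = a := by
    by_contra hne
    have hrev : ∀ y ∈ eSub K b, (c * g)⁻¹ * y * (c * g)⁻¹⁻¹ ∈ eSub K a := by
      have hmap : (eSub K a).map (MulAut.conj (c * g)).toMonoidHom = eSub K b := by
        refine eq_of_le_of_card_ge ?_ ?_
        · rintro _ ⟨y, hy, rfl⟩
          exact hmove y hy
        · rw [card_eSub, ← Nat.card_congr ((eSub K a).equivMapOfInjective _ (MulAut.conj (c * g)).injective).toEquiv,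
            card_eSub]
      intro y hy
      obtain ⟨z, hz, rfl⟩ := hmap.symm ▸ hy
      simpa [MulAut.conj_apply, mul_assoc] using hz
    obtain ⟨rfl, rfl⟩ | ⟨rfl, rfl⟩ : (a = 0 ∧ b = 1) ∨ (a = 1 ∧ b = 0) := by omega
    · exact no_fusion K hS hmove
    · exact no_fusion K hS hrev
  rw [he]
  refine ⟨c * g, fun w hw => ?_, ?_⟩
  · obtain ⟨u, hu, hue⟩ := hmove _ ⟨w, hw, rfl⟩
    exact ⟨u, hu, hue.symm⟩
  · rw [show c * g * K.el (eAt (sideE b) v) * (c * g)⁻¹ = c * (g * K.el (eAt (sideE b) v) * g⁻¹) * c⁻¹ by group,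
      hg, hct, mul_assoc, mul_inv_cancel, mul_one]

end CfsgLib.Recog.Held
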