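import Cfsg.Agent.Lib.Recog.Held.LocalDefs

set_option autoImplicit false

/-!
The checks for the elementary subgroups of order 64 of candidate 0 and for their common Sylow two-subgroup
(owner: helper25).
-/

namespace CfsgLib.Recog.Held

/-- The code of an involution of the extraspecial subgroup or outside it. -/
noncomputable def isInvC (x : ℕ) : Bool := !Nat.beq (clsOf 0 x) 0

/-- Two codes commute. -/
noncomputable def commC (x y : ℕ) : Bool := Nat.beq (mulC 0 x y) (mulC 0 y x)

/-- An involution of the quotient. -/
noncomputable def isInvL (l : ℕ) : Bool := !Nat.beq l 0 && Nat.beq (lMul l l) 0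

/-- Three commuting involutions of the quotient lie in a four-group. -/
noncomputable def quotOK : Bool :=
  allBelow 168 fun l => !isInvL l || allBelow 168 fun m =>
    !(isInvL m && (!Nat.beq m l && Nat.beq (lMul l m) (lMul m l))) || allBelow 168 fun n =>
      !(isInvL n && (Nat.beq (lMul l n) (lMul n l) && Nat.beq (lMul m n) (lMul n m))) ||
        (Nat.beq n l || (Nat.beq n m || Nat.beq n (lMul l m)))

/-- The extraspecial subgroup has no elementary subgroup of order 32 through `t`. -/
noncomputable def qOK : Bool :=
  allBelow (ncls 0) fun k => Nat.beq k (ktc 0) || (!Nat.blt (rep 0 k) 128 || allBelow 128 fun b =>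
    !(isInvC b && (!Nat.beq b (rep 0 k) && (!Nat.beq b 64 && (!Nat.beq (mulC 0 (rep 0 k) b) 64 &&
      commC (rep 0 k) b)))) ||
      Nat.ble (countBelow 128 fun q => isInvC q && (commC q (rep 0 k) && commC q b)) 30)

/-- The codes of a side. -/
noncomputable def sideE (a : ℕ) : ℕ := cond (Nat.beq a 0) eDataA eDataB
/-- A conjugating code. -/
noncomputable def moveC (a : ℕ) : ℕ := cond (Nat.beq a 0) 2304 2048
/-- Its inverse. -/
noncomputable def moveI (a : ℕ) : ℕ := cond (Nat.beq a 0) 1280 4224
/-- The code lies in the moved side. -/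
noncomputable def inMoved (a y : ℕ) : Bool :=
  Nat.blt (spOf (sideE a) (mulC 0 (mulC 0 (moveI a) y) (moveC a))) 64

/-- An involution outside the extraspecial subgroup and one commuting with it determine a moved side. -/
noncomputable def pairOK : Bool :=
  Nat.beq (mulC 0 (moveI 0) (moveC 0)) 0 && (Nat.beq (mulC 0 (moveI 1) (moveC 1)) 0 &&
    allBelow (ncls 0) fun k => Nat.beq k (ktc 0) || (Nat.blt (rep 0 k) 128 || allBelow (hsz 0 k) fun j =>
      !(isInvC (stabEl 0 k j) && (!Nat.beq (stabEl 0 k j / 128) 0 &&
          !Nat.beq (stabEl 0 k j / 128) (rep 0 k / 128))) ||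
        (Nat.blt (countBelow 128 fun q => isInvC q && (commC q (rep 0 k) && commC q (stabEl 0 k j))) 15 ||
          !allBelow 2 fun a => !(inMoved a (rep 0 k) && (inMoved a (stabEl 0 k j) && allBelow 128 fun q =>
            !(isInvC q && (commC q (rep 0 k) && commC q (stabEl 0 k j))) || inMoved a q)))))

/-- The image of the common Sylow subgroup. -/
noncomputable def inD (l : ℕ) : Bool :=
  [0, 47, 54, 87, 96, 99, 128, 141].any fun d => Nat.beq l d

/-- The image of the first side. -/
noncomputable def inVA (l : ℕ) : Bool := [0, 87, 99, 141].any fun d => Nat.beq l d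
/-- The image of the second side. -/
noncomputable def inVB (l : ℕ) : Bool := [0, 87, 96, 128].any fun d => Nat.beq l d

/-- The lifts of the image have the listed inverses. -/
noncomputable def dInv (l : ℕ) : ℕ :=
  cond (Nat.beq l 0) 0 (cond (Nat.beq l 47) 6912 (cond (Nat.beq l 54) 6016 (cond (Nat.beq l 87) 11136
    (cond (Nat.beq l 96) 12288 (cond (Nat.beq l 99) 12672 (cond (Nat.beq l 128) 16384 18048))))))

/-- A code and a listed inverse normalise both sides. -/
noncomputable def normsBoth (x xi : ℕ) : Bool :=
  Nat.blt x 21504 && (Nat.blt xi 21504 && (Nat.beq (mulC 0 xi x) 0 && allBelow 2 fun a => allBelow 6 fun b =>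
    Nat.blt (spOf (sideE a) (mulC 0 (mulC 0 x (eAt (sideE a) (2 ^ b))) xi)) 64))

/-- The Sylow subgroup normalises both sides, has centre `⟨t⟩`, and the images are not conjugate. -/
noncomputable def sylowOK : Bool :=
  allBelow 128 (fun q => normsBoth q (mulC 0 (mulC 0 q q) q)) &&
    (allBelow 168 (fun l => !inD l || (normsBoth (128 * l) (dInv l) &&
      (allBelow 168 (fun m => !inD m || inD (lMul l m)) &&
        allBelow 128 fun q => Nat.beq (mulC 0 q (128 * l)) (q + 128 * l)))) &&
    (Nat.beq (countBelow 21504 fun x => inD (x / 128)) 1024 &&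
    (allBelow 168 (fun l => !inD l || allBelow 128 fun q => (Nat.beq l 0 && (Nat.beq q 0 || Nat.beq q 64)) ||
      (!allBelow 128 (fun r => commC (q + 128 * l) r) ||
        !allBelow 168 fun m => !inD m || commC (q + 128 * l) (128 * m))) &&
    (allBelow 2 (fun a => allBelow 64 fun v => cond (Nat.beq a 0) inVA inVB (eAt (sideE a) v / 128)) &&
    allBelow 3 (fun k => !allBelow 64 fun v =>
      !Nat.beq (eAt eDataA v / 128) ([87, 99, 141].getD k 0)) &&
    allBelow 168 fun l => !allBelow 3 fun k => !allBelow 168 fun m =>
      !(inVB m && Nat.beq (lMul l ([87, 99, 141].getD k 0)) (lMul m l))))))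

end CfsgLib.Recog.Held
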