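import Cfsg.Agent.Lib.Recog.Held.LocalGlueDefs

set_option autoImplicit false

/-!
The checks on the fusion inside the subgroup generated by the letters (owner: helper25).
-/

namespace CfsgLib.Recog.Held

/-- The data of the fusion for one pattern. -/
structure FusData where
  /-- the coloured classes -/
  mask : ℕ
  /-- an element moving `v` to `vy` -/
  sigma : ℕ
  /-- a coloured involution -/
  fourA : ℕ
  /-- one commuting with it -/
  fourB : ℕ
  /-- an element with two coloured translates -/
  mixA : ℕ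
  /-- the second translation -/
  mixZ : ℕ
  /-- an element with at most one coloured translate -/
  mixB : ℕ
  /-- the coloured elements of `S` from representatives -/
  orbit : List (List ℕ)
  /-- the witnesses of the representatives -/
  witness : List (List (List ℕ))
  /-- the witnesses of the classes -/
  single : List (List (List ℕ))

/-- The code of `y`. -/
def cyY : ℕ := 10
/-- The code of `v`. -/
def cvV : ℕ := 11458
/-- The code of `v y`. -/
def cvY : ℕ := 11464

/-- The row of the complement with the given matrix, `48` if there is none. -/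
noncomputable def findJ (s : SideData) (A : ℕ) : ℕ :=
  Nat.rec (motive := fun _ => ℕ) 48 (fun j ih => cond (Nat.beq (kMat s j) A) j ih) 48

/-- Conjugation of one code by a code. -/
noncomputable def moveC1 (g gi x : ℕ) : ℕ := mulC 0 (mulC 0 g x) gi

/-- Conjugation of one code by a pair. -/
noncomputable def moveM1 (s : SideData) (P Q : ℕ × ℕ) (v j x : ℕ) : Option ℕ :=
  if witOK' s x v j && Nat.blt (findJ s (pMul (pMul P (kPair s v j)) Q).2) 48 then
    some (nEl s (pMul (pMul P (kPair s v j)) Q).1 (findJ s (pMul (pMul P (kPair s v j)) Q).2))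
  else none

/-- Conjugation of a triple by the value of a word on a side. -/
noncomputable def moveM3 (s : SideData) (L : List (List ℕ)) (N : ℕ × ℕ) (w : List ℕ) (a b c d e f : ℕ) :
    List ℕ → Option (List ℕ)
  | [x, y, z] =>
    match evalW s L N w, evalW s L N w.reverse with
    | some P, some Q =>
      match moveM1 s P Q a b x, moveM1 s P Q c d y, moveM1 s P Q e f z with
      | some x', some y', some z' => some [x', y', z']
      | _, _, _ => none
    | _, _ => none
  | _ => none

/-- One step of a witness. -/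
noncomputable def moveStep (sA sB : SideData) (d : GlueData) : List ℕ → List ℕ → Option (List ℕ)
  | [0, g, gi], [x, y, z] =>
    if Nat.blt g 21504 && (Nat.blt gi 21504 && (Nat.beq (mulC 0 gi g) 0 &&
        (Nat.blt x 21504 && (Nat.blt y 21504 && Nat.blt z 21504)))) then
      some [moveC1 g gi x, moveC1 g gi y, moveC1 g gi z]
    else none
  | 1 :: a :: b :: c :: e :: f :: g :: w, T => moveM3 sA d.letA (nPair d) w a b c e f g T
  | 2 :: a :: b :: c :: e :: f :: g :: w, T => moveM3 sB d.letB (d.f0, d.bm) w a b c e f g T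
  | _, _ => none

/-- All steps. -/
noncomputable def runSteps (sA sB : SideData) (d : GlueData) : List (List ℕ) → List ℕ → Option (List ℕ)
  | [], T => some T
  | s :: r, T => match moveStep sA sB d s T with
    | some T' => runSteps sA sB d r T'
    | none => none

/-- A coloured code. -/
noncomputable def colC (m x : ℕ) : Bool := Nat.blt 0 (clsOf 0 x) && bitOn m (clsOf 0 x - 1)

/-- The code lies in the four-group. -/
noncomputable def inW (x : ℕ) : Bool :=
  Nat.beq x 0 || (Nat.beq x cyY || (Nat.beq x cvV || Nat.beq x cvY))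

/-- A witness of a representative reaches `t`, keeping `y` and `v` if it can. -/
noncomputable def witnessOK (sA sB : SideData) (d : GlueData) : List (List ℕ) → Bool
  | [r] :: steps =>
    match runSteps sA sB d steps [r, cyY, cvV] with
    | some [a, b, c] => Nat.beq a 64 && (Nat.blt b 21504 && ((Nat.beq b cyY && (Nat.beq c cvV || Nat.beq c cvY)) ||
        (Nat.blt 0 (clsOf 0 b) && (!Nat.beq (clsOf 0 b) 3 && !Nat.beq (clsOf 0 b) (ktc 0 + 1)))))
    | _ => false
  | _ => false

/-- A witness of a class reaches the target. -/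
noncomputable def singleOK (sA sB : SideData) (d : GlueData) : List (List ℕ) → Bool
  | [k, z] :: steps =>
    match runSteps sA sB d steps [rep 0 k, rep 0 k, rep 0 k] with
    | some [a, _, _] => Nat.beq a z
    | _ => false
  | _ => false

/-- Two codes commute. -/
noncomputable def commC' (x y : ℕ) : Bool := Nat.beq (mulC 0 x y) (mulC 0 y x)

/-- The row of an element of `S`. -/
noncomputable def orbitRowOK (F : FusData) : List ℕ → Bool
  | [u, c, i] => Nat.blt c 21504 && (commC' c cyY && (Nat.blt i F.witness.length &&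
      (Nat.blt (((F.witness.getD i []).getD 0 []).getD 0 0) 21504 &&
        Nat.beq (mulC 0 c (((F.witness.getD i []).getD 0 []).getD 0 0)) (mulC 0 u c))))
  | _ => false

/-- The subgroup `S = C(t) ∩ C(y)` and the four-group. -/
noncomputable def localOK (F : FusData) : Bool :=
  Nat.beq (rep 0 2) cyY && (Nat.beq (hsz 0 2) 512 && (Nat.beq (mulC 0 cvV cyY) cvY && (Nat.beq (mulC 0 cvV cvV) 0 &&
  (allBelow (ncls 0) (fun k => Nat.beq k 2 || (Nat.beq k (ktc 0) || !Nat.beq (hsz 0 k) 512)) &&
  (allBelow (ncls 0) (fun k => Nat.beq k (ktc 0) || (bitOn F.mask k || (Nat.beq (hsz 0 k) 512 ||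
    (Nat.beq (hsz 0 k) 256 || Nat.beq (hsz 0 k) 128)))) &&
  (allBelow 512 (fun j => Nat.beq (mulC 0 (stabEl 0 2 j) cvV) (mulC 0 cvV (stabEl 0 2 j)) ||
    Nat.beq (mulC 0 (stabEl 0 2 j) cvV) (mulC 0 cvY (stabEl 0 2 j))) &&
  (allBelow 512 (fun j => !colC F.mask (stabEl 0 2 j) || (Nat.beq (stabEl 0 2 j) 64 ||
    !allBelow 512 fun l => Nat.beq (mulC 0 (stabEl 0 2 j) (stabEl 0 2 l)) (mulC 0 (stabEl 0 2 l) (stabEl 0 2 j)))) &&
  (allBelow 512 (fun j => !Nat.beq (mulC 0 (stabEl 0 2 j) cvV) (mulC 0 cvV (stabEl 0 2 j)) ||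
    (inW (stabEl 0 2 j) || (!inW (mulC 0 (stabEl 0 2 j) (stabEl 0 2 j)) ||
      ([0, cyY, cvV, cvY].any fun z => colC F.mask (mulC 0 (stabEl 0 2 j) z))))) &&
  allBelow 512 (fun j => !colC F.mask (stabEl 0 2 j) || F.orbit.any fun e => Nat.beq (e.getD 0 0) (stabEl 0 2 j))))))))))

/-- The chosen elements. -/
noncomputable def pickOK (F : FusData) : Bool :=
  allBelow 6 (fun k => Nat.blt ([F.sigma, F.fourA, F.fourB, F.mixA, F.mixZ, F.mixB].getD k 0) 21504) &&
  (allBelow 5 (fun k => Nat.beq (mulC 0 ([F.sigma, F.fourA, F.fourB, F.mixA, F.mixB].getD k 0) cyY)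
    (mulC 0 cyY ([F.sigma, F.fourA, F.fourB, F.mixA, F.mixB].getD k 0))) &&
  (Nat.beq (mulC 0 F.sigma cvV) (mulC 0 cvY F.sigma) &&
  (Nat.beq (mulC 0 F.fourA F.fourB) (mulC 0 F.fourB F.fourA) &&
  (colC F.mask F.fourA && (colC F.mask F.fourB && (colC F.mask (mulC 0 F.fourA F.fourB) &&
  (Nat.beq (mulC 0 F.mixA cvV) (mulC 0 cvV F.mixA) && (Nat.beq (mulC 0 F.mixB cvV) (mulC 0 cvV F.mixB) &&
  (!inW F.mixA && (!inW F.mixB && (inW (mulC 0 F.mixA F.mixA) && (inW (mulC 0 F.mixB F.mixB) &&
  (inW F.mixZ && (!Nat.beq F.mixZ 0 && (colC F.mask F.mixA && (colC F.mask (mulC 0 F.mixA F.mixZ) &&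
    allBelow 3 fun k => !colC F.mask (mulC 0 F.mixB ([cyY, cvV, cvY].getD k 0))))))))))))))))))

/-- All fusion checks. -/
noncomputable def fusOK (sA sB : SideData) (d : GlueData) (F : FusData) : Bool :=
  F.witness.all (witnessOK sA sB d) && (F.orbit.all (orbitRowOK F) && (F.single.all (singleOK sA sB d) &&
    allBelow (ncls 0) fun k => Nat.beq k (ktc 0) || (Nat.beq k 2 || F.single.any fun w =>
      Nat.beq ((w.getD 0 []).getD 0 0) k && Nat.beq ((w.getD 0 []).getD 1 0) (cond (bitOn F.mask k) 64 cyY))))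

end CfsgLib.Recog.Held
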