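import Cfsg.Agent.Lib.Recog.Held.LocalGlue
import Cfsg.Agent.Lib.Recog.Held.LocalGen
import Cfsg.Agent.Lib.Recog.Held.LocalFusDefs
import Cfsg.Agent.Lib.Recog.HeldTri.Four

set_option autoImplicit false
set_option linter.unusedSectionVars false

/-!
The subgroup generated by the five letters controls the fusion of `t` and contains the centraliser of `y`, so it
is the whole group (owner: helper25).
-/

namespace CfsgLib.Recog.Held

open Subgroup CfsgLib.Recog.HeldTri

variable {G : Type*} [Group G] [Finite G] {t : G}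

/-- The subgroup of the five letters. -/
noncomputable def lettersSub (K : Coord t 0) (d : GlueData) (m : G) : Subgroup G :=
  closure {g | ∃ x < 5, g = letters K d m x}

/-- Everything known about one pattern. -/
structure Pattern (K : Coord t 0) (sA sB : SideData) (d : GlueData) (F : FusData) (m pA pB : G) : Prop where
  hA : SideHyp K sA
  hB : SideHyp K sB
  glued : Glued K sA sB d m pA pB
  lets : lettersOK sA sB d = true
  inv : ∀ x < 5, letters K d m x * letters K d m x = 1
  gen : closure {g | ∃ x < 4, g = K.el (d.cg.getD x 0)} = centralizer {t}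
  mask : K.mask = F.mask
  loc : localOK F = true
  pick : pickOK F = true
  fus : fusOK sA sB d F = true

namespace Pattern

variable {K : Coord t 0} {sA sB : SideData} {d : GlueData} {F : FusData} {m pA pB : G}
  (P : Pattern K sA sB d F m pA pB)
include P

theorem cent_le : centralizer ({t} : Set G) ≤ lettersSub K d m := by
  rw [← P.gen]
  refine closure_mono ?_
  rintro g ⟨x, hx, rfl⟩
  exact ⟨x, by omega, by rw [letters, if_pos hx]⟩

theorem el_mem {x : ℕ} (hx : x < 21504) : K.el x ∈ lettersSub K d m :=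
  P.cent_le (mem_centralizer_singleton_iff.2 (K.mem x hx))

theorem moveM3_spec {s : SideData} (hs : SideHyp K s) {p : G} (hc : Compat K s p) {L : List (List ℕ)}
    {N : ℕ × ℕ} (hN : Reads K s p m N)
    (hL : ∀ e ∈ L, witOK' s (d.cg.getD (e.getD 0 0) 0) (e.getD 1 0) (e.getD 2 0) = true ∧ e.getD 0 0 < 4)
    {w T T' : List ℕ} {a b c e f g : ℕ} (h : moveM3 s L N w a b c e f g T = some T') :
    ∃ k ∈ lettersSub K d m, ∃ x y z x' y' z', T = [x, y, z] ∧ T' = [x', y', z'] ∧
      (k * K.el x * k⁻¹ = K.el x' ∧ k * K.el y * k⁻¹ = K.el y' ∧ k * K.el z * k⁻¹ = K.el z') := by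
  unfold moveM3 at h
  split at h
  · rename_i x y z
    split at h
    · rename_i P' Q' hP' hQ'
      split at h
      · rename_i x' y' z' hx hy hz
        rw [Option.some.injEq] at h
        have hlt : ∀ l ∈ w, l < 5 := by
          clear hQ' hx hy hz h
          induction w generalizing P' with
          | nil => simp
          | cons l w ih =>
            rw [evalW] at hP'
            split at hP'
            · rename_i a' b' ha' hb'
              intro l' hl'
              rcases List.mem_cons.1 hl' with rfl | hl'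
              · rw [letPair] at ha'
                split_ifs at ha' with h4
                · omega
                · obtain ⟨e', he', -⟩ := Option.map_eq_some_iff.1 ha'
                  have hxe : e'.getD 0 0 = l' := by simpa using List.find?_some he'
                  have := (hL e' (List.mem_of_find?_eq_some he')).2
                  omega
              · exact ih b' hb' l' hl'
            · simp at hP'
        have r1 := P.glued.eval_reads hs hc hL hN w P' hP'
        have r2 := P.glued.eval_reads hs hc hL hN w.reverse Q' hQ'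
        have hinv : (w.map (letters K d m)).prod⁻¹ = (w.reverse.map (letters K d m)).prod := by
          rw [List.prod_inv_reverse, List.map_map, ← List.map_reverse]
          refine congrArg List.prod (List.map_congr_left fun l hl => ?_)
          exact inv_eq_of_mul_eq_one_right (P.inv l (hlt l (List.mem_reverse.1 hl)))
        have key : ∀ {x x' v j : ℕ}, moveM1 s P' Q' v j x = some x' →
            (w.map (letters K d m)).prod * K.el x * (w.map (letters K d m)).prod⁻¹ = K.el x' := by
          intro x x' v j h1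
          unfold moveM1 at h1
          split_ifs at h1 with hh
          simp only [Bool.and_eq_true, Nat.blt_eq] at hh
          obtain ⟨hw', hj⟩ := hh
          rw [Option.some.injEq] at h1
          subst h1
          obtain ⟨R, hR⟩ : ∃ R, R = pMul (pMul P' (kPair s v j)) Q' := ⟨_, rfl⟩
          rw [← hR] at hj ⊢
          have hr := Reads.mul hs hc (Reads.mul hs hc r1 (Reads.code hs hc hw')) r2
          rw [← hR, ← hinv] at hr
          have hmat : kMat s (findJ s R.2) = R.2 := by
            have key : ∀ n, Nat.rec (motive := fun _ => ℕ) 48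
                (fun j ih => cond (Nat.beq (kMat s j) R.2) j ih) n = 48 ∨
                kMat s (Nat.rec (motive := fun _ => ℕ) 48
                  (fun j ih => cond (Nat.beq (kMat s j) R.2) j ih) n) = R.2 := by
              intro n
              induction n with
              | zero => exact Or.inl rfl
              | succ n ih =>
                show cond (Nat.beq (kMat s n) R.2) n _ = 48 ∨ kMat s (cond (Nat.beq (kMat s n) R.2) n _) = R.2
                cases hb : Nat.beq (kMat s n) R.2
                · exact ih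
                · exact Or.inr (Nat.eq_of_beq_eq_true hb)
            exact (key 48).resolve_left (ne_of_lt hj)
          have hread : Reads K s p (K.el (nEl s R.1 (findJ s R.2))) R := by
            have := Reads.code hs hc (x := nEl s R.1 (findJ s R.2)) (v := R.1) (j := findJ s R.2) (by
              simp only [witOK', Bool.and_eq_true, Nat.blt_eq, Nat.beq_eq]
              exact ⟨hr.1, hj, trivial⟩)
            rwa [show kPair s R.1 (findJ s R.2) = R from Prod.ext rfl hmat] at this
          exact Reads.ext hs hc hr hread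
        refine ⟨(w.map (letters K d m)).prod, ?_, x, y, z, x', y', z', rfl, h.symm, key hx, key hy, key hz⟩
        refine list_prod_mem ?_
        rintro _ hl
        obtain ⟨l, hl', rfl⟩ := List.mem_map.1 hl
        exact subset_closure ⟨l, hlt l hl', rfl⟩
      · simp at h
    · simp at h
  · simp at h

theorem runSteps_spec : ∀ (st : List (List ℕ)) (x y z x' y' z' : ℕ), runSteps sA sB d st [x, y, z] = some [x', y', z'] →
    ∃ k ∈ lettersSub K d m, k * K.el x * k⁻¹ = K.el x' ∧ k * K.el y * k⁻¹ = K.el y' ∧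
      k * K.el z * k⁻¹ = K.el z' := by
  have hl := P.lets
  simp only [lettersOK, Bool.and_eq_true, List.all_eq_true, Nat.blt_eq] at hl
  obtain ⟨-, hLA, hLB⟩ := hl
  intro st
  induction st with
  | nil =>
    intro x y z x' y' z' h
    simp only [runSteps, Option.some.injEq, List.cons.injEq, and_true] at h
    obtain ⟨rfl, rfl, rfl⟩ := h
    exact ⟨1, one_mem _, by group, by group, by group⟩
  | cons s r ih =>
    intro x y z x' y' z' h
    rw [runSteps] at h
    split at h
    · rename_i T hT
      obtain ⟨k, hk, a, b, c, rfl, e1, e2, e3⟩ : ∃ k ∈ lettersSub K d m, ∃ a b c, T = [a, b, c] ∧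
          k * K.el x * k⁻¹ = K.el a ∧ k * K.el y * k⁻¹ = K.el b ∧ k * K.el z * k⁻¹ = K.el c := by
        unfold moveStep at hT
        split at hT
        · rename_i g gi u1 u2 u3 heq
          simp only [List.cons.injEq, and_true] at heq
          obtain ⟨rfl, rfl, rfl⟩ := heq
          split_ifs at hT with hh
          simp only [Bool.and_eq_true, Nat.blt_eq, Nat.beq_eq] at hh
          obtain ⟨hg, hgi, hinv, hx, hy, hz⟩ := hh
          rw [Option.some.injEq] at hT
          have hi : (K.el g)⁻¹ = K.el gi := inv_eq_of_mul_eq_one_left (by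
            rw [K.el_mul _ hgi _ hg, hinv, K.el_zero (by norm_num)])
          refine ⟨K.el g, P.el_mem hg, _, _, _, hT.symm, ?_, ?_, ?_⟩ <;>
            rw [moveC1, hi, K.el_mul _ hg _ (by assumption), K.el_mul _ (mulC_lt hg _) _ hgi]
        · obtain ⟨k, hk, a, b, c, a', b', c', e, e', h1, h2, h3⟩ := P.moveM3_spec P.hA P.glued.compA P.glued.readA hLA hT
          simp only [List.cons.injEq, and_true] at e
          obtain ⟨rfl, rfl, rfl⟩ := e
          exact ⟨k, hk, a', b', c', e', h1, h2, h3⟩
        · obtain ⟨k, hk, a, b, c, a', b', c', e, e', h1, h2, h3⟩ := P.moveM3_spec P.hB P.glued.compB P.glued.readB hLB hT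
          simp only [List.cons.injEq, and_true] at e
          obtain ⟨rfl, rfl, rfl⟩ := e
          exact ⟨k, hk, a', b', c', e', h1, h2, h3⟩
        · simp at hT
      obtain ⟨k', hk', f1, f2, f3⟩ := ih a b c x' y' z' h
      refine ⟨k' * k, mul_mem hk' hk, ?_, ?_, ?_⟩
      · rw [show k' * k * K.el x * (k' * k)⁻¹ = k' * (k * K.el x * k⁻¹) * k'⁻¹ by group, e1, f1]
      · rw [show k' * k * K.el y * (k' * k)⁻¹ = k' * (k * K.el y * k⁻¹) * k'⁻¹ by group, e2, f2]
      · rw [show k' * k * K.el z * (k' * k)⁻¹ = k' * (k * K.el z * k⁻¹) * k'⁻¹ by group, e3, f3]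
    · simp at h

/-- The class of `y` is not coloured. -/
theorem bit_two : bitOn F.mask 2 = false := by
  have hl := P.loc
  simp only [localOK, Bool.and_eq_true, Nat.beq_eq] at hl
  have hk2 : 2 < ncls 0 ∧ 2 ≠ ktc 0 := by
    have h : (Nat.blt 2 (ncls 0) && !Nat.beq 2 (ktc 0)) = true := by decide +kernel
    simp only [Bool.and_eq_true, Nat.blt_eq, Bool.not_eq_true'] at h
    exact ⟨h.1, fun e => by rw [← e] at h; simp at h⟩
  cases hb : bitOn F.mask 2
  · rfl
  exfalso
  have hs := hl.2.2.2.2.2.2.2.1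
  rw [allBelow_spec] at hs
  obtain ⟨j, hj, hje⟩ := (K.stab_iff (by norm_num) hk2.1 hk2.2 (K.el cyY)).1
    ⟨K.mem _ (by norm_num [cyY]), by rw [hl.1]⟩
  have hjy : stabEl 0 2 j = cyY :=
    K.el_inj _ (K.stabEl_lt (by norm_num) hk2.1 hk2.2 hj) _ (by norm_num [cyY]) hje
  have hh := hs j (hl.2.1 ▸ hj)
  obtain ⟨-, hcls, -⟩ := (classes_spec (i := 0) (by norm_num)).2.2.2.2 2 hk2.1
  rw [hl.1] at hcls
  rw [hjy, colC, hcls] at hh
  simp only [hb, Nat.add_sub_cancel, Bool.and_true, show Nat.blt 0 (2 + 1) = true from rfl, Bool.not_true,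
    Bool.false_or, Bool.or_eq_true, Nat.beq_eq, Bool.not_eq_true', Bool.eq_false_iff] at hh
  rcases hh with hh | hh
  · norm_num [cyY] at hh
  · refine hh (allBelow_spec.2 fun l hl' => ?_)
    rw [Nat.beq_eq, ← K.commute_iff (by norm_num [cyY]) (K.stabEl_lt (by norm_num) hk2.1 hk2.2 (hl.2.1.symm ▸ hl'))]
    have := ((K.stab_iff (by norm_num) hk2.1 hk2.2 _).2 ⟨l, hl.2.1.symm ▸ hl', rfl⟩).2
    rw [hl.1] at this
    exact this.symm

theorem class_fused {k : ℕ} (hk : k < ncls 0) :
    ∃ h ∈ lettersSub K d m, h * K.el (rep 0 k) * h⁻¹ = if bitOn F.mask k || Nat.beq k (ktc 0) then t else K.el cyY := by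
  have hf := P.fus
  simp only [fusOK, Bool.and_eq_true, allBelow_spec, List.all_eq_true, Bool.or_eq_true, List.any_eq_true,
    Nat.beq_eq] at hf
  obtain ⟨-, -, hsing, hall⟩ := hf
  by_cases hkt : k = ktc 0
  · subst hkt
    refine ⟨1, one_mem _, ?_⟩
    rw [if_pos (by simp), K.rep_kt (by norm_num), one_mul, inv_one, mul_one]
  rcases (hall k hk).resolve_left hkt with rfl | ⟨w, hw, hwk, hwz⟩
  · have hl := P.loc
    simp only [localOK, Bool.and_eq_true, Nat.beq_eq] at hl
    refine ⟨1, one_mem _, ?_⟩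
    rw [hl.1, if_neg (by simp [P.bit_two, hkt]), one_mul, inv_one, mul_one]
  · have hs := hsing w hw
    unfold singleOK at hs
    split at hs
    · rename_i k' z steps
      split at hs
      · rename_i a b c hrun
        rw [Nat.beq_eq] at hs
        obtain ⟨h, hh, e1, -, -⟩ := P.runSteps_spec _ _ _ _ _ _ _ hrun
        simp only [List.getD_cons_zero, List.getD_cons_succ] at hwk hwz
        subst hwk
        refine ⟨h, hh, ?_⟩
        rw [e1, hs, hwz]
        cases hb : bitOn F.mask k'
        · rw [cond_false, if_neg (by simp [hkt])]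
        · rw [cond_true, if_pos (by simp), K.el_t]
      · simp at hs
    · simp at hs

/-- Every involution of `C(t)` is moved to `t` or to `y`. -/
theorem cent_fused {x : ℕ} (hx : x < 21504) (hc : clsOf 0 x ≠ 0) :
    ∃ h ∈ lettersSub K d m, (IsConj (K.el x) t ∧ h * K.el x * h⁻¹ = t) ∨ h * K.el x * h⁻¹ = K.el cyY := by
  obtain ⟨c, hc', hce⟩ := K.class_conj (by norm_num) hx hc
  obtain ⟨g, hg⟩ := clsOf_pos (i := 0) (by norm_num) hx hc
  obtain ⟨h, hh, he⟩ := P.class_fused hg.lt
  obtain ⟨c', hc'', rfl⟩ := K.surj c hc'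
  refine ⟨h * (K.el c')⁻¹, mul_mem hh (inv_mem (P.el_mem hc'')), ?_⟩
  have e : h * (K.el c')⁻¹ * K.el x * (h * (K.el c')⁻¹)⁻¹ = h * K.el (rep 0 (clsOf 0 x - 1)) * h⁻¹ := by
    rw [← hce]; group
  rw [e, he]
  split_ifs with hb
  · exact Or.inl ⟨isConj_iff.2 ⟨h * (K.el c')⁻¹, by rw [e, he, if_pos hb]⟩, rfl⟩
  · exact Or.inr rfl

theorem not_conj_y : ¬ IsConj (K.el cyY) t := by
  intro h
  have hk2 : 2 < ncls 0 := by
    have h : Nat.blt 2 (ncls 0) = true := by decide +kernel
    simpa [Nat.blt_eq] using h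
  have hl := P.loc
  simp only [localOK, Bool.and_eq_true, Nat.beq_eq] at hl
  have := (K.mask_spec (by norm_num) (show cyY < 21504 by norm_num [cyY])).1 h
  obtain ⟨-, hcls, -⟩ := (classes_spec (i := 0) (by norm_num)).2.2.2.2 2 hk2
  rw [hl.1] at hcls
  rw [hcls, P.mask, Nat.add_sub_cancel, P.bit_two] at this
  exact absurd this.2 (by simp)

/-- Involutions of `H` are moved to `t` or to `y`. -/
theorem sub_fused (hS : ∃ Q : Sylow 2 G, (Q : Subgroup G) ≤ centralizer {t}) {w : G} (hw : w ∈ lettersSub K d m)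
    (hw2 : w * w = 1) (hw1 : w ≠ 1) :
    ∃ h ∈ lettersSub K d m, (IsConj w t ∧ h * w * h⁻¹ = t) ∨ h * w * h⁻¹ = K.el cyY := by
  have : Fact (Nat.Prime 2) := ⟨Nat.prime_two⟩
  obtain ⟨Q, hQ⟩ := hS
  set H := lettersSub K d m
  have hQH : (Q : Subgroup G) ≤ H := hQ.trans P.cent_le
  have hp : IsPGroup 2 (zpowers (⟨w, hw⟩ : H)) := IsPGroup.of_card (n := 1) (by
    rw [Nat.card_zpowers, pow_one]
    exact orderOf_eq_prime (by rw [pow_two]; exact Subtype.ext hw2) fun e => hw1 (congrArg Subtype.val e))
  obtain ⟨R, hR⟩ := hp.exists_le_sylow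
  obtain ⟨g, hg⟩ := MulAction.exists_smul_eq H R (Q.subtype hQH)
  have hmem : g * ⟨w, hw⟩ * g⁻¹ ∈ (Q.subtype hQH : Subgroup H) := by
    rw [← hg]; exact smul_mem_pointwise_smul _ (MulAut.conj g) _ (hR (mem_zpowers _))
  rw [Sylow.coe_subtype, mem_subgroupOf] at hmem
  obtain ⟨x, hx, hxe⟩ := K.surj _ (mem_centralizer_singleton_iff.1 (hQ hmem))
  have hconj : (g : G) * w * (g : G)⁻¹ = K.el x := hxe.symm
  have hne : K.el x ≠ 1 ∧ K.el x * K.el x = 1 := by
    rw [← hconj]
    refine ⟨fun e => hw1 (conj_eq_one_iff.1 e), ?_⟩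
    rw [show (g : G) * w * (g : G)⁻¹ * ((g : G) * w * (g : G)⁻¹) = (g : G) * (w * w) * (g : G)⁻¹ by group, hw2,
      mul_one, mul_inv_cancel]
  obtain ⟨h, hh, he⟩ := P.cent_fused hx ((K.sq_iff (by norm_num) hx).1 hne)
  refine ⟨h * g, mul_mem hh g.2, ?_⟩
  rw [show h * (g : G) * w * (h * g)⁻¹ = h * ((g : G) * w * (g : G)⁻¹) * h⁻¹ by group, hconj]
  rcases he with ⟨hc, he⟩ | he
  · exact Or.inl ⟨(isConj_iff.2 ⟨(g : G), hconj⟩ : IsConj w _).trans hc, he⟩
  · exact Or.inr he

theorem ctl (hS : ∃ Q : Sylow 2 G, (Q : Subgroup G) ≤ centralizer {t}) : Ctl (lettersSub K d m) t where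
  cent := P.cent_le
  conj u hu hut := by
    obtain ⟨h1, h2⟩ := K.inv_of_conj_t (by norm_num) hut
    obtain ⟨h, hh, ⟨-, he⟩ | he⟩ := P.sub_fused hS hu h2 h1
    · exact ⟨h, hh, he⟩
    · exact absurd ((isConj_iff.2 ⟨h, he⟩ : IsConj u _).symm.trans hut) P.not_conj_y

theorem stab_two {g : G} (h1 : Commute g t) (h2 : Commute g (K.el cyY)) :
    ∃ j < 512, K.el (stabEl 0 2 j) = g := by
  have hl := P.loc
  simp only [localOK, Bool.and_eq_true, Nat.beq_eq] at hl
  have hk2 : 2 < ncls 0 ∧ 2 ≠ ktc 0 := by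
    have h : (Nat.blt 2 (ncls 0) && !Nat.beq 2 (ktc 0)) = true := by decide +kernel
    simp only [Bool.and_eq_true, Nat.blt_eq, Bool.not_eq_true'] at h
    exact ⟨h.1, fun e => by rw [← e] at h; simp at h⟩
  obtain ⟨j, hj, he⟩ := (K.stab_iff (by norm_num) hk2.1 hk2.2 g).1 ⟨h1.eq, by rw [hl.1]; exact h2.eq⟩
  exact ⟨j, hl.2.1 ▸ hj, he⟩

theorem colC_iff {x : ℕ} (hx : x < 21504) : colC F.mask x = true ↔ IsConj (K.el x) t := by
  rw [K.mask_spec (by norm_num) hx, P.mask, colC, Bool.and_eq_true, Nat.blt_eq, Nat.pos_iff_ne_zero]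

theorem inW_iff {x : ℕ} (hx : x < 21504) :
    inW x = true ↔ K.el x ∈ pairGroup (K.el cyY) (K.el cvV) := by
  have hl := P.loc
  simp only [localOK, Bool.and_eq_true, Nat.beq_eq] at hl
  obtain ⟨-, -, hvy, hvv, -⟩ := hl
  have hy : cyY < 21504 := by norm_num [cyY]
  have hv : cvV < 21504 := by norm_num [cvV]
  have ew : K.el cvY = K.el cvV * K.el cyY := by rw [K.el_mul _ hv _ hy, hvy]
  constructor
  · intro h
    simp only [inW, Bool.or_eq_true, Nat.beq_eq] at h
    rcases h with rfl | rfl | rfl | rfl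
    · rw [K.el_zero (by norm_num)]; exact one_mem _
    · exact subset_closure (Or.inl rfl)
    · exact subset_closure (Or.inr rfl)
    · rw [ew]; exact mul_mem (subset_closure (Or.inr rfl)) (subset_closure (Or.inl rfl))
  · intro h
    have hyy : K.el cyY * K.el cyY = 1 := by
      rw [← K.el_zero (by norm_num), K.mul_eq_iff hy hy (by norm_num)]; decide +kernel
    have hvv' : K.el cvV * K.el cvV = 1 := by
      rw [K.el_mul _ hv _ hv, hvv, K.el_zero (by norm_num)]
    have hc : K.el cvV * K.el cyY = K.el cyY * K.el cvV := by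
      rw [K.commute_iff hv hy]; decide +kernel
    let M : Subgroup G :=
      { carrier := {g | g = 1 ∨ g = K.el cyY ∨ g = K.el cvV ∨ g = K.el cvV * K.el cyY}
        one_mem' := Or.inl rfl
        mul_mem' := by
          have a1 : K.el cyY * (K.el cvV * K.el cyY) = K.el cvV := by
            rw [hc, ← mul_assoc, hyy, one_mul]
          have a2 : K.el cvV * K.el cyY * K.el cyY = K.el cvV := by rw [mul_assoc, hyy, mul_one]
          have a3 : K.el cvV * (K.el cvV * K.el cyY) = K.el cyY := by rw [← mul_assoc, hvv', one_mul]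
          have a4 : K.el cvV * K.el cyY * K.el cvV = K.el cyY := by rw [hc, mul_assoc, hvv', mul_one]
          have a5 : K.el cvV * K.el cyY * (K.el cvV * K.el cyY) = 1 := by rw [← mul_assoc, a4, hyy]
          rintro _ _ (rfl | rfl | rfl | rfl) (rfl | rfl | rfl | rfl) <;>
            simp [hyy, hvv', ← hc, a1, a2, a3, a4, a5]
        inv_mem' := by
          rintro _ (rfl | rfl | rfl | rfl)
          · simp
          · exact Or.inr (Or.inl (inv_eq_of_mul_eq_one_right hyy))
          · exact Or.inr (Or.inr (Or.inl (inv_eq_of_mul_eq_one_right hvv')))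
          · exact Or.inr (Or.inr (Or.inr (inv_eq_of_mul_eq_one_right (by
              rw [← mul_assoc, mul_assoc (K.el cvV), ← hc, ← mul_assoc, hvv', one_mul, hyy])))) }
    have hM : K.el x ∈ M := (closure_le M).2 (by
      rintro a (rfl | rfl)
      · exact Or.inr (Or.inl rfl)
      · exact Or.inr (Or.inr (Or.inl rfl))) h
    simp only [inW, Bool.or_eq_true, Nat.beq_eq]
    rcases hM with e | e | e | e
    · exact Or.inl (K.el_inj _ hx _ (by norm_num) (by rw [e, K.el_zero (by norm_num)]))
    · exact Or.inr (Or.inl (K.el_inj _ hx _ hy e))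
    · exact Or.inr (Or.inr (Or.inl (K.el_inj _ hx _ hv e)))
    · exact Or.inr (Or.inr (Or.inr (K.el_inj _ hx _ (by norm_num [cvY]) (e.trans ew.symm))))

/-- The four-group hypotheses of the trichotomy. -/
theorem fourHyp (hS : ∃ Q : Sylow 2 G, (Q : Subgroup G) ≤ centralizer {t}) :
    FourHyp (lettersSub K d m) t (K.el cyY) (K.el cvV) (centralizer {t} ⊓ centralizer {K.el cyY}) := by
  have hy : cyY < 21504 := by norm_num [cyY]
  have hv : cvV < 21504 := by norm_num [cvV]
  have hl := P.loc
  simp only [localOK, Bool.and_eq_true, allBelow_spec, Nat.beq_eq, Bool.or_eq_true, Bool.not_eq_true',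
    List.any_eq_true] at hl
  obtain ⟨hr, hs2, hvy, hvv, honly, hpow, hsv, hz, hcos, horb⟩ := hl
  have hp := P.pick
  simp only [pickOK, Bool.and_eq_true, allBelow_spec, Nat.beq_eq, Nat.blt_eq, Bool.not_eq_true'] at hp
  obtain ⟨hlt, hcy, hsig, hab, hcA, hcB, hcAB, -⟩ := hp
  have ew : K.el cvY = K.el cvV * K.el cyY := by rw [K.el_mul _ hv _ hy, hvy]
  have hk2 : 2 < ncls 0 ∧ 2 ≠ ktc 0 := by
    have h : (Nat.blt 2 (ncls 0) && !Nat.beq 2 (ktc 0)) = true := by decide +kernel
    simp only [Bool.and_eq_true, Nat.blt_eq, Bool.not_eq_true'] at h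
    exact ⟨h.1, fun e => by rw [← e] at h; simp at h⟩
  have hsl : ∀ j < 512, stabEl 0 2 j < 21504 := fun j hj => K.stabEl_lt (by norm_num) hk2.1 hk2.2 (hs2.symm ▸ hj)
  have memS : ∀ {g : G}, g ∈ centralizer {t} ⊓ centralizer {K.el cyY} ↔ Commute g t ∧ Commute g (K.el cyY) := by
    intro g
    rw [mem_inf, mem_centralizer_singleton_iff, mem_centralizer_singleton_iff]
    exact Iff.rfl
  have pick : ∀ k < 5, K.el ([F.sigma, F.fourA, F.fourB, F.mixA, F.mixB].getD k 0) ∈
      centralizer {t} ⊓ centralizer {K.el cyY} := by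
    intro k hk
    have hkl : [F.sigma, F.fourA, F.fourB, F.mixA, F.mixB].getD k 0 < 21504 := by
      have h4 := hlt k (by omega)
      have h5 := hlt 5 (by norm_num)
      interval_cases k <;> simp only [List.getD_cons_zero, List.getD_cons_succ] at h4 h5 ⊢ <;> assumption
    exact memS.2 ⟨K.mem _ hkl, (K.commute_iff hkl hy).2 (hcy k hk)⟩
  have h2pow : ∀ {x : G}, Commute x t → x ≠ 1 → x * x = 1 → ¬ IsConj x t →
      IsPGroup 2 (centralizer {t} ⊓ centralizer {x} : Subgroup G) := by
    intro x hxt hx1 hx2 hxc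
    obtain ⟨c, hc, rfl⟩ := K.surj x hxt
    have hcl := (K.sq_iff (by norm_num) hc).1 ⟨hx1, hx2⟩
    obtain ⟨g, hg⟩ := clsOf_pos (i := 0) (by norm_num) hc hcl
    obtain ⟨w, hwt, hwe⟩ := K.class_conj (by norm_num) hc hcl
    have hne : clsOf 0 c - 1 ≠ ktc 0 := fun e => hxc (by
      rw [← hwe, e, K.rep_kt (by norm_num)]
      exact (isConj_iff.2 ⟨w, rfl⟩ : IsConj t _).symm)
    have hnb : bitOn F.mask (clsOf 0 c - 1) = false := Bool.eq_false_iff.2 fun hb => hxc
      ((K.mask_spec (by norm_num) hc).2 ⟨hcl, P.mask ▸ hb⟩)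
    have h2 := ((hpow _ hg.lt).resolve_left hne).resolve_left (by rw [hnb]; simp)
    have hcard := K.card_stab (by norm_num) hg.lt hne (fun _ => True) (fun _ => true) fun j _ => iff_of_true rfl trivial
    rw [countBelow_eq, Finset.filter_true_of_mem (fun _ _ => rfl), Finset.card_range] at hcard
    have hcard' : Nat.card (centralizer {t} ⊓ centralizer {K.el (rep 0 (clsOf 0 c - 1))} : Subgroup G) =
        hsz 0 (clsOf 0 c - 1) := by
      rw [← hcard]
      exact Nat.card_congr (Equiv.subtypeEquivRight fun g => by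
        rw [mem_inf, mem_centralizer_singleton_iff, mem_centralizer_singleton_iff, and_true])
    have hp : IsPGroup 2 (centralizer {t} ⊓ centralizer {K.el (rep 0 (clsOf 0 c - 1))} : Subgroup G) := by
      rcases h2 with h | h | h
      · exact IsPGroup.of_card (n := 9) (by rw [hcard', h]; norm_num)
      · exact IsPGroup.of_card (n := 8) (by rw [hcard', h]; norm_num)
      · exact IsPGroup.of_card (n := 7) (by rw [hcard', h]; norm_num)
    have hle : centralizer {t} ⊓ centralizer {K.el c} ≤
        (centralizer {t} ⊓ centralizer {K.el (rep 0 (clsOf 0 c - 1))}).map (MulAut.conj w).toMonoidHom := by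
      intro g hg
      rw [mem_inf, mem_centralizer_singleton_iff, mem_centralizer_singleton_iff] at hg
      refine ⟨w⁻¹ * g * w, mem_inf.2 ⟨mem_centralizer_singleton_iff.2 ?_, mem_centralizer_singleton_iff.2 ?_⟩,
        by show w * (w⁻¹ * g * w) * w⁻¹ = g; group⟩
      · exact (((show Commute w t from hwt).inv_left.mul_left hg.1).mul_left hwt).eq
      · rw [← hwe] at hg
        calc w⁻¹ * g * w * K.el (rep 0 (clsOf 0 c - 1))
            = w⁻¹ * (g * (w * K.el (rep 0 (clsOf 0 c - 1)) * w⁻¹)) * w := by group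
          _ = w⁻¹ * ((w * K.el (rep 0 (clsOf 0 c - 1)) * w⁻¹) * g) * w := by rw [hg.2]
          _ = _ := by group
    exact (hp.map _).to_le hle
  have hy1 : K.el cyY ≠ 1 ∧ K.el cyY * K.el cyY = 1 := by
    rw [K.sq_iff (by norm_num) hy]; decide +kernel
  refine ⟨P.ctl hS, ?_, fun g hg => P.cent_le (mem_inf.1 hg).1, ?_⟩
  · refine
      { y2 := hy1.2
        eqS := rfl
        cty := (K.mem _ hy).symm
        pS := h2pow (K.mem _ hy) hy1.1 hy1.2 P.not_conj_y
        pT := ?_
        zS := ?_
        four := ⟨K.el F.fourA, pick 1 (by norm_num), K.el F.fourB, pick 2 (by norm_num),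
          (K.commute_iff (hlt 1 (by norm_num)) (hlt 2 (by norm_num))).2 hab,
          (P.colC_iff (hlt 1 (by norm_num))).1 hcA, (P.colC_iff (hlt 2 (by norm_num))).1 hcB,
          (by
              have la : F.fourA < 21504 := hlt 1 (by norm_num)
              have lb : F.fourB < 21504 := hlt 2 (by norm_num)
              rw [K.el_mul _ la _ lb]
              exact (P.colC_iff (mulC_lt la _)).1 hcAB),
          (K.inv_of_conj_t (by norm_num) ((P.colC_iff (hlt 1 (by norm_num))).1 hcA)).2,
          (K.inv_of_conj_t (by norm_num) ((P.colC_iff (hlt 2 (by norm_num))).1 hcB)).2⟩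
        vS := memS.2 ⟨K.mem _ hv, (K.commute_iff hv hy).2 (by decide +kernel)⟩
        v2 := by rw [K.el_mul _ hv _ hv, hvv, K.el_zero (by norm_num)]
        v1 := fun e => by
          have := K.el_inj _ hv 0 (by norm_num) (by rw [e, K.el_zero (by norm_num)])
          norm_num [cvV] at this
        vy := fun e => by
          have := K.el_inj _ hv _ hy e
          norm_num [cvV, cyY] at this
        sv := ?_
        sw := ⟨_, pick 0 (by norm_num), ?_⟩
        fus := ?_ }
    · intro u huy hut
      obtain ⟨g, hg⟩ := isConj_iff.1 hut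
      have hyt : Commute (g * K.el cyY * g⁻¹) t := by
        suffices h : Commute (g * K.el cyY * g⁻¹) (g * u * g⁻¹) by rwa [hg] at h
        show g * K.el cyY * g⁻¹ * (g * u * g⁻¹) = g * u * g⁻¹ * (g * K.el cyY * g⁻¹)
        rw [show g * K.el cyY * g⁻¹ * (g * u * g⁻¹) = g * (K.el cyY * u) * g⁻¹ by group, ← huy.eq]
        group
      have hp2 := h2pow hyt (fun e => hy1.1 (conj_eq_one_iff.1 e)) (by
          rw [show g * K.el cyY * g⁻¹ * (g * K.el cyY * g⁻¹) = g * (K.el cyY * K.el cyY) * g⁻¹ by group, hy1.2,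
            mul_one, mul_inv_cancel])
        fun h => P.not_conj_y ((isConj_iff.2 ⟨g, rfl⟩ : IsConj (K.el cyY) _).trans h)
      refine (hp2.map (MulAut.conj g⁻¹).toMonoidHom).to_le fun x hx => ?_
      rw [mem_inf, mem_centralizer_singleton_iff, mem_centralizer_singleton_iff] at hx
      refine ⟨g * x * g⁻¹, mem_inf.2 ⟨mem_centralizer_singleton_iff.2 ?_, mem_centralizer_singleton_iff.2 ?_⟩,
        by show g⁻¹ * (g * x * g⁻¹) * g⁻¹⁻¹ = x; group⟩
      · suffices h : g * x * g⁻¹ * (g * u * g⁻¹) = g * u * g⁻¹ * (g * x * g⁻¹) by rwa [hg] at h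
        rw [show g * x * g⁻¹ * (g * u * g⁻¹) = g * (x * u) * g⁻¹ by group, hx.1]; group
      · rw [show g * x * g⁻¹ * (g * K.el cyY * g⁻¹) = g * (x * K.el cyY) * g⁻¹ by group, hx.2]; group
    · intro u hu hut hall
      obtain ⟨j, hj, rfl⟩ := P.stab_two (memS.1 hu).1 (memS.1 hu).2
      rcases (hz j hj).resolve_left (by rw [(P.colC_iff (hsl j hj)).2 hut]; simp) with h | h
      · rw [h, K.el_t]
      · exfalso
        rw [Bool.eq_false_iff] at h
        refine h (allBelow_spec.2 fun l hl => ?_)
        rw [Nat.beq_eq, ← K.commute_iff (hsl j hj) (hsl l hl)]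
        exact (hall _ (memS.2 ⟨K.mem _ (hsl l hl), by
          have := ((K.stab_iff (by norm_num) hk2.1 hk2.2 _).2 ⟨l, hs2.symm ▸ hl, rfl⟩).2
          rwa [hr] at this⟩)).eq.symm
    · intro s hs
      obtain ⟨j, hj, rfl⟩ := P.stab_two (memS.1 hs).1 (memS.1 hs).2
      rcases hsv j hj with h | h
      · left
        rw [mul_inv_eq_iff_eq_mul, K.commute_iff (hsl j hj) hv]
        exact h
      · right
        rw [mul_inv_eq_iff_eq_mul, K.el_mul _ (hsl j hj) _ hv, h, ← ew, K.el_mul _ (by norm_num [cvY]) _ (hsl j hj)]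
    · have hs : F.sigma < 21504 := hlt 0 (by norm_num)
      show K.el F.sigma * K.el cvV * (K.el F.sigma)⁻¹ = _
      rw [mul_inv_eq_iff_eq_mul, K.el_mul _ hs _ hv, hsig, ← ew, K.el_mul _ (by norm_num [cvY]) _ hs]
    · intro u hu hut k hky hkt
      obtain ⟨j, hj, rfl⟩ := P.stab_two (memS.1 hu).1 (memS.1 hu).2
      obtain ⟨e, he, hee⟩ := (horb j hj).resolve_left (by rw [(P.colC_iff (hsl j hj)).2 hut]; simp)
      have hf := P.fus
      simp only [fusOK, Bool.and_eq_true, List.all_eq_true] at hf
      have hrow := hf.2.1 e he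
      unfold orbitRowOK at hrow
      split at hrow
      swap
      · simp at hrow
      rename_i u' c i
      simp only [List.getD_cons_zero] at hee
      simp only [Bool.and_eq_true, Nat.blt_eq, Nat.beq_eq, commC'] at hrow
      obtain ⟨hc, hcy', hi, hrl, hrc⟩ := hrow
      subst hee
      obtain ⟨W, hW⟩ : ∃ W, W = F.witness.getD i [] := ⟨_, rfl⟩
      have hWm : W ∈ F.witness := by
        rw [hW, List.getD_eq_getElem?_getD, List.getElem?_eq_getElem hi, Option.getD_some]
        exact List.getElem_mem hi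
      rw [← hW] at hrl hrc
      have hwit := hf.1 W hWm
      unfold witnessOK at hwit
      split at hwit
      swap
      · simp at hwit
      rename_i r steps
      simp only [List.getD_cons_zero] at hrl hrc
      split at hwit
      swap
      · simp at hwit
      rename_i a b z hrun
      simp only [Bool.and_eq_true, Bool.or_eq_true, Nat.beq_eq, Nat.blt_eq, Bool.not_eq_true'] at hwit
      obtain ⟨ha, hb, hcase⟩ := hwit
      subst ha
      obtain ⟨n, -, e1, e2, e3⟩ := P.runSteps_spec _ _ _ _ _ _ _ hrun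
      have hcyc : Commute (K.el c) (K.el cyY) := (K.commute_iff hc hy).2 hcy'
      have hru : K.el c * K.el r = K.el (stabEl 0 2 j) * K.el c := by
        rw [K.el_mul _ hc _ hrl, hrc, K.el_mul _ (hsl j hj) _ hc]
      -- the difference to the witness centralises `t`
      obtain ⟨q, hq⟩ : ∃ q, q = k * K.el c * n⁻¹ := ⟨_, rfl⟩
      have hkc : k * K.el c = q * n := by rw [hq]; group
      have hqt : Commute q t := by
        refine mul_inv_eq_iff_eq_mul.1 ?_
        have h64 : n * K.el r * n⁻¹ = t := by rw [e1, K.el_t]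
        calc q * t * q⁻¹ = q * (n * K.el r * n⁻¹) * q⁻¹ := by rw [h64]
          _ = q * n * K.el r * (q * n)⁻¹ := by group
          _ = k * (K.el c * K.el r) * (K.el c)⁻¹ * k⁻¹ := by rw [← hkc]; group
          _ = k * K.el (stabEl 0 2 j) * k⁻¹ := by rw [hru]; group
          _ = t := hkt
      have hqb : q * K.el b * q⁻¹ = K.el cyY := by
        rw [← e2, show q * (n * K.el cyY * n⁻¹) * q⁻¹ = q * n * K.el cyY * (q * n)⁻¹ by group, ← hkc,
          ((hky.mul_left hcyc)).eq, mul_inv_cancel_right]
      have hkv : k * (K.el c * K.el cvV * (K.el c)⁻¹) * k⁻¹ = q * K.el z * q⁻¹ := by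
        rw [← e3, show q * (n * K.el cvV * n⁻¹) * q⁻¹ = q * n * K.el cvV * (q * n)⁻¹ by group, ← hkc]
        group
      obtain ⟨qc, hqc, hqe⟩ := K.surj q hqt.eq
      rcases hcase with ⟨hby, hzc⟩ | ⟨hb0, hb3, hbkt⟩
      · subst hby
        have hqy : Commute q (K.el cyY) := mul_inv_eq_iff_eq_mul.1 hqb
        have hsvq : ∀ {g : G}, Commute g t → Commute g (K.el cyY) →
            g * K.el cvV * g⁻¹ = K.el cvV ∨ g * K.el cvV * g⁻¹ = K.el cvV * K.el cyY := by
          intro g g1 g2
          obtain ⟨l, hl, rfl⟩ := P.stab_two g1 g2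
          rcases hsv l hl with h | h
          · left
            rw [mul_inv_eq_iff_eq_mul, K.commute_iff (hsl l hl) hv]
            exact h
          · right
            rw [mul_inv_eq_iff_eq_mul, K.el_mul _ (hsl l hl) _ hv, h, ← ew,
              K.el_mul _ (by norm_num [cvY]) _ (hsl l hl)]
        have hyc : Commute (K.el cvV) (K.el cyY) := (K.commute_iff hv hy).2 (by decide +kernel)
        have hzq : q * K.el z * q⁻¹ = K.el cvV ∨ q * K.el z * q⁻¹ = K.el cvV * K.el cyY := by
          rcases hzc with rfl | rfl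
          · exact hsvq hqt hqy
          · rw [ew, show q * (K.el cvV * K.el cyY) * q⁻¹ = q * K.el cvV * q⁻¹ * (q * K.el cyY * q⁻¹) by group,
              hqy.eq, mul_inv_cancel_right]
            rcases hsvq hqt hqy with h | h <;> rw [h]
            · exact Or.inr rfl
            · left; rw [mul_assoc, hy1.2, mul_one]
        rw [← hkv] at hzq
        rcases hsvq (K.mem c hc) hcyc with h | h <;> rw [h] at hzq
        · exact hzq
        · have e : k * (K.el cvV * K.el cyY) * k⁻¹ = k * K.el cvV * k⁻¹ * K.el cyY := by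
            rw [show k * (K.el cvV * K.el cyY) * k⁻¹ = k * K.el cvV * k⁻¹ * (k * K.el cyY * k⁻¹) by group,
              hky.eq, mul_inv_cancel_right]
          rw [e] at hzq
          rcases hzq with h | h
          · right
            calc k * K.el cvV * k⁻¹ = k * K.el cvV * k⁻¹ * K.el cyY * K.el cyY := by
                  rw [mul_assoc (k * K.el cvV * k⁻¹), hy1.2, mul_one]
              _ = _ := by rw [h]
          · exact Or.inl (mul_right_cancel h)
      · exfalso
        -- the class of `b` would be the class of `y`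
        have hbn : clsOf 0 b ≠ 0 := by omega
        obtain ⟨w, hw, hwe⟩ := K.class_conj (by norm_num) hb hbn
        obtain ⟨g, hg⟩ := clsOf_pos (i := 0) (by norm_num) hb hbn
        have hkne : clsOf 0 b - 1 ≠ ktc 0 := fun e => by
          rw [show clsOf 0 b = ktc 0 + 1 by omega] at hbkt
          simp at hbkt
        have hk22 : clsOf 0 b - 1 ≠ 2 := fun e => by
          rw [show clsOf 0 b = 3 by omega] at hb3
          simp at hb3
        have hfalse := ((honly _ hg.lt).resolve_left hk22).resolve_left hkne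
        rw [Bool.eq_false_iff] at hfalse
        refine hfalse ?_
        rw [Nat.beq_eq]
        have card : ∀ k' < ncls 0, k' ≠ ktc 0 →
            Nat.card {g : G // (g * t = t * g ∧ g * K.el (rep 0 k') = K.el (rep 0 k') * g) ∧ True} = hsz 0 k' :=
          fun k' h1 h2 => by
            rw [K.card_stab (by norm_num) h1 h2 (fun _ => True) (fun _ => true) fun j _ => iff_of_true rfl trivial,
              countBelow_eq, Finset.filter_true_of_mem (fun _ _ => rfl), Finset.card_range]
        rw [← card _ hg.lt hkne, ← hs2, ← card 2 hk2.1 hk2.2]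
        have hqw : Commute (q * w) t := hqt.mul_left hw
        have hmove : q * w * K.el (rep 0 (clsOf 0 b - 1)) * (q * w)⁻¹ = K.el (rep 0 2) := by
          rw [show q * w * K.el (rep 0 (clsOf 0 b - 1)) * (q * w)⁻¹ =
            q * (w * K.el (rep 0 (clsOf 0 b - 1)) * w⁻¹) * q⁻¹ by group, hwe, hqb, hr]
        refine Nat.card_congr (Equiv.subtypeEquiv (MulAut.conj (q * w)).toEquiv fun g => ?_)
        simp only [MulEquiv.toEquiv_eq_coe, EquivLike.coe_coe, MulAut.conj_apply, and_true]
        rw [← hmove]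
        generalize q * w = n' at hqw ⊢
        constructor
        · rintro ⟨h1, h2⟩
          refine ⟨((hqw.mul_left (h1 : Commute g t)).mul_left hqw.inv_left).eq, ?_⟩
          rw [show n' * g * n'⁻¹ * (n' * K.el (rep 0 (clsOf 0 b - 1)) * n'⁻¹) =
            n' * (g * K.el (rep 0 (clsOf 0 b - 1))) * n'⁻¹ by group, h2]
          group
        · rintro ⟨h1, h2⟩
          refine ⟨?_, ?_⟩
          · have h3 : Commute (n'⁻¹ * (n' * g * n'⁻¹) * n') t :=
              (hqw.inv_left.mul_left h1).mul_left hqw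
            rwa [show n'⁻¹ * (n' * g * n'⁻¹) * n' = g by group] at h3
          · have h3 := congrArg (fun x => n'⁻¹ * x * n') h2
            simpa [mul_assoc] using h3
  · intro s hs hsv' hsW hss
    obtain ⟨j, hj, rfl⟩ := P.stab_two (memS.1 hs).1 (memS.1 hs).2
    rcases hcos j hj with h | h | h | ⟨z, hz', hzc⟩
    · exfalso
      rw [Bool.eq_false_iff] at h
      exact h (Nat.beq_eq.mpr ((K.commute_iff (hsl j hj) hv).1 hsv'.eq))
    · exact absurd ((P.inW_iff (hsl j hj)).1 h) hsW
    · exfalso
      rw [Bool.eq_false_iff] at h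
      exact h ((P.inW_iff (mulC_lt (hsl j hj) _)).2 (by rw [← K.el_mul _ (hsl j hj) _ (hsl j hj)]; exact hss))
    · have hzl : z < 21504 := by
        simp only [List.mem_cons, List.not_mem_nil, or_false] at hz'
        rcases hz' with rfl | rfl | rfl | rfl <;> norm_num [cyY, cvV, cvY]
      have hzW : inW z = true := by
        simp only [List.mem_cons, List.not_mem_nil, or_false] at hz'
        rcases hz' with rfl | rfl | rfl | rfl <;> simp [inW]
      exact ⟨K.el z, (P.inW_iff hzl).1 hzW, by
        rw [K.el_mul _ (hsl j hj) _ hzl]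
        exact (P.colC_iff (mulC_lt (hsl j hj) _)).1 hzc⟩

/-- The letters generate the group. -/
theorem eq_top [IsSimpleGroup G] (hS : ∃ Q : Sylow 2 G, (Q : Subgroup G) ≤ centralizer {t}) :
    lettersSub K d m = ⊤ := by
  have hF := P.fourHyp hS
  have hy : cyY < 21504 := by norm_num [cyY]
  have hy2 : K.el cyY * K.el cyY = 1 := hF.loc.y2
  refine HeldTri.eq_top (P.ctl hS) (K.ne_one_t (by norm_num)) (K.t_sq (by norm_num)) hy2 P.not_conj_y ?_ ?_
  · refine hF.loc.centralizer_le hF.sH ?_
    have hp := P.pick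
    simp only [pickOK, Bool.and_eq_true, allBelow_spec, Nat.beq_eq, Nat.blt_eq, Bool.not_eq_true'] at hp
    obtain ⟨hlt, hcy, -, -, -, -, -, hAv, hBv, hAW, hBW, hAA, hBB, hZW, hZ0, hcA, hcAZ, hcB⟩ := hp
    have lA : F.mixA < 21504 := hlt 3 (by norm_num)
    have lZ : F.mixZ < 21504 := hlt 4 (by norm_num)
    have lB : F.mixB < 21504 := hlt 5 (by norm_num)
    have hv : cvV < 21504 := by norm_num [cvV]
    have nW : ∀ {x : ℕ}, x < 21504 → inW x = false → K.el x ∉ pairGroup (K.el cyY) (K.el cvV) := fun hx e h => by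
      rw [(P.inW_iff hx).2 h] at e
      simp at e
    refine hF.pairCent_le_of_mixed (x₁ := K.el F.mixA) (x₂ := K.el F.mixB) (z₀ := K.el F.mixZ)
      (mem_inf.2 ⟨mem_centralizer_singleton_iff.2 (K.mem _ lA),
        mem_centralizer_singleton_iff.2 ((K.commute_iff lA hy).2 (hcy 3 (by norm_num)))⟩)
      (mem_inf.2 ⟨mem_centralizer_singleton_iff.2 (K.mem _ lB),
        mem_centralizer_singleton_iff.2 ((K.commute_iff lB hy).2 (hcy 4 (by norm_num)))⟩)
      ((K.commute_iff lA hv).2 hAv) ((K.commute_iff lB hv).2 hBv) (nW lA hAW) (nW lB hBW) ?_ ?_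
      ((P.inW_iff lZ).1 hZW) ?_ ((P.colC_iff lA).1 hcA) ?_ ?_
    · rw [K.el_mul _ lA _ lA]; exact (P.inW_iff (mulC_lt lA _)).1 hAA
    · rw [K.el_mul _ lB _ lB]; exact (P.inW_iff (mulC_lt lB _)).1 hBB
    · intro e
      have := K.el_inj _ lZ 0 (by norm_num) (by rw [e, K.el_zero (by norm_num)])
      rw [this] at hZ0
      simp at hZ0
    · rw [K.el_mul _ lA _ lZ]; exact (P.colC_iff (mulC_lt lA _)).1 hcAZ
    · intro z hz hz1 hconj
      obtain ⟨zc, hzc, rfl⟩ := K.surj z (by
        exact (hF.loc.mem_S.1 (hF.pair_le_S hz)).1.eq)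
      have hzW := (P.inW_iff hzc).2 hz
      rw [K.el_mul _ lB _ hzc, ← P.colC_iff (mulC_lt lB _)] at hconj
      simp only [inW, Bool.or_eq_true, Nat.beq_eq] at hzW
      rcases hzW with rfl | rfl | rfl | rfl
      · exact hz1 (K.el_zero (by norm_num))
      · exact absurd hconj (by simpa using hcB 0 (by norm_num))
      · exact absurd hconj (by simpa using hcB 1 (by norm_num))
      · exact absurd hconj (by simpa using hcB 2 (by norm_num))
  · intro w hw hw2 hw1
    obtain ⟨h, hh, ⟨hc, -⟩ | he⟩ := P.sub_fused hS hw hw2 hw1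
    · exact Or.inl hc
    · exact Or.inr ⟨h, hh, he⟩

end Pattern

end CfsgLib.Recog.Held
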