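import Cfsg.Agent.Lib.Recog.Held.LocalGlueDefs

set_option autoImplicit false

/-!
The gluing of the two normalisers for the patterns of `L5(2)` and `M24` (owner: helper25).
Generated by `notes/held/local25/glue3.py`.
-/

namespace CfsgLib.Recog.Held

/-- The gluing for mask 27. -/
def glue27 : GlueData where
  nv := 62
  nm := 3359643908
  bm := 10875837444
  f0 := 5
  f1 := 29
  basis := [[1, 0, 4, 0], [4, 4, 16, 2], [4, 0, 1, 0], [8, 0, 16, 0], [16, 0, 8, 0], [0, 2, 12, 4]]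
  conjs := [[2, 12704, 2, 0, 36, 0, 8, 12, 16, 9]]
  sepG := [12, 2, 25, 13, 26]
  sepH := [33, 5, 0, 5, 0]
  cg := [12731, 16405, 9348, 254]
  letA := [[0, 35, 28], [1, 30, 7], [2, 33, 9]]
  letB := [[0, 27, 45], [1, 58, 2], [3, 45, 42]]

/-- The gluing for mask 91. -/
def glue91 : GlueData where
  nv := 52
  nm := 34431372236
  bm := 27988921676
  f0 := 25
  f1 := 0
  basis := [[1, 0, 12, 0], [13, 4, 29, 2], [4, 0, 16, 0], [8, 0, 17, 0], [16, 0, 4, 0], [8, 2, 21, 4]]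
  conjs := [[2, 12771, 2, 0, 47, 0, 1, 12, 12, 21]]
  sepG := [12, 8, 25, 10, 26]
  sepH := [97, 13, 0, 13, 0]
  cg := [12760, 16452, 2621, 21312]
  letA := [[0, 47, 28], [1, 27, 3], [2, 3, 37]]
  letB := [[0, 8, 33], [1, 48, 2], [3, 10, 1]]

end CfsgLib.Recog.Held
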