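import Cfsg.Agent.Lib.Recog.Held.LocalFusData
import Cfsg.Agent.Lib.Recog.Held.LocalGlueData

set_option autoImplicit false
set_option maxRecDepth 100000
set_option Elab.async false

/-! Kernel evaluation of the fusion checks (owner: helper25). -/

namespace CfsgLib.Recog.Held

theorem localOK_27 : localOK fus27 = true := by decide +kernel

theorem localOK_91 : localOK fus91 = true := by decide +kernel

theorem pickOK_27 : pickOK fus27 = true := by decide +kernel

theorem pickOK_91 : pickOK fus91 = true := by decide +kernel

theorem fusOK_27 : fusOK sideA27 sideB27 glue27 fus27 = true := by decide +kernel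

theorem fusOK_91 : fusOK sideA91 sideB91 glue91 fus91 = true := by decide +kernel

end CfsgLib.Recog.Held
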