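import Cfsg.Agent.Lib.Recog.Held.LocalFusDefs

set_option autoImplicit false

/-!
Witnesses for the fusion of the patterns of `L5(2)` and `M24` (owner: helper25).
Generated by `notes/held/local25/fus3.py`.
-/

namespace CfsgLib.Recog.Held

/-- The fusion data for mask 27. -/
def fus27 : FusData where
  mask := 27
  sigma := 17
  fourA := 2
  fourB := 4
  mixA := 2
  mixZ := 10
  mixB := 4
  orbit := [[2, 0, 0], [4, 0, 1], [6, 7434, 1], [8, 0, 2], [32, 0, 3], [40, 7434, 3], [64, 0, 4], [66, 13429, 0], [68, 11494, 1], [70, 6630, 1], [72, 13429, 2], [96, 11494, 3], [104, 6630, 3], [11392, 0, 5], [11394, 0, 6], [11400, 13429, 6], [11466, 13429, 5], [11904, 0, 7], [11910, 16831, 7], [11912, 11494, 7], [11982, 11929, 7], [13312, 0, 8], [13314, 11494, 8], [13352, 13429, 8], [13418, 18129, 8], [16768, 7434, 7], [16772, 18129, 7], [16776, 6630, 7], [16844, 13429, 7], [18048, 7434, 8],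 [18050, 6630, 8], [18080, 11929, 8], [18146, 16831, 8]]
  witness := [[[2], [1, 2, 0, 2, 24, 10, 18, 4, 2, 1, 4]], [[4], [0, 1048, 800], [2, 9, 0, 11, 2, 51, 3, 4, 0, 4]], [[8], [0, 1024, 768], [2, 2, 0, 11, 2, 51, 3, 4, 1, 4, 3]], [[32], [1, 4, 0, 2, 24, 10, 18, 4, 1, 4, 1]], [[64]], [[11392], [1, 0, 18, 2, 24, 10, 18, 2], [0, 128, 128], [1, 16, 0, 5, 0, 25, 0, 4], [0, 256, 2432]], [[11394], [1, 2, 18, 2, 24, 10, 18, 4, 0, 2], [2, 59, 0, 53, 0, 43, 0, 4, 3]], [[11904], [0, 2048, 4224], [1, 16, 0, 7, 0, 43, 0, 4]], [[13312], [0, 388, 1409], [1, 50, 0, 14, 24, 56, 18, 4, 2]]]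
  single := [[[0, 64], [0, 8, 8], [1, 9, 0, 9, 0, 9, 0, 4, 0, 4]], [[1, 64], [1, 0, 24, 0, 24, 0, 24, 4, 2], [0, 128, 128], [1, 16, 0, 16, 0, 16, 0, 4]], [[4, 64], [0, 1280, 2304], [1, 16, 0, 16, 0, 16, 0, 4]], [[5, 10], [0, 16, 16], [2, 39, 4, 39, 4, 39, 4, 4, 3, 0], [0, 384, 1408]], [[6, 10], [2, 42, 28, 42, 28, 42, 28, 3, 4, 0, 3, 4]], [[7, 10], [0, 1280, 2304], [1, 21, 0, 21, 0, 21, 0, 0, 4], [0, 256, 2432]]]

/-- The fusion data for mask 91. -/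
def fus91 : FusData where
  mask := 91
  sigma := 17
  fourA := 2
  fourB := 4
  mixA := 2
  mixZ := 10
  mixB := 4
  orbit := [[2, 0, 0], [4, 0, 1], [6, 7434, 1], [8, 0, 2], [32, 0, 3], [40, 7434, 3], [64, 0, 4], [66, 13429, 0], [68, 11494, 1], [70, 6630, 1], [72, 13429, 2], [96, 11494, 3], [104, 6630, 3], [11392, 0, 5], [11394, 0, 6], [11400, 13429, 6], [11424, 0, 7], [11426, 11929, 7], [11432, 7434, 7], [11434, 13429, 7], [11466, 13429, 5], [11488, 11494, 7], [11490, 16831, 7], [11496, 6630, 7], [11498, 18129, 7], [11904, 0, 8], [11910, 16831, 8], [11912, 11494, 8], [11982, 11929, 8], [13312, 0, 9], [13314, 11494, 9], [13320, 0, 10], [13322, 11494, 10], [13344, 0, 11], [13346, 18129, 10], [13352, 13429, 9], [13384, 13429, 11], [13386, 18129, 11], [13408, 13429, 10], [13410, 11494, 11], [13418, 18129, 9], [16768, 7434, 8], [16772, 18129, 8], [16776, 6630, 8], [16844, 13429,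 8], [18048, 7434, 9], [18050, 6630, 9], [18056, 7434, 10], [18058, 6630, 10], [18080, 11929, 9], [18088, 7434, 11], [18090, 16831, 10], [18120, 11929, 11], [18122, 16831, 11], [18146, 16831, 9], [18152, 11929, 10], [18154, 6630, 11]]
  witness := [[[2], [1, 2, 0, 0, 24, 0, 18, 4, 0, 4, 2]], [[4], [0, 1048, 800], [2, 9, 0, 10, 2, 2, 3, 4, 0, 4]], [[8], [0, 1408, 384], [1, 4, 0, 6, 0, 58, 0, 4, 1, 4]], [[32], [1, 4, 0, 0, 24, 0, 18, 4, 1, 4]], [[64]], [[11392], [0, 16, 16], [1, 8, 42, 8, 24, 10, 42, 2], [2, 33, 0, 15, 0, 40, 0, 0, 4, 3], [0, 256, 2432]], [[11394], [0, 2432, 256], [1, 17, 0, 5, 0, 25, 0, 4]], [[11424], [0, 1920, 3968], [2, 34, 0, 7, 0, 41, 0, 4, 0, 3, 4]], [[11904], [0, 2054, 4225], [1, 17, 0, 15, 0, 40, 0, 4]], [[13312], [0, 400, 1424], [1, 52, 0, 12, 24, 62, 42, 4, 2]], [[13320], [0, 1920, 3968], [2, 22, 0, 7, 0, 41, 0, 4, 3, 4]], [[13344], [1, 62, 18, 0, 24,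 0, 18, 0, 4, 1, 2], [2, 33, 0, 46, 0, 41, 0, 4, 3], [0, 256, 2432]]]
  single := [[[0, 64], [0, 8, 8], [1, 9, 0, 9, 0, 9, 0, 4, 0, 4]], [[1, 64], [0, 1408, 384], [1, 4, 0, 4, 0, 4, 0, 4, 1, 4]], [[4, 64], [0, 1286, 2306], [1, 17, 0, 17, 0, 17, 0, 4]], [[6, 64], [0, 1280, 2304], [2, 22, 0, 22, 0, 22, 0, 4, 3, 4]], [[5, 10], [0, 82, 18], [2, 32, 18, 32, 18, 32, 18, 4, 3], [0, 384, 1408]], [[7, 10], [0, 1286, 2306], [1, 28, 0, 28, 0, 28, 0, 4], [0, 256, 2432]]]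

end CfsgLib.Recog.Held
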