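import Cfsg.Agent.Lib.Recog.Held.LocalDefs

set_option autoImplicit false

/-!
The checks that the letter outside `C(t)` is the same in the two normalisers (owner: helper25).
-/

namespace CfsgLib.Recog.Held

/-- The data of a gluing. -/
structure GlueData where
  /-- the vector of the letter on the first side -/
  nv : ℕ
  /-- its matrix -/
  nm : ℕ
  /-- its matrix on the second side -/
  bm : ℕ
  /-- its vector on the second side -/
  f0 : ℕ
  /-- the other possible vector -/
  f1 : ℕ
  /-- the basis of the second subgroup and its images, on the first side -/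
  basis : List (List ℕ)
  /-- conjugations inside both normalisers -/
  conjs : List (List ℕ)
  /-- an element whose product with the letter has its cube in `C(t)` -/
  sepG : List ℕ
  /-- that cube -/
  sepH : List ℕ
  /-- the four letters in `C(t)` -/
  cg : List ℕ
  /-- letters in the first normaliser -/
  letA : List (List ℕ)
  /-- letters in the second normaliser -/
  letB : List (List ℕ)

/-- The product of two pairs. -/
noncomputable def pMul (p q : ℕ × ℕ) : ℕ × ℕ := (Nat.xor p.1 (apM p.2 q.1), mmM p.2 q.2)

/-- Equality of pairs. -/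
noncomputable def pEq (p q : ℕ × ℕ) : Bool := Nat.beq p.1 q.1 && Nat.beq p.2 q.2

/-- A pair of `C(t)`. -/
noncomputable def kPair (s : SideData) (v j : ℕ) : ℕ × ℕ := (v, kMat s j)

/-- The code is the product of the vector and the element of the complement. -/
noncomputable def witOK' (s : SideData) (x v j : ℕ) : Bool :=
  Nat.blt v 64 && (Nat.blt j 48 && Nat.beq (nEl s v j) x)

/-- The letter on the first side. -/
noncomputable def nPair (d : GlueData) : ℕ × ℕ := (d.nv, d.nm)

/-- A matrix keeps the colours and has no kernel. -/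
noncomputable def presOK (s : SideData) (A : ℕ) : Bool :=
  allBelow 64 fun v => (!xor (colT s (apM A v)) (colT s v)) && (Nat.beq v 0 || !Nat.beq (apM A v) 0)

/-- The letter moves the second subgroup by the given matrix. -/
noncomputable def basisOK (sA sB : SideData) (d : GlueData) : Bool :=
  allBelow 6 fun b =>
    witOK' sA (eAt sB.e (2 ^ b)) ((d.basis.getD b []).getD 0 0) ((d.basis.getD b []).getD 1 0) &&
    (witOK' sA (eAt sB.e (apM d.bm (2 ^ b))) ((d.basis.getD b []).getD 2 0) ((d.basis.getD b []).getD 3 0) &&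
      pEq (pMul (pMul (nPair d) (kPair sA ((d.basis.getD b []).getD 0 0) ((d.basis.getD b []).getD 1 0))) (nPair d))
        (kPair sA ((d.basis.getD b []).getD 2 0) ((d.basis.getD b []).getD 3 0)))

/-- One conjugation is right on the first side. -/
noncomputable def conjA (sA sB : SideData) (d : GlueData) : List ℕ → Bool
  | [g, y, vA, jA, vA', jA', vB, jB, vB', jB'] =>
    witOK' sA g vA jA && (witOK' sA y vA' jA' && (witOK' sB g vB jB && (witOK' sB y vB' jB' &&
      pEq (pMul (pMul (nPair d) (kPair sA vA jA)) (nPair d)) (kPair sA vA' jA'))))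
  | _ => false

/-- One conjugation is right on the second side. -/
noncomputable def conjB (sB : SideData) (P : ℕ × ℕ) : List ℕ → Bool
  | [_, _, _, _, _, _, vB, jB, vB', jB'] => pEq (pMul (pMul P (kPair sB vB jB)) P) (kPair sB vB' jB')
  | _ => false

/-- The cube of a product. -/
noncomputable def cube (P Q : ℕ × ℕ) : ℕ × ℕ := pMul (pMul (pMul P Q) (pMul P Q)) (pMul P Q)

/-- The cube is right on both sides for the listed vectors only. -/
noncomputable def sepOK (sA sB : SideData) (d : GlueData) : Bool :=
  witOK' sA (d.sepG.getD 0 0) (d.sepG.getD 1 0) (d.sepG.getD 2 0) &&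
  (witOK' sB (d.sepG.getD 0 0) (d.sepG.getD 3 0) (d.sepG.getD 4 0) &&
  (witOK' sA (d.sepH.getD 0 0) (d.sepH.getD 1 0) (d.sepH.getD 2 0) &&
  (witOK' sB (d.sepH.getD 0 0) (d.sepH.getD 3 0) (d.sepH.getD 4 0) &&
  (pEq (cube (nPair d) (kPair sA (d.sepG.getD 1 0) (d.sepG.getD 2 0)))
      (kPair sA (d.sepH.getD 1 0) (d.sepH.getD 2 0)) &&
  allBelow 64 fun f => !(pEq (pMul (f, d.bm) (f, d.bm)) (0, idM) && (d.conjs.all (conjB sB (f, d.bm)) &&
      pEq (cube (f, d.bm) (kPair sB (d.sepG.getD 3 0) (d.sepG.getD 4 0)))
        (kPair sB (d.sepH.getD 3 0) (d.sepH.getD 4 0)))) || (Nat.beq f d.f0 || Nat.beq f d.f1)))))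

/-- All checks of a gluing. -/
noncomputable def glueOK (sA sB : SideData) (d : GlueData) : Bool :=
  Nat.blt d.nv 64 && (Nat.blt d.nm (2 ^ 36) && (Nat.blt d.bm (2 ^ 36) && (presOK sA d.nm &&
    (pEq (pMul (nPair d) (nPair d)) (0, idM) && (basisOK sA sB d && (d.conjs.all (conjA sA sB d) &&
      (sepOK sA sB d && pEq (pMul (pMul (tVec sB.e, idM) (d.f1, d.bm)) (tVec sB.e, idM)) (d.f0, d.bm))))))))

/-- The pair of a letter on a side, if it has one. -/
noncomputable def letPair (s : SideData) (L : List (List ℕ)) (P : ℕ × ℕ) (x : ℕ) : Option (ℕ × ℕ) :=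
  if x = 4 then some P else (L.find? fun e => Nat.beq (e.getD 0 0) x).map fun e => kPair s (e.getD 1 0) (e.getD 2 0)

/-- The value of a word on a side. -/
noncomputable def evalW (s : SideData) (L : List (List ℕ)) (P : ℕ × ℕ) : List ℕ → Option (ℕ × ℕ)
  | [] => some (0, idM)
  | x :: w => match letPair s L P x, evalW s L P w with
    | some a, some b => some (pMul a b)
    | _, _ => none

/-- The value of a word on a side is trivial. -/
noncomputable def evalOne (s : SideData) (L : List (List ℕ)) (P : ℕ × ℕ) (w : List ℕ) : Bool :=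
  match evalW s L P w with
  | some a => pEq a (0, idM)
  | none => false

/-- The code of a word in `C(t)`. -/
noncomputable def evalC (cg : List ℕ) : List ℕ → ℕ
  | [] => 0
  | x :: w => mulC 0 (cg.getD x 0) (evalC cg w)

/-- The letters are listed right. -/
noncomputable def lettersOK (sA sB : SideData) (d : GlueData) : Bool :=
  allBelow 4 (fun x => Nat.blt (d.cg.getD x 0) 21504) &&
  (d.letA.all (fun e => witOK' sA (d.cg.getD (e.getD 0 0) 0) (e.getD 1 0) (e.getD 2 0) && Nat.blt (e.getD 0 0) 4) &&
  d.letB.all (fun e => witOK' sB (d.cg.getD (e.getD 0 0) 0) (e.getD 1 0) (e.getD 2 0) && Nat.blt (e.getD 0 0) 4))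

/-- A relator holds in one of the three models. -/
noncomputable def relOK (sA sB : SideData) (d : GlueData) (w : List ℕ) : Bool :=
  (w.all (fun x => Nat.blt x 4) && Nat.beq (evalC d.cg w) 0) ||
    (evalOne sA d.letA (nPair d) w || evalOne sB d.letB (d.f0, d.bm) w)

end CfsgLib.Recog.Held
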