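import Cfsg.Agent.Lib.Recog.Held.LocalCompat
import Cfsg.Agent.Lib.Recog.Held.LocalGlueDefs

set_option autoImplicit false
set_option linter.unusedSectionVars false

/-!
The letter outside `C(t)`, read on both sides (owner: helper25).
-/

namespace CfsgLib.Recog.Held

open SideHyp

theorem packM_lt {f : ℕ → ℕ} (h : ∀ j < 6, f j < 64) : packM f < 2 ^ 36 := by
  have h0 := h 0 (by norm_num); have h1 := h 1 (by norm_num); have h2 := h 2 (by norm_num)
  have h3 := h 3 (by norm_num); have h4 := h 4 (by norm_num); have h5 := h 5 (by norm_num)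
  unfold packM
  norm_num
  omega

theorem mmM_lt (A B : ℕ) : mmM A B < 2 ^ 36 := packM_lt fun _ _ => apM_lt _ _

theorem idM_lt : idM < 2 ^ 36 := packM_lt fun j hj => (Nat.pow_lt_pow_right one_lt_two hj).trans_eq (by norm_num)

theorem kMat_lt (s : SideData) (j : ℕ) : kMat s j < 2 ^ 36 := field_lt 36 _ j

theorem pEq_iff {P Q : ℕ × ℕ} : pEq P Q = true ↔ P = Q := by
  rw [pEq, Bool.and_eq_true, Nat.beq_eq, Nat.beq_eq, Prod.ext_iff]

theorem presOK_spec {s : SideData} {A : ℕ} (h : presOK s A = true) : Pres s A := by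
  intro v hv
  have hh := allBelow_spec.1 h v hv
  simp only [Bool.and_eq_true, Bool.or_eq_true, Nat.beq_eq, Bool.not_eq_true'] at hh
  obtain ⟨h1, h2⟩ := hh
  refine ⟨?_, fun e => h2.resolve_right fun h3 => by rw [e] at h3; simp at h3⟩
  revert h1
  cases colT s (apM A v) <;> cases colT s v <;> simp

variable {G : Type*} [Group G] [Finite G] {t : G} {K : Coord t 0}

/-- A pair reads an element in the normaliser of a side. -/
def Reads (K : Coord t 0) (s : SideData) (p x : G) (P : ℕ × ℕ) : Prop :=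
  P.1 < 64 ∧ P.2 < 2 ^ 36 ∧ ∃ l, IsLift K s p l P.2 ∧ x = eEl K s P.1 * l

section Side

variable {s : SideData} (h : SideHyp K s) {p : G} (hc : Compat K s p)
include h hc

theorem Reads.mul {x y : G} {P Q : ℕ × ℕ} (hx : Reads K s p x P) (hy : Reads K s p y Q) :
    Reads K s p (x * y) (pMul P Q) := by
  obtain ⟨hP, -, l, hl, rfl⟩ := hx
  obtain ⟨hQ, -, m, hm, rfl⟩ := hy
  refine ⟨xor_lt64 hP (apM_lt _ _), mmM_lt _ _, l * m, h.lift_mul hc.acts hc.cube hl hm, ?_⟩
  show _ = eEl K s (Nat.xor P.1 (apM P.2 Q.1)) * (l * m)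
  rw [← h.e_mul hP (apM_lt _ _), ← hl.1 Q.1 hQ]
  group

theorem Reads.one : Reads K s p 1 (0, idM) :=
  ⟨by norm_num, idM_lt, 1, ⟨fun v hv => by rw [apM_idM hv]; group, Or.inl (by group)⟩,
    by rw [h.e_zero, one_mul]⟩

theorem Reads.ext {x y : G} {P : ℕ × ℕ} (hx : Reads K s p x P) (hy : Reads K s p y P) : x = y := by
  obtain ⟨-, -, l, hl, rfl⟩ := hx
  obtain ⟨-, -, m, hm, rfl⟩ := hy
  rw [h.lift_unique hc.acts hc.cube hl hm]

theorem Reads.acts {x : G} {P : ℕ × ℕ} (hx : Reads K s p x P) : Acts K s x P.2 := by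
  obtain ⟨hP, -, l, hl, rfl⟩ := hx
  intro v hv
  rw [(h.acts_mul (h.acts_e hP) hl.1) v hv, apM_mmM _ _ hv, apM_idM (apM_lt _ _)]

theorem Reads.inj {x : G} {P Q : ℕ × ℕ} (hx : Reads K s p x P) (hy : Reads K s p x Q) : P = Q := by
  have hM : P.2 = Q.2 := mat_ext hx.2.1 hy.2.1 fun v hv => h.e_inj (apM_lt _ _) (apM_lt _ _) (by
    rw [← Reads.acts h hc hx v hv, ← Reads.acts h hc hy v hv])
  obtain ⟨hP, -, l, hl, e⟩ := hx
  obtain ⟨hQ, -, m, hm, e'⟩ := hy
  rw [hM] at hl
  rw [h.lift_unique hc.acts hc.cube hl hm] at e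
  exact Prod.ext (h.e_inj hP hQ (mul_right_cancel (e.symm.trans e'))) hM

theorem Reads.code {x v j : ℕ} (hw : witOK' s x v j = true) : Reads K s p (K.el x) (kPair s v j) := by
  simp only [witOK', Bool.and_eq_true, Nat.blt_eq, Nat.beq_eq] at hw
  obtain ⟨hv, hj, rfl⟩ := hw
  refine ⟨hv, kMat_lt s j, _, hc.stab j hj, ?_⟩
  show K.el (mulC 0 (eAt s.e v) (kAt s j)) = K.el (eAt s.e v) * K.el (kAt s j)
  rw [K.el_mul _ ((eOK_spec h.eok).2.2.2 v hv).1 _ ((normSpec h.nok).klt j hj)]

/-- Conjugating the element of order three by `t` moves the vectors. -/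
theorem Reads.twist : Compat K s (t * p * t) ∧ ∀ (x : G) (P : ℕ × ℕ), Reads K s p x P →
    Reads K s (t * p * t) x (pMul (pMul (tVec s.e, idM) P) (tVec s.e, idM)) := by
  obtain ⟨-, htv, -, -⟩ := eOK_spec h.eok
  have htt : t * t = 1 := K.t_sq (by norm_num)
  have hat : Acts K s t idM := by
    have := h.acts_e htv
    rwa [h.e_t] at this
  have hti : t⁻¹ = t := inv_eq_of_mul_eq_one_right htt
  have hp2 : t * p * t * (t * p * t) = t * (p * p) * t := by
    calc t * p * t * (t * p * t) = t * p * (t * t) * p * t := by group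
      _ = t * (p * p) * t := by rw [htt]; group
  have conj : ∀ {l : G} {A : ℕ}, IsLift K s p l A → IsLift K s (t * p * t) (t * l * t) (mmM (mmM idM A) idM) := by
    intro l A hl
    refine ⟨h.acts_mul (h.acts_mul hat hl.1) hat, ?_⟩
    have e : t * l * t * (t * p * t) * (t * l * t)⁻¹ = t * (l * p * l⁻¹) * t := by
      rw [_root_.mul_inv_rev, _root_.mul_inv_rev, hti]
      calc t * l * t * (t * p * t) * (t * (l⁻¹ * t)) = t * l * (t * t) * p * (t * t) * l⁻¹ * t := by group
        _ = t * (l * p * l⁻¹) * t := by rw [htt]; group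
    rw [e]
    rcases hl.2 with e' | e' <;> rw [e']
    · exact Or.inl rfl
    · exact Or.inr hp2.symm
  have hcomp : Compat K s (t * p * t) := by
    refine ⟨fun v hv => ?_, ?_, fun j hj => ?_⟩
    · rw [(h.acts_mul (h.acts_mul hat hc.acts) hat) v hv, apM_mmM _ _ hv, apM_idM hv, apM_mmM _ _ hv,
        apM_idM (apM_lt _ _)]
    · calc t * p * t * (t * p * t) * (t * p * t) = t * (p * p) * t * (t * p * t) := by rw [hp2]
        _ = t * (p * p) * (t * t) * p * t := by group
        _ = t * (p * p * p) * t := by rw [htt]; group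
        _ = 1 := by rw [hc.cube, mul_one, htt]
    · have hk : K.el (kAt s j) * t = t * K.el (kAt s j) := K.mem _ ((normSpec h.nok).klt j hj)
      have e : t * K.el (kAt s j) * t = K.el (kAt s j) := by rw [← hk, mul_assoc, htt, mul_one]
      refine h.lift_congr (p := t * p * t) ?_ ?_ (A := mmM (mmM idM (kMat s j)) idM) ?_ fun v hv => ?_
      · intro v hv
        rw [(h.acts_mul (h.acts_mul hat hc.acts) hat) v hv, apM_mmM _ _ hv, apM_idM hv, apM_mmM _ _ hv,
          apM_idM (apM_lt _ _)]
      · calc t * p * t * (t * p * t) * (t * p * t) = t * (p * p) * t * (t * p * t) := by rw [hp2]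
          _ = t * (p * p) * (t * t) * p * t := by group
          _ = t * (p * p * p) * t := by rw [htt]; group
          _ = 1 := by rw [hc.cube, mul_one, htt]
      · conv in (K.el (kAt s j)) => rw [← e]
        exact conj (hc.stab j hj)
      · rw [apM_mmM _ _ hv, apM_idM hv, apM_mmM _ _ hv, apM_idM (apM_lt _ _)]
  refine ⟨hcomp, ?_⟩
  rintro x P ⟨hP, hP2, l, hl, rfl⟩
  refine ⟨xor_lt64 (xor_lt64 htv (apM_lt _ _)) (apM_lt _ _), mmM_lt _ _, t * l * t, conj hl, ?_⟩
  show _ = eEl K s (Nat.xor (Nat.xor (tVec s.e) (apM idM P.1)) (apM (mmM idM P.2) (tVec s.e))) * (t * l * t)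
  rw [apM_idM hP, apM_mmM _ _ htv, apM_idM (apM_lt _ _), ← h.e_mul (xor_lt64 htv hP) (apM_lt _ _),
    ← h.e_mul htv hP, ← hl.1 _ htv, h.e_t]
  have hc' : t * eEl K s P.1 = eEl K s P.1 * t := by
    have := (h.e_comm htv hP).eq
    rwa [h.e_t] at this
  have h2 : t * l * t⁻¹ = t * l * t := by rw [hti]
  calc eEl K s P.1 * l = eEl K s P.1 * (t * t) * l := by rw [htt, mul_one]
    _ = eEl K s P.1 * t * (t * l) := by group
    _ = t * eEl K s P.1 * (t * l) := by rw [hc']
    _ = _ := by
      have h3 : l * t * l⁻¹ * (t * l * t) = t * l := by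
        have hlt : t * (l * t * l⁻¹) = l * t * l⁻¹ * t := by
          have e1 := hl.1 _ htv
          have e2 := (h.e_comm htv (apM_lt P.2 (tVec s.e))).eq
          rw [h.e_t] at e1 e2
          rw [e1]; exact e2
        calc l * t * l⁻¹ * (t * l * t) = (l * t * l⁻¹ * t) * (l * t) := by group
          _ = t * (l * t * l⁻¹) * (l * t) := by rw [hlt]
          _ = t * l * (t * t) := by group
          _ = t * l := by rw [htt, mul_one]
      rw [mul_assoc _ (l * t * l⁻¹), h3]

end Side

/-- The letters. -/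
noncomputable def letters (K : Coord t 0) (d : GlueData) (m : G) (x : ℕ) : G :=
  if x < 4 then K.el (d.cg.getD x 0) else m

/-- The letter outside `C(t)` read on both sides. -/
structure Glued (K : Coord t 0) (sA sB : SideData) (d : GlueData) (m pA pB : G) : Prop where
  compA : Compat K sA pA
  compB : Compat K sB pB
  readA : Reads K sA pA m (nPair d)
  readB : Reads K sB pB m (d.f0, d.bm)
  sq : m * m = 1

theorem acts_of_basis {s : SideData} (h : SideHyp K s) {n : G} {A : ℕ}
    (hb : ∀ b < 6, n * eEl K s (2 ^ b) * n⁻¹ = eEl K s (apM A (2 ^ b))) : Acts K s n A := by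
  have hgen : ∀ k ≤ 6, ∀ v < 2 ^ k, n * eEl K s v * n⁻¹ = eEl K s (apM A v) := by
    intro k hk
    induction k with
    | zero =>
      intro v hv
      obtain rfl : v = 0 := by simpa using hv
      rw [apM_zero, h.e_zero, mul_one, mul_inv_cancel]
    | succ k ih =>
      intro v hv
      by_cases hvk : v < 2 ^ k
      · exact ih (by omega) v hvk
      · have hp : 2 ^ (k + 1) ≤ 64 := le_trans (Nat.pow_le_pow_right two_pos hk) (by norm_num)
        rw [pow_succ] at hp hv
        have hw : v - 2 ^ k < 2 ^ k := by omega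
        have hadd : ∀ j < 6, ∀ w < 2 ^ j, Nat.xor w (2 ^ j) = w + 2 ^ j := by decide
        have e : Nat.xor (v - 2 ^ k) (2 ^ k) = v := by rw [hadd k (by omega) _ hw]; omega
        rw [← e, apM_xor, ← h.e_mul (by omega) (by omega), ← h.e_mul (apM_lt _ _) (apM_lt _ _),
          ← ih (by omega) _ hw, ← hb k (by omega)]
        group
  exact fun v hv => hgen 6 le_rfl v (by simpa using hv)

theorem exists_glue {sA sB : SideData} (hA : SideHyp K sA) (hB : SideHyp K sB) {pA pB : G}
    (cA : Compat K sA pA) (cB : Compat K sB pB) {d : GlueData} (hg : glueOK sA sB d = true) :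
    ∃ m pB', Glued K sA sB d m pA pB' := by
  simp only [glueOK, Bool.and_eq_true, Nat.blt_eq, List.all_eq_true] at hg
  obtain ⟨hnv, hnm, hbm, hpres, hsq, hbasis, hconj, hsep, hswap⟩ := hg
  obtain ⟨l, hl⟩ := hA.exists_lift cA.acts cA.cube (presOK_spec hpres)
  obtain ⟨m, hm⟩ : ∃ m, m = eEl K sA d.nv * l := ⟨_, rfl⟩
  have rA : Reads K sA pA m (nPair d) := ⟨hnv, hnm, l, hl, hm⟩
  have hmm : m * m = 1 := by
    have := Reads.mul hA cA rA rA
    rw [pEq_iff.1 hsq] at this
    exact Reads.ext hA cA this (Reads.one hA cA)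
  have hmi : m⁻¹ = m := inv_eq_of_mul_eq_one_right hmm
  have conjA' : ∀ {x y v j v' j' : ℕ}, witOK' sA x v j = true → witOK' sA y v' j' = true →
      pEq (pMul (pMul (nPair d) (kPair sA v j)) (nPair d)) (kPair sA v' j') = true →
      m * K.el x * m⁻¹ = K.el y := by
    intro x y v j v' j' hx hy he
    have := Reads.mul hA cA (Reads.mul hA cA rA (Reads.code hA cA hx)) rA
    rw [pEq_iff.1 he] at this
    rw [hmi]
    exact Reads.ext hA cA this (Reads.code hA cA hy)
  have hact : Acts K sB m d.bm := acts_of_basis hB fun b hb => by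
    have h := allBelow_spec.1 hbasis b hb
    simp only [Bool.and_eq_true] at h
    exact conjA' h.1 h.2.1 h.2.2
  obtain ⟨l', hl'⟩ := hB.exists_lift cB.acts cB.cube (hB.pres_of_acts hact)
  obtain ⟨f, hf, hfm⟩ := hB.eq_e_of_fix (n := m * l'⁻¹) fun v hv => by
    obtain ⟨u, hu, rfl⟩ := exists_preimage (fun u _ => apM_lt d.bm u)
      (fun a ha b hb e => (hB.pres_of_acts hact).inj ha hb e) hv
    conv_lhs => rw [← hl'.1 u hu]
    rw [← hact u hu]
    group
  have rB : Reads K sB pB m (f, d.bm) := ⟨hf, hbm, l', hl', by rw [← hfm, inv_mul_cancel_right]⟩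
  simp only [sepOK, Bool.and_eq_true, allBelow_spec, Bool.or_eq_true, Bool.not_eq_true', Nat.beq_eq] at hsep
  obtain ⟨gA, gB, hA', hB', hcube, hf'⟩ := hsep
  have hcases : f = d.f0 ∨ f = d.f1 := by
    refine (hf' f hf).resolve_left fun hc => ?_
    have h1 : pEq (pMul (f, d.bm) (f, d.bm)) (0, idM) = true := by
      refine pEq_iff.2 (Reads.inj hB cB (Reads.mul hB cB rB rB) ?_)
      rw [hmm]
      exact Reads.one hB cB
    have h2 : d.conjs.all (conjB sB (f, d.bm)) = true := by
      refine List.all_eq_true.2 fun e he => ?_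
      have hcj := hconj e he
      unfold conjA at hcj
      split at hcj
      · simp only [Bool.and_eq_true] at hcj
        obtain ⟨w1, w2, w3, w4, w5⟩ := hcj
        have e1 := conjA' w1 w2 w5
        rw [conjB, pEq_iff]
        refine Reads.inj hB cB (Reads.mul hB cB (Reads.mul hB cB rB (Reads.code hB cB w3)) rB) ?_
        conv in (m * _ * m) => arg 2; rw [← hmi]
        rw [e1]
        exact Reads.code hB cB w4
      · simp at hcj
    have h3 : pEq (cube (f, d.bm) (kPair sB (d.sepG.getD 3 0) (d.sepG.getD 4 0)))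
        (kPair sB (d.sepH.getD 3 0) (d.sepH.getD 4 0)) = true := by
      have a1 := Reads.mul hA cA rA (Reads.code hA cA gA)
      have a3 := Reads.mul hA cA (Reads.mul hA cA a1 a1) a1
      rw [show pMul (pMul _ _) _ = _ from pEq_iff.1 hcube] at a3
      have ee := Reads.ext hA cA a3 (Reads.code hA cA hA')
      have b1 := Reads.mul hB cB rB (Reads.code hB cB gB)
      have b3 := Reads.mul hB cB (Reads.mul hB cB b1 b1) b1
      rw [ee] at b3
      exact pEq_iff.2 (Reads.inj hB cB b3 (Reads.code hB cB hB'))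
    rw [h1, h2, h3] at hc
    simp at hc
  rcases hcases with rfl | rfl
  · exact ⟨m, pB, cA, cB, rA, rB, hmm⟩
  · refine ⟨m, t * pB * t, cA, (Reads.twist hB cB).1, rA, ?_, hmm⟩
    have := (Reads.twist hB cB).2 m _ rB
    rwa [pEq_iff.1 hswap] at this

namespace Glued

variable {sA sB : SideData} {d : GlueData} {m pA pB : G} (g : Glued K sA sB d m pA pB)
include g

theorem eval_reads {s : SideData} (h : SideHyp K s) {p : G} (hc : Compat K s p) {L : List (List ℕ)} {P : ℕ × ℕ}
    (hL : ∀ e ∈ L, witOK' s (d.cg.getD (e.getD 0 0) 0) (e.getD 1 0) (e.getD 2 0) = true ∧ e.getD 0 0 < 4)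
    (hP : Reads K s p m P) : ∀ (w : List ℕ) (a : ℕ × ℕ), evalW s L P w = some a →
      Reads K s p (w.map (letters K d m)).prod a := by
  intro w
  induction w with
  | nil =>
    intro a ha
    rw [evalW, Option.some.injEq] at ha
    rw [← ha]
    simpa using Reads.one h hc
  | cons x w ih =>
    intro a ha
    rw [evalW] at ha
    split at ha
    · rename_i b c hb hcw
      rw [Option.some.injEq] at ha
      rw [← ha, List.map_cons, List.prod_cons]
      refine Reads.mul h hc ?_ (ih c hcw)
      rw [letPair] at hb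
      split_ifs at hb with hx
      · rw [Option.some.injEq] at hb
        rw [hx, letters, if_neg (by norm_num), ← hb]
        exact hP
      · obtain ⟨e, he, rfl⟩ := Option.map_eq_some_iff.1 hb
        have hx' : e.getD 0 0 = x := by simpa using List.find?_some he
        obtain ⟨hw, hlt⟩ := hL e (List.mem_of_find?_eq_some he)
        rw [← hx', letters, if_pos hlt]
        exact Reads.code h hc hw
    · simp at ha

theorem rel (hA : SideHyp K sA) (hB : SideHyp K sB) (hl : lettersOK sA sB d = true) {w : List ℕ}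
    (hw : relOK sA sB d w = true) : (w.map (letters K d m)).prod = 1 := by
  simp only [lettersOK, Bool.and_eq_true, allBelow_spec, Nat.blt_eq, List.all_eq_true] at hl
  obtain ⟨hcg, hLA, hLB⟩ := hl
  have one : ∀ {s : SideData} (h : SideHyp K s) {p : G} (hc : Compat K s p) {L : List (List ℕ)} {P : ℕ × ℕ},
      (∀ e ∈ L, witOK' s (d.cg.getD (e.getD 0 0) 0) (e.getD 1 0) (e.getD 2 0) = true ∧ e.getD 0 0 < 4) →
      Reads K s p m P → evalOne s L P w = true → (w.map (letters K d m)).prod = 1 := by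
    intro s h p hc L P hL hP he
    rw [evalOne] at he
    split at he
    · rename_i a ha
      have := g.eval_reads h hc hL hP w a ha
      rw [pEq_iff.1 he] at this
      exact Reads.ext h hc this (Reads.one h hc)
    · simp at he
  simp only [relOK, Bool.or_eq_true, Bool.and_eq_true, List.all_eq_true, Nat.blt_eq, Nat.beq_eq] at hw
  rcases hw with ⟨hw4, he⟩ | he | he
  · suffices h : ∀ v : List ℕ, (∀ x ∈ v, x < 4) →
        evalC d.cg v < 21504 ∧ (v.map (letters K d m)).prod = K.el (evalC d.cg v) by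
      rw [(h w hw4).2, he, K.el_zero (by norm_num)]
    intro v
    induction v with
    | nil => intro _; exact ⟨by simp [evalC], by simp [evalC, K.el_zero]⟩
    | cons x v ih =>
      intro hv
      have hx := hv x List.mem_cons_self
      obtain ⟨hlt, e⟩ := ih fun y hy => hv y (List.mem_cons_of_mem _ hy)
      refine ⟨mulC_lt (hcg x hx) _, ?_⟩
      rw [List.map_cons, List.prod_cons, e, letters, if_pos hx, evalC, K.el_mul _ (hcg x hx) _ hlt]
  · exact one hA g.compA hLA g.readA he
  · exact one hB g.compB hLB g.readB he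

end Glued

end CfsgLib.Recog.Held
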