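import Cfsg.Agent.Lib.Recog.Held.LocalGlueData
import Cfsg.Agent.Lib.Recog.SporBound.HeldL5.Data
import Cfsg.Agent.Lib.Recog.SporBound.HeldM24.Data

set_option autoImplicit false
set_option maxRecDepth 100000
set_option Elab.async false

/-! Kernel evaluation of the gluing checks (owner: helper25). -/

namespace CfsgLib.Recog.Held

theorem glueOK_27 : glueOK sideA27 sideB27 glue27 = true := by decide +kernel

theorem glueOK_91 : glueOK sideA91 sideB91 glue91 = true := by decide +kernel

theorem lettersOK_27 : lettersOK sideA27 sideB27 glue27 = true := by decide +kernel

theorem lettersOK_91 : lettersOK sideA91 sideB91 glue91 = true := by decide +kernel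

theorem relsOK_27 : SporBound.HeldL5.cert.rels.all (relOK sideA27 sideB27 glue27) = true := by decide +kernel

theorem relsOK_91 : SporBound.HeldM24.cert.rels.all (relOK sideA91 sideB91 glue91) = true := by decide +kernel

end CfsgLib.Recog.Held
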