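import Cfsg.Agent.Lib.Recog.Held.LocalElem
import Cfsg.Agent.Lib.Recog.Held.LocalGlue
import Cfsg.Agent.Lib.Recog.Held.LocalGlueCheck
import Cfsg.Agent.Lib.Recog.Held.LocalCompatCheck
import Cfsg.Agent.Lib.Recog.Held.LocalCompatCheck27
import Cfsg.Agent.Lib.Recog.Held.Enum

set_option autoImplicit false

/-!
Five involutions with the relators of `L5(2)` and of `M24` for the two patterns (owner: helper25).
-/

namespace CfsgLib.Recog.Held

variable {G : Type*} [Group G] [Finite G] {t : G} (K : Coord t 0)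

theorem sideHyps_27 (hS : ∃ P : Sylow 2 G, (P : Subgroup G) ≤ Subgroup.centralizer {t}) (hm : K.mask = 27) :
    SideHyp K sideA27 ∧ SideHyp K sideB27 :=
  ⟨sideHyp_of K hS (a := 0) (by norm_num) rfl normOK_A27 matsOK_A27 hm,
    sideHyp_of K hS (a := 1) (by norm_num) rfl normOK_B27 matsOK_B27 hm⟩

theorem sideHyps_91 (hS : ∃ P : Sylow 2 G, (P : Subgroup G) ≤ Subgroup.centralizer {t}) (hm : K.mask = 91) :
    SideHyp K sideA91 ∧ SideHyp K sideB91 :=
  ⟨sideHyp_of K hS (a := 0) (by norm_num) rfl normOK_A91 matsOK_A91 hm,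
    sideHyp_of K hS (a := 1) (by norm_num) rfl normOK_B91 matsOK_B91 hm⟩

/-- The letter outside `C(t)` for mask 27. -/
theorem exists_glued_27 (hS : ∃ P : Sylow 2 G, (P : Subgroup G) ≤ Subgroup.centralizer {t}) (hm : K.mask = 27) :
    ∃ m pA pB, Glued K sideA27 sideB27 glue27 m pA pB := by
  obtain ⟨hA, hB⟩ := sideHyps_27 K hS hm
  obtain ⟨pA, cA⟩ := hA.exists_compat compOK_A27
  obtain ⟨pB, cB⟩ := hB.exists_compat compOK_B27
  obtain ⟨m, pB', g⟩ := exists_glue hA hB cA cB glueOK_27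
  exact ⟨m, pA, pB', g⟩

/-- The letter outside `C(t)` for mask 91. -/
theorem exists_glued_91 (hS : ∃ P : Sylow 2 G, (P : Subgroup G) ≤ Subgroup.centralizer {t}) (hm : K.mask = 91) :
    ∃ m pA pB, Glued K sideA91 sideB91 glue91 m pA pB := by
  obtain ⟨hA, hB⟩ := sideHyps_91 K hS hm
  obtain ⟨pA, cA⟩ := hA.exists_compat compOK_A91
  obtain ⟨pB, cB⟩ := hB.exists_compat compOK_B91
  obtain ⟨m, pB', g⟩ := exists_glue hA hB cA cB glueOK_91
  exact ⟨m, pA, pB', g⟩

/-- The relators of `L5(2)`. -/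
theorem Glued.rels_27 {m pA pB : G} (g : Glued K sideA27 sideB27 glue27 m pA pB)
    (hA : SideHyp K sideA27) (hB : SideHyp K sideB27) :
    (∀ x < 5, letters K glue27 m x * letters K glue27 m x = 1) ∧
      ∀ w ∈ relsL5, (w.map (letters K glue27 m)).prod = 1 := by
  have h : ∀ w ∈ relsL5, (w.map (letters K glue27 m)).prod = 1 := fun w hw =>
    g.rel hA hB lettersOK_27 (List.all_eq_true.1 relsOK_27 w hw)
  refine ⟨fun x hx => ?_, h⟩
  have hmem : ∀ y < 5, [y, y] ∈ SporBound.HeldL5.cert.rels := by decide +kernel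
  simpa using h [x, x] (hmem x hx)

/-- The relators of `M24`. -/
theorem Glued.rels_91 {m pA pB : G} (g : Glued K sideA91 sideB91 glue91 m pA pB)
    (hA : SideHyp K sideA91) (hB : SideHyp K sideB91) :
    (∀ x < 5, letters K glue91 m x * letters K glue91 m x = 1) ∧
      ∀ w ∈ relsM24, (w.map (letters K glue91 m)).prod = 1 := by
  have h : ∀ w ∈ relsM24, (w.map (letters K glue91 m)).prod = 1 := fun w hw =>
    g.rel hA hB lettersOK_91 (List.all_eq_true.1 relsOK_91 w hw)
  refine ⟨fun x hx => ?_, h⟩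
  have hmem : ∀ y < 5, [y, y] ∈ SporBound.HeldM24.cert.rels := by decide +kernel
  simpa using h [x, x] (hmem x hx)

end CfsgLib.Recog.Held
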