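import Cfsg.Agent.Lib.Recog.Held.LocalGlueData

set_option autoImplicit false

/-!
Words in the letters filling the normaliser on the second side of mask 91 (owner: helper25).
Generated by `notes/held/local25/nwords.py`.
-/

namespace CfsgLib.Recog.Held

/-- Words for the unit vectors. -/
def nBasis91 : List (List ℕ) := [[4, 0, 4, 1, 4, 0, 4, 1], [1, 0, 3, 0, 3, 0, 1, 0, 3, 0, 3, 0], [1, 4, 1, 4, 0, 4, 1, 4, 0, 1], [1, 0, 1, 0, 1, 0, 1, 0], [4, 1, 4, 0, 4, 0, 4, 1, 0, 4, 1], [1, 4, 0, 4, 0, 1, 4, 1, 4, 1, 4, 1, 0]]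

/-- Words for the complement. -/
def nComp91 : List (List ℕ) := [[], [4, 1, 4, 1, 4, 3, 4, 1, 4, 1, 4, 1], [4, 1, 0, 4, 0, 1, 4, 3, 0, 3, 0, 3, 0], [4, 1, 4, 1, 4, 1, 4, 1, 4, 1, 4, 3], [1, 0, 4, 0, 4, 3, 4, 0, 4, 1, 0, 1], [1, 0, 3, 0, 3, 0, 1, 0], [3, 1, 4, 1, 0, 1, 0, 4, 3], [4, 3, 0, 4, 0, 3, 4, 3, 4, 1], [0, 1, 0, 3, 0, 3, 0, 1], [3, 0, 3, 1, 0, 1, 0, 1, 0, 3, 1], [4, 0, 1, 4, 1, 0, 4, 0, 3], [1, 0, 4, 1, 4, 0, 4, 0, 1, 0, 4], [4, 1, 4, 3, 0, 3, 0, 3, 0, 4, 1, 4, 0], [3, 4, 0, 1, 4, 0, 1, 4, 1, 0], [3, 0, 3, 0, 4, 1, 0, 4, 0, 1, 4, 3, 0], [0, 1, 4, 1, 0, 4, 1, 0, 4, 3], [3, 4, 0, 1, 0, 1, 4, 3, 1], [3, 4, 3, 0, 3, 0, 3, 4, 1, 0, 1, 0], [4, 0, 4, 0, 3, 1, 4, 1, 4, 1, 4, 0, 1], [3, 0, 4, 0, 1, 4, 1, 0, 4], [1,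 4, 3, 4, 3, 0, 4, 0, 3, 4], [3, 0, 4, 1, 0, 4, 0, 1, 4, 0, 3, 0], [0, 4, 3, 0, 4, 0, 3, 4, 3, 4, 1, 0], [4, 0, 1, 0, 4, 0, 4, 1, 4, 0, 1], [3, 0, 3, 0, 3, 0], [1, 0, 3, 0, 3, 1, 0, 1, 0, 1, 0], [4, 1, 0, 4, 0, 1, 4], [1, 0, 4, 1, 0, 1, 0, 4, 3, 0, 1, 0], [3, 4, 1, 4, 0, 4, 1, 4, 3], [1, 4, 1, 4, 1, 4, 3, 0, 4, 0, 4, 1], [1, 0, 3, 0, 4, 0, 1, 0, 1, 4, 0, 1], [4, 0, 1, 4, 0, 1, 4, 1, 0, 3, 0], [3, 0, 3, 0, 3, 1, 0, 3, 0, 3, 0, 1], [1, 0, 1, 0, 1, 0, 1], [4, 0, 1, 4, 1, 0, 4, 3, 0, 3, 0], [1, 4, 1, 4, 1, 0, 1, 4, 0, 1, 0, 4], [4, 0, 3, 4, 1, 4, 1, 4, 3, 0, 4], [3, 1, 0, 1, 4, 3, 0, 3, 0, 3, 4], [0, 4, 1, 0, 4, 0, 1, 4, 0], [4, 3, 0, 3, 0, 3, 4, 1, 0, 3, 1], [1, 0, 4, 1, 0, 1, 0, 4, 0, 3, 0, 1], [3, 0, 1, 4, 1, 0, 4,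 1, 0, 4, 0], [1, 0, 3, 4, 0, 1, 0, 1, 4, 0, 1, 0], [0, 4, 0, 1, 4, 1, 0, 4, 3, 0, 3], [0, 3, 0, 1, 4, 1, 0, 4, 1, 0, 4], [3, 4, 1, 0, 1, 0, 4, 3, 1, 0, 3, 1], [0, 4, 0, 1, 4, 0, 1, 4, 1, 0, 3], [4, 0, 1, 0, 4, 1, 0, 1, 4, 1, 4, 1]]

/-- The vectors reached from the vector of `t`, with words. -/
def nOrbit91 : List (ℕ × List ℕ) := [(1, [0, 4, 0, 4]), (2, [0, 3, 4, 1, 4]), (4, [4, 1, 4]), (6, [3, 4, 1, 4]), (8, []), (9, [4, 0, 4]), (10, [4, 3, 4, 3, 4]), (12, [1, 4, 1, 4]), (14, [3, 1, 4, 1, 4]), (16, [1, 4]), (17, [4]), (18, [4, 0, 3, 0, 4]), (19, [1, 4, 0, 3, 0, 4]), (20, [1, 0, 4]), (22, [4, 3, 4]), (23, [0, 1, 4, 3, 4]), (26, [4, 3, 1, 4]), (27, [1, 4, 3, 1, 4]), (29, [0, 4]), (30, [4, 0, 3, 1, 0, 4]), (31, [1,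 4, 3, 4]), (32, [3, 1, 4]), (33, [3, 4]), (34, [4, 3, 0, 4]), (35, [1, 4, 3, 0, 4]), (36, [3, 4, 3, 4]), (37, [4, 3, 4, 1, 4]), (38, [3, 1, 0, 4]), (42, [3, 4, 3, 1, 4]), (43, [4, 0, 3, 1, 4]), (44, [4, 1, 4, 3, 1, 4]), (45, [3, 1, 4, 3, 4]), (47, [3, 0, 4]), (48, [0, 3, 1, 0, 4]), (49, [0, 3, 0, 4]), (50, [0, 3, 1, 4]), (52, [0, 4, 3, 0, 4]), (53, [0, 4, 0, 3, 1, 4]), (54, [4, 0, 3, 4]), (55, [1, 4, 3, 1, 0, 4]), (59, [0, 3, 4]), (60, [4, 1, 4, 3, 4]), (61, [3, 4, 3, 1, 0, 4]), (62, [1, 4, 0, 3, 4]), (63, [4, 3, 1, 0, 4])]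

end CfsgLib.Recog.Held
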