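import Cfsg.Agent.Lib.Recog.Held.LocalLetters
import Cfsg.Agent.Lib.Recog.Held.LocalN91Data

set_option autoImplicit false
set_option maxRecDepth 100000
set_option linter.unusedSectionVars false

/-!
For mask 91 four letters fill the normaliser of the second side, of order 138240, and the third one lies outside
(owner: helper25).
-/

namespace CfsgLib.Recog.Held

open Subgroup SideHyp

/-- A word evaluates to the given pair. -/
noncomputable def nWordOK (P : ℕ × ℕ) (w : List ℕ) : Bool :=
  w.all (fun x => Nat.blt x 5 && !Nat.beq x 2) &&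
    match evalW sideB91 glue91.letB (glue91.f0, glue91.bm) w with
    | some a => pEq a P
    | none => false

/-- A word moves the vector of `t` to the given one. -/
noncomputable def nOrbitOK (e : ℕ × List ℕ) : Bool :=
  e.2.all (fun x => Nat.blt x 5 && !Nat.beq x 2) &&
    match evalW sideB91 glue91.letB (glue91.f0, glue91.bm) e.2 with
    | some a => Nat.beq (apM a.2 (tVec sideB91.e)) e.1
    | none => false

/-- All the words are right. -/
noncomputable def n91OK : Bool :=
  allBelow 6 (fun b => nWordOK (2 ^ b, idM) (nBasis91.getD b [])) &&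
    (allBelow 48 (fun j => nWordOK (0, kMat sideB91 j) (nComp91.getD j [])) &&
      (nOrbit91.all nOrbitOK && (Nat.beq nOrbit91.length 45 &&
        (allBelow 45 (fun i => allBelow i fun k => !Nat.beq (nOrbit91.getD i (0, [])).1 (nOrbit91.getD k (0, [])).1) &&
          (allBelow 64 (fun v => !colT sideB91 v || nOrbit91.any fun e => Nat.beq e.1 v) &&
            (nOrbit91.all (fun e => Nat.blt e.1 64) &&
              !allBelow 6 fun b => Nat.blt (spOf sideB91.e (mulC 0 (mulC 0 (glue91.cg.getD 2 0)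
                (eAt sideB91.e (2 ^ b))) (glue91.cg.getD 2 0))) 64))))))

theorem n91_ok : n91OK = true := by decide +kernel

variable {G : Type*} [Group G] [Finite G] {t : G} {K : Coord t 0} {m pA pB : G}

/-- The four letters of the normaliser. -/
noncomputable def nSub (K : Coord t 0) (m : G) : Subgroup G :=
  closure {g | ∃ x < 5, x ≠ 2 ∧ g = letters K glue91 m x}

theorem n91_card (g : Glued K sideA91 sideB91 glue91 m pA pB) (hA : SideHyp K sideA91) (hB : SideHyp K sideB91) :
    Nat.card (nSub K m) = 138240 ∧ letters K glue91 m 2 ∉ nSub K m := by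
  classical
  have hn := n91_ok
  simp only [n91OK, Bool.and_eq_true, allBelow_spec, List.all_eq_true, Nat.beq_eq, Nat.blt_eq, Bool.or_eq_true,
    Bool.not_eq_true', List.any_eq_true] at hn
  obtain ⟨hbas, hcomp, horb, hlen, hdist, hcov, hlt, hout⟩ := hn
  have hl := lettersOK_91
  simp only [lettersOK, Bool.and_eq_true, allBelow_spec, Nat.blt_eq, List.all_eq_true] at hl
  obtain ⟨hcg, -, hLB⟩ := hl
  obtain ⟨hinv, -⟩ := Glued.rels_91 K g hA hB
  obtain ⟨htv0, htv, htve, HE⟩ := eOK_spec hB.eok
  -- the normaliser as a subgroup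
  let NB : Subgroup G :=
    { carrier := {x | InN K sideB91 x}
      one_mem' := fun v hv => ⟨v, hv, by group⟩
      mul_mem' := fun ha hb => hB.inN_mul ha hb
      inv_mem' := fun ha => hB.inN_inv ha }
  have hletN : ∀ x < 5, x ≠ 2 → letters K glue91 m x ∈ NB := by
    intro x hx hx2
    show InN K sideB91 _
    by_cases h4 : x = 4
    · subst h4
      rw [letters, if_neg (by norm_num)]
      exact hB.acts_inN (Reads.acts hB g.compB g.readB)
    · rw [letters, if_pos (by omega)]
      obtain ⟨e, he, hex⟩ : ∃ e ∈ glue91.letB, e.getD 0 0 = x := by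
        have hh : ∀ x < 4, x ≠ 2 → ∃ e ∈ glue91.letB, e.getD 0 0 = x := by decide
        exact hh x (by omega) hx2
      obtain ⟨hw, -⟩ := hLB e he
      rw [hex] at hw
      exact hB.acts_inN (Reads.acts hB g.compB (Reads.code hB g.compB hw))
  have hle : nSub K m ≤ NB := (closure_le _).2 fun a ha => by
    obtain ⟨x, hx, hx2, rfl⟩ := ha
    exact hletN x hx hx2
  have word : ∀ {w : List ℕ} {a : ℕ × ℕ}, (∀ x ∈ w, x < 5 ∧ Nat.beq x 2 = false) →
      evalW sideB91 glue91.letB (glue91.f0, glue91.bm) w = some a →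
      ∃ k ∈ nSub K m, Reads K sideB91 pB k a := by
    intro w a hw he
    refine ⟨_, list_prod_mem ?_, g.eval_reads hB g.compB hLB g.readB w a he⟩
    rintro _ hl
    obtain ⟨x, hx, rfl⟩ := List.mem_map.1 hl
    exact subset_closure ⟨x, (hw x hx).1, fun e => by have := (hw x hx).2; rw [e] at this; simp at this, rfl⟩
  have wordP : ∀ {P : ℕ × ℕ} {w : List ℕ}, nWordOK P w = true → ∃ k ∈ nSub K m, Reads K sideB91 pB k P := by
    intro P w h
    simp only [nWordOK, Bool.and_eq_true, List.all_eq_true, Nat.blt_eq, Bool.not_eq_true'] at h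
    obtain ⟨hw, h⟩ := h
    split at h
    · rename_i a ha
      rw [← pEq_iff.1 h]
      exact word hw ha
    · simp at h
  -- the subgroup and the complement
  have hunit : ∀ b < 6, eEl K sideB91 (2 ^ b) ∈ nSub K m := by
    intro b hb
    obtain ⟨k, hk, hr⟩ := wordP (hbas b hb)
    obtain ⟨-, -, l, hl, rfl⟩ := hr
    have : l = 1 := hB.lift_unique g.compB.acts g.compB.cube hl
      ⟨fun v hv => by rw [apM_idM hv]; group, Or.inl (by group)⟩
    rwa [this, mul_one] at hk
  have hvec : ∀ n ≤ 6, ∀ v < 2 ^ n, eEl K sideB91 v ∈ nSub K m := by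
    intro n hn
    induction n with
    | zero =>
      intro v hv
      obtain rfl : v = 0 := by simpa using hv
      rw [hB.e_zero]; exact one_mem _
    | succ n ih =>
      intro v hv
      by_cases hvn : v < 2 ^ n
      · exact ih (by omega) v hvn
      · have hp : 2 ^ (n + 1) ≤ 64 := le_trans (Nat.pow_le_pow_right two_pos hn) (by norm_num)
        rw [pow_succ] at hp hv
        rw [show v = Nat.xor (v - 2 ^ n) (2 ^ n) by rw [xor_pow_add n (by omega) _ (by omega)]; omega,
          ← hB.e_mul (by omega) (by omega)]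
        exact mul_mem (ih (by omega) _ (by omega)) (hunit n (by omega))
  have hkel : ∀ j < 48, K.el (kAt sideB91 j) ∈ nSub K m := by
    intro j hj
    obtain ⟨k, hk, hr⟩ := wordP (hcomp j hj)
    obtain ⟨-, -, l, hl, rfl⟩ := hr
    rw [show eEl K sideB91 (0, kMat sideB91 j).1 = 1 from hB.e_zero, one_mul,
      hB.lift_unique g.compB.acts g.compB.cube hl (g.compB.stab j hj)] at hk
    exact hk
  -- representatives for the images of `t`
  have hrep : ∀ i : Fin 45, ∃ k ∈ nSub K m, k * t * k⁻¹ = eEl K sideB91 (nOrbit91.getD i (0, [])).1 := by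
    intro i
    have hi : (i : ℕ) < nOrbit91.length := by have := i.2; omega
    have hmem : nOrbit91.getD i (0, []) ∈ nOrbit91 := by
      rw [List.getD_eq_getElem?_getD, List.getElem?_eq_getElem hi, Option.getD_some]
      exact List.getElem_mem hi
    have h := horb _ hmem
    simp only [nOrbitOK, Bool.and_eq_true, List.all_eq_true, Nat.blt_eq, Bool.not_eq_true'] at h
    obtain ⟨hw, h⟩ := h
    split at h
    · rename_i a ha
      rw [Nat.beq_eq] at h
      obtain ⟨k, hk, hr⟩ := word hw ha
      refine ⟨k, hk, ?_⟩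
      have := Reads.acts hB g.compB hr _ htv
      rw [hB.e_t] at this
      rw [this, h]
    · simp at h
  choose rk hrk hrt using hrep
  let Φ : Fin 45 × Fin 64 × Fin 48 → nSub K m := fun x =>
    ⟨rk x.1 * (eEl K sideB91 x.2.1 * K.el (kAt sideB91 x.2.2)),
      mul_mem (hrk _) (mul_mem (hvec 6 le_rfl _ (by have := x.2.1.2; norm_num)) (hkel _ x.2.2.2))⟩
  have hcomm : ∀ (v : ℕ) (j : ℕ), v < 64 → j < 48 →
      Commute (eEl K sideB91 v * K.el (kAt sideB91 j)) t := by
    intro v j hv hj
    refine Commute.mul_left ?_ (K.mem _ ((normSpec hB.nok).klt j hj))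
    show eEl K sideB91 v * t = t * eEl K sideB91 v
    exact K.mem _ (HE v hv).1
  have hbij : Function.Bijective Φ := by
    constructor
    · rintro ⟨i, v, j⟩ ⟨i', v', j'⟩ e
      have e0 : rk i * (eEl K sideB91 v * K.el (kAt sideB91 j)) = rk i' * (eEl K sideB91 v' * K.el (kAt sideB91 j')) :=
        congrArg Subtype.val e
      have hlt' : ∀ i : Fin 45, (nOrbit91.getD i (0, [])).1 < 64 := fun i => by
        have hi : (i : ℕ) < nOrbit91.length := by have := i.2; omega
        refine hlt _ ?_
        rw [List.getD_eq_getElem?_getD, List.getElem?_eq_getElem hi, Option.getD_some]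
        exact List.getElem_mem hi
      have conj1 : ∀ (i : Fin 45) (x : G), Commute x t → rk i * x * t * (rk i * x)⁻¹ =
          eEl K sideB91 (nOrbit91.getD i (0, [])).1 := fun i x hx => by
        rw [← hrt i, mul_assoc (rk i) x t, hx.eq]; group
      have e1 : eEl K sideB91 (nOrbit91.getD i (0, [])).1 = eEl K sideB91 (nOrbit91.getD i' (0, [])).1 :=
        (conj1 i _ (hcomm _ _ v.2 j.2)).symm.trans (e0 ▸ conj1 i' _ (hcomm _ _ v'.2 j'.2))
      have e2 := hB.e_inj (hlt' i) (hlt' i') e1
      obtain rfl : i = i' := by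
        by_contra hne
        rcases lt_or_gt_of_ne (Fin.val_injective.ne hne) with h | h
        · have := hdist _ i'.2 _ h; rw [e2] at this; simp at this
        · have := hdist _ i.2 _ h; rw [e2] at this; simp at this
      have e3 := mul_left_cancel e0
      have hjj : (j : ℕ) = j' := hB.eq_of_kMat j.2 j'.2 fun u hu => by
        refine hB.e_inj (apM_lt _ _) (apM_lt _ _) ?_
        have a1 := (hB.acts_mul (hB.acts_e (w := v) v.2) (hB.acts_kEl j.2)) u hu
        have a2 := (hB.acts_mul (hB.acts_e (w := v') v'.2) (hB.acts_kEl j'.2)) u hu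
        rw [e3] at a1
        have := a1.symm.trans a2
        rwa [apM_mmM _ _ hu, apM_mmM _ _ hu, apM_idM (apM_lt _ _), apM_idM (apM_lt _ _)] at this
      obtain rfl : j = j' := Fin.ext hjj
      obtain rfl : v = v' := Fin.ext (hB.e_inj v.2 v'.2 (mul_right_cancel e3))
      rfl
    · rintro ⟨x, hx⟩
      have hxN : InN K sideB91 x := hle hx
      obtain ⟨A, hA', hAp⟩ := hB.exists_acts hxN
      have hcol : colT sideB91 (apM A (tVec sideB91.e)) = true := by
        rw [(hAp _ htv).1]; exact (matsSpec hB.eok hB.mok).colt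
      obtain ⟨e, he, hev⟩ := (hcov _ (apM_lt _ _)).resolve_left (by rw [hcol]; simp)
      obtain ⟨i, hi, hie⟩ := List.getElem_of_mem he
      have hi45 : i < 45 := hlen ▸ hi
      have hie' : (nOrbit91.getD i (0, [])).1 = apM A (tVec sideB91.e) := by
        rw [List.getD_eq_getElem?_getD, List.getElem?_eq_getElem hi, Option.getD_some, hie, hev]
      have hxt : x * t * x⁻¹ = eEl K sideB91 (apM A (tVec sideB91.e)) := by
        have := hA' _ htv
        rwa [hB.e_t] at this
      have hc : ((rk ⟨i, hi45⟩)⁻¹ * x) * t = t * ((rk ⟨i, hi45⟩)⁻¹ * x) := by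
        rw [← mul_inv_eq_iff_eq_mul, show (rk ⟨i, hi45⟩)⁻¹ * x * t * ((rk ⟨i, hi45⟩)⁻¹ * x)⁻¹ =
          (rk ⟨i, hi45⟩)⁻¹ * (x * t * x⁻¹) * rk ⟨i, hi45⟩ by group, hxt, ← hie']
        have h := hrt ⟨i, hi45⟩
        rw [show ((⟨i, hi45⟩ : Fin 45) : ℕ) = i from rfl] at h
        rw [← h]; group
      obtain ⟨v, hv, j, hj, hvj⟩ := hB.mem_norm hc (hB.inN_mul (hB.inN_inv (hle (hrk _))) hxN)
      refine ⟨(⟨i, hi45⟩, ⟨v, hv⟩, ⟨j, hj⟩), Subtype.ext ?_⟩
      show rk ⟨i, hi45⟩ * (eEl K sideB91 v * K.el (kAt sideB91 j)) = x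
      rw [← hvj]; group
  refine ⟨?_, ?_⟩
  · rw [← Nat.card_congr (Equiv.ofBijective Φ hbij)]
    simp
  · intro h2
    have hc2 : glue91.cg.getD 2 0 < 21504 := hcg 2 (by norm_num)
    have h2' := hle h2
    rw [Bool.eq_false_iff] at hout
    refine hout (allBelow_spec.2 fun b hb => ?_)
    rw [Nat.blt_eq]
    have hb64 : 2 ^ b < 64 := (Nat.pow_lt_pow_right one_lt_two hb).trans_eq (by norm_num)
    obtain ⟨u, hu, hue⟩ := h2' (2 ^ b) hb64
    have hi : (letters K glue91 m 2)⁻¹ = letters K glue91 m 2 := inv_eq_of_mul_eq_one_right (hinv 2 (by norm_num))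
    rw [hi, letters, if_pos (by norm_num), eEl, eEl, K.el_mul _ hc2 _ (HE _ hb64).1,
      K.el_mul _ (mulC_lt hc2 _) _ hc2] at hue
    rw [K.el_inj _ (mulC_lt (mulC_lt hc2 _) _) _ (HE u hu).1 hue, (HE u hu).2.1]
    exact hu

end CfsgLib.Recog.Held
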