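import Cfsg.Agent.Lib.Recog.Held.LocalDefs
import Cfsg.Agent.Lib.Recog.Held.Colour

set_option autoImplicit false
set_option linter.unusedSectionVars false

/-!
The normaliser of an elementary subgroup of order 64: actions, liftings and the element of order three without
fixed points (owner: helper25).
-/

namespace CfsgLib.Recog.Held

theorem spOf_spec {e x : ℕ} (h : spOf e x < 64) : eAt e (spOf e x) = x := by
  have key : ∀ n, spIn e x n = 64 ∨ eAt e (spIn e x n) = x := by
    intro n
    induction n with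
    | zero => exact Or.inl rfl
    | succ n ih =>
      show cond (Nat.beq (eAt e n) x) n (spIn e x n) = 64 ∨
        eAt e (cond (Nat.beq (eAt e n) x) n (spIn e x n)) = x
      cases hb : Nat.beq (eAt e n) x
      · simpa using ih
      · right; simpa using Nat.eq_of_beq_eq_true hb
  rcases key 64 with h' | h'
  · exact absurd h' (ne_of_lt h)
  · exact h'

theorem eOK_spec {e : ℕ} (h : eOK e = true) :
    eAt e 0 = 0 ∧ tVec e < 64 ∧ eAt e (tVec e) = 64 ∧ ∀ v < 64, eAt e v < 21504 ∧ spOf e (eAt e v) = v ∧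
      ∀ w < 64, mulC 0 (eAt e v) (eAt e w) = eAt e (Nat.xor v w) := by
  simp only [eOK, Bool.and_eq_true, Nat.beq_eq, Nat.blt_eq, allBelow_spec] at h
  exact ⟨h.1, h.2.1, spOf_spec h.2.1, h.2.2⟩

theorem xor_lt64 {a b : ℕ} (ha : a < 64) (hb : b < 64) : Nat.xor a b < 64 :=
  Nat.xor_lt_two_pow (n := 6) ha hb

theorem xor_cancel {a b : ℕ} (h : Nat.xor a b = 0) : a = b := Nat.xor_eq_zero_iff.1 h

theorem mat_ext {A B : ℕ} (hA : A < 2 ^ 36) (hB : B < 2 ^ 36) (h : ∀ v < 64, apM A v = apM B v) : A = B := by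
  have e : ∀ j < 6, field 6 A j = field 6 B j := fun j hj => by
    rw [← apM_unit A hj, ← apM_unit B hj]
    exact h _ ((Nat.pow_lt_pow_right one_lt_two hj).trans_eq (by norm_num))
  have h0 := e 0 (by norm_num); have h1 := e 1 (by norm_num); have h2 := e 2 (by norm_num)
  have h3 := e 3 (by norm_num); have h4 := e 4 (by norm_num); have h5 := e 5 (by norm_num)
  simp only [field_eq] at h0 h1 h2 h3 h4 h5
  norm_num at h0 h1 h2 h3 h4 h5 hA hB ⊢
  omega

/-- Colour preserving and without kernel. -/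
def Pres (s : SideData) (A : ℕ) : Prop := ∀ v < 64, colT s (apM A v) = colT s v ∧ (apM A v = 0 → v = 0)

theorem Pres.inj {s : SideData} {A : ℕ} (h : Pres s A) {v w : ℕ} (hv : v < 64) (hw : w < 64)
    (e : apM A v = apM A w) : v = w := by
  refine xor_cancel ((h _ (xor_lt64 hv hw)).2 ?_)
  rw [apM_xor, e]
  exact Nat.xor_self _

theorem Pres.mul {s : SideData} {A B : ℕ} (hA : Pres s A) (hB : Pres s B) : Pres s (mmM A B) := fun v hv => by
  rw [apM_mmM A B hv]
  exact ⟨(hA _ (apM_lt _ _)).1.trans (hB v hv).1, fun h => (hB v hv).2 ((hA _ (apM_lt _ _)).2 h)⟩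

theorem lookup_map {f : ℕ → ℕ} : ∀ {L : List ℕ} {v : ℕ}, v ∈ L → lookup L (L.map f) v = f v
  | d :: L, v, h => by
    show cond (Nat.beq d v) (f d) (lookup L (L.map f) v) = f v
    cases hb : Nat.beq d v
    · rcases List.mem_cons.1 h with rfl | h
      · simp at hb
      · exact lookup_map h
    · rw [Nat.eq_of_beq_eq_true hb]; rfl

/-- The properties read off the checks on the matrices. -/
structure MatsSpec (s : SideData) : Prop where
  colt : colT s (tVec s.e) = true
  cube : ∀ v < 64, apM s.P (apM s.P (apM s.P v)) = v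
  fpf : ∀ v < 64, apM s.P v = v → v = 0
  presP : Pres s s.P
  fixed : ∀ A, Pres s A → apM A (tVec s.e) = tVec s.e → ∃ j < 48, ∀ v < 64, apM (kMat s j) v = apM A v
  norm : ∀ A, Pres s A → (∀ v < 64, apM A (apM s.P v) = apM s.P (apM A v)) ∨
    ∀ v < 64, apM A (apM s.P v) = apM s.P (apM s.P (apM A v))

theorem matsSpec {s : SideData} (he : eOK s.e = true) (hm : matsOK s = true) : MatsSpec s := by
  simp only [matsOK, Bool.and_eq_true, allBelow_spec, Bool.not_eq_true', Nat.beq_eq, Bool.or_eq_true,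
    List.all_eq_true] at hm
  obtain ⟨hB, hspan, hcolt, hcube, hfpf, hpres, hbits, hcols, hb0, hkP, htr, hall⟩ := hm
  have hbit : ∀ v < 64, bitOn s.bits v = colT s v := fun v hv => by
    have h := hbits v hv
    revert h
    cases bitOn s.bits v <;> cases colT s v <;> simp
  have hb0' : field 6 s.basis 0 = tVec s.e := hb0
  have hcube' : ∀ v < 64, apM s.P (apM s.P (apM s.P v)) = v := fun v hv => by
    rw [← apM_mmM s.P s.P hv, ← apM_mmM s.P _ hv, show mmM s.P (mmM s.P s.P) = idM from hcube, apM_idM hv]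
  obtain ⟨Bm, hBm⟩ : ∃ Bm, Bm = packM fun k => field 6 s.basis k := ⟨_, rfl⟩
  have hsurj : ∀ v < 64, ∃ c < 64, apM Bm c = v := by
    intro v hv
    by_contra hc
    have h := hspan v hv
    rw [Bool.eq_false_iff] at h
    refine h (allBelow_spec.2 fun c hc' => ?_)
    rw [Bool.not_eq_true', Bool.eq_false_iff]
    exact fun e => hc ⟨c, hc', (Nat.eq_of_beq_eq_true (hBm ▸ e)).symm⟩
  have hinj : ∀ a < 64, ∀ b < 64, apM Bm a = apM Bm b → a = b := by
    intro a ha b hb e
    classical
    exact Finset.injOn_of_card_image_eq (s := Finset.range 64) (f := apM Bm) (by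
      have : (Finset.range 64).image (apM Bm) = Finset.range 64 := by
        refine Finset.ext fun x => ⟨fun hx => ?_, fun hx => ?_⟩
        · obtain ⟨c, -, rfl⟩ := Finset.mem_image.1 hx
          exact Finset.mem_range.2 (apM_lt _ _)
        · obtain ⟨c, hc, rfl⟩ := hsurj x (Finset.mem_range.1 hx)
          exact Finset.mem_image.2 ⟨c, Finset.mem_range.2 hc, rfl⟩
      rw [this]) (Finset.mem_coe.2 (Finset.mem_range.2 ha)) (Finset.mem_coe.2 (Finset.mem_range.2 hb)) e
  have hmem : ∀ A, Pres s A → apM A (tVec s.e) = tVec s.e → ∃ B ∈ allMats s, ∀ v < 64, apM B v = apM A v := by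
    intro A hA hAt
    have key : ∀ m k, k + m = 6 → ∃ B ∈ srchM s (((List.range 6).map fun i => field 6 s.basis i).drop k)
        ((List.range (2 ^ k)).map (apM Bm)) (((List.range (2 ^ k)).map (apM Bm)).map (apM A)),
        ∀ v < 64, apM B v = apM A v := by
      intro m
      induction m with
      | zero =>
        intro k hk
        obtain rfl : k = 6 := by omega
        refine ⟨_, by rw [List.drop_of_length_le (by simp)]; exact List.mem_singleton_self _, ?_⟩
        refine additive_ext (fun a _ b _ => apM_xor _ a b) (fun a _ b _ => apM_xor _ a b) fun j hj => ?_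
        obtain ⟨c, hc, hce⟩ := hsurj (2 ^ j) ((Nat.pow_lt_pow_right one_lt_two hj).trans_eq (by norm_num))
        have hv : 2 ^ j ∈ (List.range (2 ^ 6)).map (apM Bm) :=
          List.mem_map.2 ⟨c, List.mem_range.2 (by simpa using hc), hce⟩
        rw [apM_unit _ hj, field_packM (fun i hi => ?_) hj, lookup_map hv]
        obtain ⟨c', hc', hce'⟩ := hsurj (2 ^ i) ((Nat.pow_lt_pow_right one_lt_two hi).trans_eq (by norm_num))
        rw [lookup_map (List.mem_map.2 ⟨c', List.mem_range.2 (by simpa using hc'), hce'⟩)]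
        exact apM_lt _ _
      | succ m ih =>
        intro k hk
        have hk6 : k < 6 := by omega
        have hb := hB k hk6
        rw [Nat.blt_eq] at hb
        have hbk : field 6 s.basis k = apM Bm (2 ^ k) := by
          rw [apM_unit _ hk6, hBm, field_packM (fun i _ => field_lt 6 _ i) hk6]
        obtain ⟨B, hBmem, hBv⟩ := ih (k + 1) (by omega)
        refine ⟨B, ?_, hBv⟩
        rw [List.drop_eq_getElem_cons (by simpa using hk6), List.getElem_map, List.getElem_range, srchM,
          List.mem_flatMap]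
        obtain ⟨x, hx, hxe⟩ := List.any_eq_true.1 ((hcols _ (apM_lt A (field 6 s.basis k))).resolve_left
          (by rw [(hA _ hb.2).1, hb.1]; simp))
        rw [← Nat.eq_of_beq_eq_true hxe] at hx
        refine ⟨apM A (field 6 s.basis k), List.mem_filter.2 ⟨hx, ?_⟩, ?_⟩
        · have step : ∀ L : List ℕ, (∀ c ∈ L, c < 2 ^ k) →
              okExt s (field 6 s.basis k) (apM A (field 6 s.basis k)) (L.map (apM Bm)) ((L.map (apM Bm)).map (apM A))
                = true := by
            intro L hL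
            induction L with
            | nil => rfl
            | cons c L ihL =>
              have hc : c < 2 ^ k := hL c List.mem_cons_self
              have hp : 2 ^ (k + 1) ≤ 64 := le_trans (Nat.pow_le_pow_right two_pos hk6) (by norm_num)
              have hc64 : c < 64 := by rw [pow_succ] at hp; omega
              have hne : Nat.xor (apM Bm c) (field 6 s.basis k) ≠ 0 := fun e => by
                have e' := hinj _ hc64 _ (by rw [pow_succ] at hp; omega) ((xor_cancel e).trans hbk)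
                omega
              have hcol := hA _ (xor_lt64 (apM_lt Bm c) hb.2)
              rw [apM_xor] at hcol
              rw [List.map_cons, List.map_cons, okExt, ihL fun x hx => hL x (List.mem_cons_of_mem _ hx)]
              simp only [Bool.and_true, Bool.and_eq_true, Bool.not_eq_true']
              refine ⟨Bool.eq_false_iff.2 fun e => hne (hcol.2 (Nat.eq_of_beq_eq_true e)), ?_⟩
              rw [hbit _ (xor_lt64 (apM_lt Bm c) hb.2), hbit _ (xor_lt64 (apM_lt A _) (apM_lt A _)), hcol.1]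
              cases colT s (Nat.xor (apM Bm c) (field 6 s.basis k)) <;> rfl
          exact step _ fun c hc => List.mem_range.1 hc
        · have hdom : (List.range (2 ^ (k + 1))).map (apM Bm) =
              (List.range (2 ^ k)).map (apM Bm) ++
                ((List.range (2 ^ k)).map (apM Bm)).map (fun d => Nat.xor d (field 6 s.basis k)) := by
            rw [pow_succ, Nat.mul_two, List.range_add, List.map_append, List.map_map, List.map_map]
            congr 1
            refine List.map_congr_left fun c hc => ?_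
            have hc' := List.mem_range.1 hc
            show apM Bm (2 ^ k + c) = Nat.xor (apM Bm c) (field 6 s.basis k)
            rw [hbk, ← apM_xor]
            congr 1
            interval_cases k <;> (simp only [Nat.reducePow] at hc'; interval_cases c <;> rfl)
          have himg : (((List.range (2 ^ k)).map (apM Bm)).map fun d => Nat.xor d (field 6 s.basis k)).map (apM A)
              = (((List.range (2 ^ k)).map (apM Bm)).map (apM A)).map
                fun i => Nat.xor i (apM A (field 6 s.basis k)) := by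
            rw [List.map_map, List.map_map (f := apM A)]
            exact List.map_congr_left fun d _ => apM_xor A d _
          rw [hdom, List.map_append, himg] at hBmem
          exact hBmem
    have hdom : (List.range (2 ^ 1)).map (apM Bm) = [0, tVec s.e] := by
      rw [show List.range (2 ^ 1) = [0, 2 ^ 0] from rfl, List.map_cons, List.map_cons, List.map_nil, apM_zero,
        apM_unit _ (by norm_num), hBm, field_packM (fun i _ => field_lt 6 _ i) (by norm_num), hb0']
    have h := key 5 1 rfl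
    rw [hdom] at h
    simpa [allMats, apM_zero, hAt] using h
  have hfix : ∀ A, Pres s A → apM A (tVec s.e) = tVec s.e →
      ∃ j < 48, ∀ v < 64, apM (kMat s j) v = apM A v := by
    intro A hA hAt
    obtain ⟨B, hB', hBv⟩ := hmem A hA hAt
    have h := hall B hB'
    rw [force_eq, inStab, Bool.not_eq_true', Bool.eq_false_iff] at h
    by_contra hc
    exact h (allBelow_spec.2 fun j hj => by
      rw [Bool.not_eq_true', Bool.eq_false_iff]
      exact fun e => hc ⟨j, hj, fun v hv => by rw [Nat.eq_of_beq_eq_true e, hBv v hv]⟩)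
  have hnorms : ∀ A, normsP s A = true → (∀ v < 64, apM A (apM s.P v) = apM s.P (apM A v)) ∨
      ∀ v < 64, apM A (apM s.P v) = apM s.P (apM s.P (apM A v)) := by
    intro A h
    simp only [normsP, Bool.or_eq_true, Nat.beq_eq] at h
    rcases h with h | h
    · left; intro v hv
      rw [← apM_mmM A s.P hv, h, apM_mmM _ _ hv]
    · right; intro v hv
      rw [← apM_mmM A s.P hv, h, apM_mmM _ _ hv, P2, apM_mmM _ _ (apM_lt _ _)]
  refine ⟨hcolt, hcube', fun v hv e => ?_, fun v hv => ⟨?_, fun e => ?_⟩, hfix, fun A hA => ?_⟩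
  · refine (hfpf v hv).resolve_right fun hb => ?_
    rw [e] at hb
    simp at hb
  · rcases hpres v hv with h | h <;> rw [h.1, h.2]
  · rw [← hcube' v hv, e, apM_zero, apM_zero]
  · obtain ⟨-, htv, -, -⟩ := eOK_spec he
    obtain ⟨u, hu, hut⟩ := exists_preimage (f := apM A) (fun v _ => apM_lt A v)
      (fun a ha b hb e => hA.inj ha hb e) htv
    have hcu : bitOn s.bits u = true := by rw [hbit u hu, ← (hA u hu).1, hut]; exact hcolt
    have h := htr u hu
    simp only [transOK, hcu, Bool.not_true, Bool.false_or, List.any_eq_true, Bool.and_eq_true, Nat.beq_eq,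
      allBelow_spec, Bool.not_eq_true', Bool.or_eq_true] at h
    obtain ⟨W, -, hWt, hWn, hWv⟩ := h
    have hW : Pres s W := fun v hv => by
      obtain ⟨h1, h2⟩ := hWv v hv
      refine ⟨?_, fun e => h2.resolve_right fun h3 => by rw [e] at h3; simp at h3⟩
      rw [← hbit _ (apM_lt _ _), ← hbit _ hv]
      revert h1
      cases bitOn s.bits v <;> cases bitOn s.bits (apM W v) <;> simp
    obtain ⟨j, hj, hje⟩ := hfix _ (hA.mul hW) (by rw [apM_mmM _ _ htv, hWt, hut])
    have hAW : ∀ x < 64, apM A (apM W x) = apM (kMat s j) x := fun x hx => by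
      rw [← apM_mmM A W hx, hje x hx]
    have hsurjW : ∀ v < 64, ∃ x < 64, apM W x = v := fun v hv =>
      exists_preimage (fun x _ => apM_lt W x) (fun a ha b hb e => hW.inj ha hb e) hv
    have hP := fun x : ℕ => apM_lt s.P x
    rcases hnorms _ (hkP j hj) with hk | hk <;> rcases hnorms _ hWn with hw | hw
    · left; intro v hv
      obtain ⟨x, hx, rfl⟩ := hsurjW v hv
      rw [← hw x hx, hAW _ (hP x), hAW x hx, hk x hx]
    · right; intro v hv
      obtain ⟨x, hx, rfl⟩ := hsurjW v hv
      rw [show apM s.P (apM W x) = apM W (apM s.P (apM s.P x)) by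
          rw [hw _ (hP x), hw x hx, hcube' _ (hP _)],
        hAW _ (hP _), hAW x hx, hk _ (hP x), hk x hx]
    · right; intro v hv
      obtain ⟨x, hx, rfl⟩ := hsurjW v hv
      rw [← hw x hx, hAW _ (hP x), hAW x hx, hk x hx]
    · left; intro v hv
      obtain ⟨x, hx, rfl⟩ := hsurjW v hv
      rw [show apM s.P (apM W x) = apM W (apM s.P (apM s.P x)) by
          rw [hw _ (hP x), hw x hx, hcube' _ (hP _)],
        hAW _ (hP _), hAW x hx, hk _ (hP x), hk x hx, hcube' _ (hP _)]

/-- The properties read off the checks on the normaliser inside `C(t)`. -/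
structure NormSpec (s : SideData) : Prop where
  k0 : kAt s 0 = 0
  tr0 : trAt s 0 = 0
  m0 : kMat s 0 = idM
  g0 : kGen s 0 < 48
  g1 : kGen s 1 < 48
  klt : ∀ j < 48, kAt s j < 21504
  kdist : ∀ j < 48, ∀ i < j, kMat s i ≠ kMat s j
  kt : ∀ j < 48, apM (kMat s j) (tVec s.e) = tVec s.e
  kact : ∀ j < 48, ∀ v < 64, mulC 0 (kAt s j) (eAt s.e v) = mulC 0 (eAt s.e (apM (kMat s j) v)) (kAt s j)
  ksuc : ∀ j < 48, ∀ g < 2, kSuc s j g < 48 ∧ mulC 0 (kAt s j) (kAt s (kGen s g)) = kAt s (kSuc s j g) ∧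
    mmM (kMat s j) (kMat s (kGen s g)) = kMat s (kSuc s j g)
  tr : ∀ r < 7, trAt s r < 21504 ∧ trInv s r < 21504 ∧ mulC 0 (trInv s r) (trAt s r) = 0 ∧
    mulC 0 (trAt s r) (trInv s r) = 0 ∧
    ∀ i < r, ∃ b < 6, 64 ≤ spOf s.e (trConj s i r b)

theorem normSpec {s : SideData} (h : normOK s = true) : NormSpec s := by
  simp only [normOK, Bool.and_eq_true, Nat.beq_eq, Nat.blt_eq, allBelow_spec, Bool.not_eq_true'] at h
  obtain ⟨a, a', b, c, d, hk, htr⟩ := h
  refine ⟨a, a', b, c, d, fun j hj => (hk j hj).1,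
    fun j hj i hi e => by have := (hk j hj).2.1 i hi; rw [e] at this; simp at this,
    fun j hj => (hk j hj).2.2.1, fun j hj => (hk j hj).2.2.2.1, fun j hj g hg => (hk j hj).2.2.2.2 g hg, ?_⟩
  intro r hr
  have h := htr r hr
  simp only [trOK, Bool.and_eq_true, Nat.beq_eq, Nat.blt_eq, allBelow_spec, Bool.not_eq_true'] at h
  refine ⟨h.1, h.2.1, h.2.2.1, h.2.2.2.1, fun i hi => ?_⟩
  by_contra hc
  push Not at hc
  have h' := h.2.2.2.2 i hi
  rw [Bool.eq_false_iff] at h'
  exact h' (allBelow_spec.2 fun b hb => by rw [Nat.blt_eq]; exact hc b hb)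

/-- The hypotheses on one side. -/
structure SideHyp {G : Type*} [Group G] {t : G} (K : Coord t 0) (s : SideData) : Prop where
  eok : eOK s.e = true
  nok : normOK s = true
  mok : matsOK s = true
  colour : K.mask = s.mask
  trans : ∀ v < 64, colT s v = true → ∃ n : G,
    (∀ w < 64, ∃ u < 64, n * K.el (eAt s.e w) * n⁻¹ = K.el (eAt s.e u)) ∧ n * K.el (eAt s.e v) * n⁻¹ = t

namespace SideHyp

variable {G : Type*} [Group G] [Finite G] {t : G} {K : Coord t 0} {s : SideData} (h : SideHyp K s)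

/-- The element of a vector. -/
noncomputable abbrev eEl (K : Coord t 0) (s : SideData) (v : ℕ) : G := K.el (eAt s.e v)

/-- Conjugation acts by a matrix. -/
def Acts (K : Coord t 0) (s : SideData) (n : G) (A : ℕ) : Prop :=
  ∀ v < 64, n * eEl K s v * n⁻¹ = eEl K s (apM A v)

/-- The element normalises the subgroup. -/
def InN (K : Coord t 0) (s : SideData) (n : G) : Prop :=
  ∀ v < 64, ∃ w < 64, n * eEl K s v * n⁻¹ = eEl K s w

include h

theorem e_inj {v w : ℕ} (hv : v < 64) (hw : w < 64) (e : eEl K s v = eEl K s w) : v = w := by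
  obtain ⟨-, -, -, H⟩ := eOK_spec h.eok
  rw [← (H v hv).2.1, ← (H w hw).2.1, K.el_inj _ (H v hv).1 _ (H w hw).1 e]

theorem e_mul {v w : ℕ} (hv : v < 64) (hw : w < 64) :
    eEl K s v * eEl K s w = eEl K s (Nat.xor v w) := by
  obtain ⟨-, -, -, H⟩ := eOK_spec h.eok
  rw [eEl, eEl, K.el_mul _ (H v hv).1 _ (H w hw).1, (H v hv).2.2 w hw]

theorem e_zero : eEl K s 0 = 1 := by rw [eEl, (eOK_spec h.eok).1, K.el_zero (by norm_num)]

theorem e_inv {v : ℕ} (hv : v < 64) : (eEl K s v)⁻¹ = eEl K s v := by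
  refine inv_eq_of_mul_eq_one_right ?_
  rw [h.e_mul hv hv, show Nat.xor v v = 0 from Nat.xor_self v, h.e_zero]

theorem e_comm {v w : ℕ} (hv : v < 64) (hw : w < 64) : Commute (eEl K s v) (eEl K s w) := by
  show _ * _ = _ * _
  rw [h.e_mul hv hw, h.e_mul hw hv]
  exact congrArg _ (Nat.xor_comm v w)

theorem e_t : eEl K s (tVec s.e) = t := by rw [eEl, (eOK_spec h.eok).2.2.1, K.el_t]

theorem col_iff {v : ℕ} (hv : v < 64) : colT s v = true ↔ IsConj (eEl K s v) t := by
  rw [eEl, K.mask_spec (by norm_num) ((eOK_spec h.eok).2.2.2 v hv).1, h.colour, colT, Bool.and_eq_true,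
    Nat.blt_eq, Nat.pos_iff_ne_zero]

theorem acts_inN {n : G} {A : ℕ} (ha : Acts K s n A) : InN K s n := fun v hv => ⟨_, apM_lt A v, ha v hv⟩

theorem acts_mul {n m : G} {A B : ℕ} (ha : Acts K s n A) (hb : Acts K s m B) : Acts K s (n * m) (mmM A B) :=
  fun v hv => by
    rw [show n * m * eEl K s v * (n * m)⁻¹ = n * (m * eEl K s v * m⁻¹) * n⁻¹ by group, hb v hv,
      ha _ (apM_lt _ _), apM_mmM A B hv]

theorem acts_e {w : ℕ} (hw : w < 64) : Acts K s (eEl K s w) idM := fun v hv => by
  rw [apM_idM hv, (h.e_comm hw hv).eq, mul_inv_cancel_right]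

theorem inN_mul {n m : G} (ha : InN K s n) (hb : InN K s m) : InN K s (n * m) := fun v hv => by
  obtain ⟨w, hw, e⟩ := hb v hv
  obtain ⟨u, hu, e'⟩ := ha w hw
  exact ⟨u, hu, by rw [show n * m * eEl K s v * (n * m)⁻¹ = n * (m * eEl K s v * m⁻¹) * n⁻¹ by group, e, e']⟩

theorem exists_acts {n : G} (hn : InN K s n) : ∃ A, Acts K s n A ∧ Pres s A := by
  choose f hf hfe using hn
  classical
  let g : ℕ → ℕ := fun v => if hv : v < 64 then f v hv else 0
  have hg : ∀ v < 64, g v < 64 ∧ n * eEl K s v * n⁻¹ = eEl K s (g v) := fun v hv => by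
    simp only [g, dif_pos hv]; exact ⟨hf v hv, hfe v hv⟩
  have hadd : ∀ v < 64, ∀ w < 64, g (Nat.xor v w) = Nat.xor (g v) (g w) := fun v hv w hw => by
    refine h.e_inj (hg _ (xor_lt64 hv hw)).1 (xor_lt64 (hg v hv).1 (hg w hw).1) ?_
    rw [← (hg _ (xor_lt64 hv hw)).2, ← h.e_mul hv hw, ← h.e_mul (hg v hv).1 (hg w hw).1, ← (hg v hv).2,
      ← (hg w hw).2]
    group
  have hA : ∀ v < 64, apM (packM fun j => g (2 ^ j)) v = g v :=
    additive_ext (fun a _ b _ => apM_xor _ a b) hadd fun j hj => by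
      rw [apM_unit _ hj]
      exact field_packM (fun i hi => (hg _ ((Nat.pow_lt_pow_right one_lt_two hi).trans_eq (by norm_num))).1) hj
  refine ⟨_, fun v hv => by rw [hA v hv]; exact (hg v hv).2, fun v hv => ⟨?_, fun e => ?_⟩⟩
  · rw [hA v hv, Bool.eq_iff_iff, h.col_iff (hg v hv).1, h.col_iff hv, ← (hg v hv).2]
    exact ⟨fun e => (isConj_iff.2 ⟨n, rfl⟩ : IsConj (eEl K s v) _).trans e,
      fun e => (isConj_iff.2 ⟨n, rfl⟩ : IsConj (eEl K s v) _).symm.trans e⟩
  · rw [hA v hv] at e
    have := (hg v hv).2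
    rw [e, h.e_zero, mul_inv_eq_one, mul_eq_left, ← h.e_zero] at this
    exact h.e_inj hv (by norm_num) this

theorem pres_of_acts {n : G} {A : ℕ} (ha : Acts K s n A) : Pres s A := by
  obtain ⟨B, hB, hP⟩ := h.exists_acts (h.acts_inN ha)
  intro v hv
  have : apM A v = apM B v := h.e_inj (apM_lt _ _) (apM_lt _ _) (by rw [← ha v hv, hB v hv])
  rw [this]
  exact hP v hv

theorem inN_inv {n : G} (hn : InN K s n) : InN K s n⁻¹ := by
  obtain ⟨A, hA, hP⟩ := h.exists_acts hn
  intro w hw
  obtain ⟨v, hv, rfl⟩ := exists_preimage (f := apM A) (fun v _ => apM_lt A v) (fun a ha b hb e => hP.inj ha hb e) hw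
  exact ⟨v, hv, by rw [← hA v hv]; group⟩

theorem acts_kEl {j : ℕ} (hj : j < 48) : Acts K s (K.el (kAt s j)) (kMat s j) := fun v hv => by
  obtain ⟨-, -, -, H⟩ := eOK_spec h.eok
  have hn := normSpec h.nok
  rw [mul_inv_eq_iff_eq_mul, eEl, eEl, K.el_mul _ (hn.klt j hj) _ (H v hv).1,
    K.el_mul _ (H _ (apM_lt _ _)).1 _ (hn.klt j hj), hn.kact j hj v hv]

theorem kMat_lt (j : ℕ) : kMat s j < 2 ^ 36 := field_lt 36 _ j

theorem eq_of_kMat {i j : ℕ} (hi : i < 48) (hj : j < 48)
    (e : ∀ v < 64, apM (kMat s i) v = apM (kMat s j) v) : i = j := by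
  have hn := normSpec h.nok
  have := mat_ext (h.kMat_lt i) (h.kMat_lt j) e
  rcases Nat.lt_trichotomy i j with h' | h' | h'
  · exact absurd this (hn.kdist j hj i h')
  · exact h'
  · exact absurd this.symm (hn.kdist i hi j h')

/-- The normaliser inside `C(t)`. -/
theorem mem_norm {g : G} (hg : g * t = t * g) (hgN : InN K s g) :
    ∃ v < 64, ∃ j < 48, g = eEl K s v * K.el (kAt s j) := by
  obtain ⟨-, -, -, H⟩ := eOK_spec h.eok
  have hn := normSpec h.nok
  let code : ℕ → ℕ := fun x => mulC 0 (trAt s (x / 3072)) (nEl s (x % 3072 / 48) (x % 48))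
  have hclt : ∀ x < 21504, code x < 21504 := fun x hx => mulC_lt (hn.tr _ (by omega)).1 _
  have hel : ∀ x < 21504, K.el (code x) =
      K.el (trAt s (x / 3072)) * (eEl K s (x % 3072 / 48) * K.el (kAt s (x % 48))) := fun x hx => by
    rw [eEl, K.el_mul _ (H _ (by omega)).1 _ (hn.klt _ (by omega)),
      K.el_mul _ (hn.tr _ (by omega)).1 _ (mulC_lt (H _ (by omega)).1 _)]
    rfl
  have hN : ∀ v < 64, ∀ j < 48, InN K s (eEl K s v * K.el (kAt s j)) := fun v hv j hj =>
    h.inN_mul (h.acts_inN (h.acts_e hv)) (h.acts_inN (h.acts_kEl hj))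
  have hdiff : ∀ r < 7, ∀ i < r, ¬ InN K s ((K.el (trAt s i))⁻¹ * K.el (trAt s r)) := by
    intro r hr i hi hin
    obtain ⟨b, hb, hbad⟩ := (hn.tr r hr).2.2.2.2 i hi
    have hb64 : 2 ^ b < 64 := (Nat.pow_lt_pow_right one_lt_two hb).trans_eq (by norm_num)
    obtain ⟨w, hw, e⟩ := hin _ hb64
    have ti := hn.tr i (by omega)
    have tr' := hn.tr r hr
    have e1 : (K.el (trAt s i))⁻¹ = K.el (trInv s i) := inv_eq_of_mul_eq_one_left (by
      rw [K.el_mul _ ti.2.1 _ ti.1, ti.2.2.1, K.el_zero (by norm_num)])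
    have e2 : (K.el (trAt s r))⁻¹ = K.el (trInv s r) := inv_eq_of_mul_eq_one_left (by
      rw [K.el_mul _ tr'.2.1 _ tr'.1, tr'.2.2.1, K.el_zero (by norm_num)])
    have key : K.el (trConj s i r b) = eEl K s w := by
      rw [← e, _root_.mul_inv_rev, inv_inv, e1, e2, trConj,
        ← K.el_mul _ (mulC_lt (mulC_lt ti.2.1 _) _) _ (mulC_lt tr'.2.1 _),
        ← K.el_mul _ (mulC_lt ti.2.1 _) _ (H _ hb64).1, ← K.el_mul _ ti.2.1 _ tr'.1,
        ← K.el_mul _ tr'.2.1 _ ti.1]
    rw [trConj] at hbad key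
    rw [K.el_inj _ (mulC_lt (mulC_lt (mulC_lt ti.2.1 _) _) _) _ (H w hw).1 key, (H w hw).2.1] at hbad
    omega
  have hinj : ∀ x < 21504, ∀ y < 21504, code x = code y → x = y := by
    intro x hx y hy e
    have e' := congrArg K.el e
    rw [hel x hx, hel y hy] at e'
    have hr : x / 3072 = y / 3072 := by
      have key : ∀ a b A B : G, a * A = b * B → InN K s A → InN K s B → InN K s (b⁻¹ * a) := by
        intro a b A B hab hA hB
        rw [show b⁻¹ * a = B * A⁻¹ by
          rw [eq_mul_inv_iff_mul_eq, mul_assoc, hab, inv_mul_cancel_left]]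
        exact h.inN_mul hB (h.inN_inv hA)
      rcases Nat.lt_trichotomy (x / 3072) (y / 3072) with h' | h' | h'
      · exact absurd (key _ _ _ _ e'.symm (hN _ (by omega) _ (by omega)) (hN _ (by omega) _ (by omega)))
          (hdiff _ (by omega) _ h')
      · exact h'
      · exact absurd (key _ _ _ _ e' (hN _ (by omega) _ (by omega)) (hN _ (by omega) _ (by omega)))
          (hdiff _ (by omega) _ h')
    rw [hr] at e'
    have e'' := mul_left_cancel e'
    have hj : x % 48 = y % 48 := h.eq_of_kMat (by omega) (by omega) fun v hv => by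
      refine h.e_inj (apM_lt _ _) (apM_lt _ _) ?_
      have a1 := (h.acts_mul (h.acts_e (w := x % 3072 / 48) (by omega)) (h.acts_kEl (j := x % 48) (by omega))) v hv
      have a2 := (h.acts_mul (h.acts_e (w := y % 3072 / 48) (by omega)) (h.acts_kEl (j := y % 48) (by omega))) v hv
      rw [e''] at a1
      have := a1.symm.trans a2
      rwa [apM_mmM _ _ hv, apM_mmM _ _ hv, apM_idM (apM_lt _ _), apM_idM (apM_lt _ _)] at this
    rw [hj] at e''
    have hv := h.e_inj (by omega) (by omega) (mul_right_cancel e'')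
    omega
  obtain ⟨c, hc, rfl⟩ := K.surj g hg
  obtain ⟨x, hx, hxc⟩ := exists_preimage hclt hinj hc
  have hr0 : x / 3072 = 0 := by
    by_contra h0
    refine hdiff (x / 3072) (by omega) 0 (Nat.pos_of_ne_zero h0) ?_
    have e0 : InN K s (K.el (trAt s (x / 3072))) := by
      rw [show K.el (trAt s (x / 3072)) = K.el (code x) * (eEl K s (x % 3072 / 48) * K.el (kAt s (x % 48)))⁻¹ by
        rw [hel x hx, mul_inv_cancel_right], hxc]
      exact h.inN_mul hgN (h.inN_inv (hN _ (by omega) _ (by omega)))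
    refine h.inN_mul ?_ e0
    exact h.inN_inv (by
      have : trAt s 0 = 0 := (normSpec h.nok).tr0
      rw [this, K.el_zero (by norm_num), ← h.e_zero]
      exact h.acts_inN (h.acts_e (by norm_num)))
  refine ⟨x % 3072 / 48, by omega, x % 48, by omega, ?_⟩
  rw [← hxc, hel x hx, hr0, (normSpec h.nok).tr0, K.el_zero (by norm_num), one_mul]

/-- The centraliser of the subgroup is the subgroup. -/
theorem eq_e_of_fix {n : G} (hn : ∀ v < 64, n * eEl K s v * n⁻¹ = eEl K s v) :
    ∃ v < 64, n = eEl K s v := by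
  have ht := hn _ (eOK_spec h.eok).2.1
  rw [h.e_t, mul_inv_eq_iff_eq_mul] at ht
  obtain ⟨v, hv, j, hj, rfl⟩ := h.mem_norm ht fun v hv => ⟨v, hv, hn v hv⟩
  refine ⟨v, hv, ?_⟩
  have hj0 : j = 0 := h.eq_of_kMat hj (by norm_num) fun u hu => by
    rw [(normSpec h.nok).m0, apM_idM hu]
    refine h.e_inj (apM_lt _ _) hu ?_
    have := (h.acts_mul (h.acts_e hv) (h.acts_kEl hj)) u hu
    rw [hn u hu, apM_mmM _ _ hu, apM_idM (apM_lt _ _)] at this
    exact this.symm
  rw [hj0, (normSpec h.nok).k0, K.el_zero (by norm_num), mul_one]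

/-- Every colour preserving matrix comes from the normaliser. -/
theorem exists_of_pres {A : ℕ} (hA : Pres s A) : ∃ n, Acts K s n A := by
  obtain ⟨-, htv, -, -⟩ := eOK_spec h.eok
  obtain ⟨u, hu, hut⟩ := exists_preimage (f := apM A) (fun v _ => apM_lt A v)
    (fun a ha b hb e => hA.inj ha hb e) htv
  have hcu : colT s u = true := by rw [← (hA u hu).1, hut]; exact (matsSpec h.eok h.mok).colt
  obtain ⟨n, hn, hnt⟩ := h.trans u hu hcu
  obtain ⟨M, hM, -⟩ := h.exists_acts hn
  obtain ⟨M', hM', hMP⟩ := h.exists_acts (h.inN_inv hn)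
  have hM't : apM M' (tVec s.e) = u := h.e_inj (apM_lt _ _) hu (by
    rw [← hM' _ htv, h.e_t]
    conv_lhs => arg 1; arg 2; rw [← hnt]
    group)
  obtain ⟨j, hj, hje⟩ := (matsSpec h.eok h.mok).fixed _ (hA.mul hMP)
    (by rw [apM_mmM _ _ htv, hM't, hut])
  refine ⟨K.el (kAt s j) * n, fun v hv => ?_⟩
  rw [(h.acts_mul (h.acts_kEl hj) hM) v hv, apM_mmM _ _ hv, hje _ (apM_lt _ _), apM_mmM _ _ (apM_lt _ _)]
  congr 2
  refine h.e_inj (apM_lt _ _) hv ?_
  rw [← hM' _ (apM_lt _ _), ← hM v hv]
  group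

/-- A lifting of the matrix of order three. -/
theorem exists_p : ∃ p : G, Acts K s p s.P ∧ p * p * p = 1 := by
  have hm := matsSpec h.eok h.mok
  obtain ⟨p, hp⟩ := h.exists_of_pres hm.presP
  refine ⟨p, hp, ?_⟩
  obtain ⟨v, hv, e⟩ := h.eq_e_of_fix (n := p * p * p) fun v hv => by
    rw [(h.acts_mul (h.acts_mul hp hp) hp) v hv, apM_mmM _ _ hv, apM_mmM _ _ (apM_lt _ _), hm.cube v hv]
  have h1 : p * eEl K s v * p⁻¹ = eEl K s v := by rw [← e]; group
  rw [hp v hv] at h1
  rw [e, hm.fpf v hv (h.e_inj (apM_lt _ _) hv h1), h.e_zero]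

/-- The lifting of a matrix normalising `⟨p⟩`. -/
def IsLift (K : Coord t 0) (s : SideData) (p n : G) (A : ℕ) : Prop :=
  Acts K s n A ∧ (n * p * n⁻¹ = p ∨ n * p * n⁻¹ = p * p)

variable {p : G} (hp : Acts K s p s.P) (hp3 : p * p * p = 1)
include hp hp3

omit hp3 in
theorem shift {v : ℕ} (hv : v < 64) :
    eEl K s v * p * eEl K s v = eEl K s (Nat.xor v (apM s.P v)) * p ∧
      eEl K s v * (p * p) * eEl K s v = eEl K s (Nat.xor v (apM s.P (apM s.P v))) * (p * p) := by
  refine ⟨?_, ?_⟩
  · rw [mul_assoc, mul_inv_eq_iff_eq_mul.1 (hp v hv), ← mul_assoc, h.e_mul hv (apM_lt _ _)]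
  · have e := (h.acts_mul hp hp) v hv
    rw [apM_mmM _ _ hv] at e
    rw [mul_assoc, mul_inv_eq_iff_eq_mul.1 e, ← mul_assoc, h.e_mul hv (apM_lt _ _)]

theorem fpf2 {v : ℕ} (hv : v < 64) (e : apM s.P (apM s.P v) = v) : v = 0 := by
  have hm := matsSpec h.eok h.mok
  refine hm.fpf v hv ?_
  conv_rhs => rw [← hm.cube v hv, e]

theorem exists_lift {A : ℕ} (hA : Pres s A) : ∃ n, IsLift K s p n A := by
  have hm := matsSpec h.eok h.mok
  obtain ⟨n, hn⟩ := h.exists_of_pres hA
  have hsurj : ∀ v < 64, ∃ u < 64, apM A u = v := fun v hv =>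
    exists_preimage (fun u _ => apM_lt A u) (fun a ha b hb e => hA.inj ha hb e) hv
  have main : ∀ (q : G) (f : ℕ → ℕ), Acts K s q (packM fun j => f (2 ^ j)) → (∀ v < 64,
      apM (packM fun j => f (2 ^ j)) v = f v) → (∀ v < 64, apM A (apM s.P v) = f (apM A v)) →
      (∀ z < 64, f z = z → z = 0) →
      (∀ z < 64, eEl K s z * q * eEl K s z = eEl K s (Nat.xor z (f z)) * q) →
      (q = p ∨ q = p * p) → ∃ m, IsLift K s p m A := by
    intro q f hq hf hcomm hfix hshift hqp
    obtain ⟨w, hw, he⟩ := h.eq_e_of_fix (n := n * p * n⁻¹ * q⁻¹) fun v hv => by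
      obtain ⟨u, hu, rfl⟩ := hsurj v hv
      obtain ⟨u', hu', hqu⟩ := exists_preimage (f := f) (fun z hz => by rw [← hf z hz]; exact apM_lt _ _)
        (fun a ha b hb e => by
          refine h.e_inj ha hb ?_
          have e1 := hq a ha
          have e2 := hq b hb
          rw [hf a ha] at e1
          rw [hf b hb, ← e, ← e1] at e2
          exact (mul_left_cancel (mul_right_cancel e2)).symm) hv
      have e1 : q⁻¹ * eEl K s (apM A u) * q = eEl K s u' := by
        rw [← hqu, ← hf u' hu', ← hq u' hu']; group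
      obtain ⟨z, hz, hzu⟩ := hsurj u' hu'
      calc n * p * n⁻¹ * q⁻¹ * eEl K s (apM A u) * (n * p * n⁻¹ * q⁻¹)⁻¹
          = n * (p * (n⁻¹ * (q⁻¹ * eEl K s (apM A u) * q) * n) * p⁻¹) * n⁻¹ := by group
        _ = n * (p * eEl K s z * p⁻¹) * n⁻¹ := by rw [e1, ← hzu, ← hn z hz]; group
        _ = eEl K s (apM A u) := by rw [hp z hz, hn _ (apM_lt _ _), hcomm z hz, hzu, hqu]
    obtain ⟨z, hz, hzw⟩ := exists_preimage (f := fun z => Nat.xor z (f z))
      (fun z hz => xor_lt64 hz (by rw [← hf z hz]; exact apM_lt _ _))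
      (fun a ha b hb e => by
        refine xor_cancel (hfix _ (xor_lt64 ha hb) ?_)
        rw [← hf _ (xor_lt64 ha hb), apM_xor, hf a ha, hf b hb]
        have e0 : a ^^^ f a = b ^^^ f b := e
        show f a ^^^ f b = a ^^^ b
        calc f a ^^^ f b = (a ^^^ (a ^^^ f a)) ^^^ f b := by rw [← Nat.xor_assoc a a, Nat.xor_self, Nat.zero_xor]
          _ = a ^^^ b := by rw [e0, Nat.xor_assoc, Nat.xor_assoc, Nat.xor_self, Nat.xor_zero]) hw
    refine ⟨eEl K s z * n, fun v hv => ?_, ?_⟩
    · rw [(h.acts_mul (h.acts_e hz) hn) v hv, apM_mmM _ _ hv, apM_idM (apM_lt _ _)]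
    · have : eEl K s z * n * p * (eEl K s z * n)⁻¹ = q := by
        rw [_root_.mul_inv_rev, h.e_inv hz,
          show eEl K s z * n * p * (n⁻¹ * eEl K s z) = eEl K s z * (n * p * n⁻¹ * q⁻¹) * q * eEl K s z by group,
          he, h.e_mul hz hw, ← hzw]
        have hfz : f z < 64 := by rw [← hf z hz]; exact apM_lt _ _
        have hx : Nat.xor z (Nat.xor z (f z)) = f z := by
          show z ^^^ (z ^^^ f z) = f z
          rw [← Nat.xor_assoc, Nat.xor_self, Nat.zero_xor]
        rw [hx]
        calc eEl K s (f z) * q * eEl K s z = eEl K s (f z) * eEl K s z * (eEl K s z * q * eEl K s z) := by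
              rw [mul_assoc _ (eEl K s z) (eEl K s z * q * eEl K s z), ← mul_assoc (eEl K s z) _ (eEl K s z),
                ← mul_assoc (eEl K s z) (eEl K s z), h.e_mul hz hz, show Nat.xor z z = 0 from Nat.xor_self z,
                h.e_zero, one_mul, ← mul_assoc]
          _ = q := by
            rw [hshift z hz, h.e_mul hfz hz, ← mul_assoc, h.e_mul (xor_lt64 hfz hz) (xor_lt64 hz hfz),
              show Nat.xor (Nat.xor (f z) z) (Nat.xor z (f z)) = 0 by
                show (f z ^^^ z) ^^^ (z ^^^ f z) = 0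
                rw [Nat.xor_comm z, Nat.xor_self],
              h.e_zero, one_mul]
      rcases hqp with rfl | rfl
      exacts [Or.inl this, Or.inr this]
  have hPeq : ∀ v < 64, apM (packM fun j => apM s.P (2 ^ j)) v = apM s.P v :=
    additive_ext (fun a _ b _ => apM_xor _ a b) (fun a _ b _ => apM_xor _ a b) fun j hj => by
      rw [apM_unit _ hj]; exact field_packM (fun i _ => apM_lt _ _) hj
  have hP2eq : ∀ v < 64, apM (packM fun j => apM s.P (apM s.P (2 ^ j))) v = apM s.P (apM s.P v) :=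
    additive_ext (fun a _ b _ => apM_xor _ a b) (fun a _ b _ => by simp only [apM_xor]) fun j hj => by
      rw [apM_unit _ hj]; exact field_packM (fun i _ => apM_lt _ _) hj
  rcases hm.norm A hA with hc | hc
  · exact main p (apM s.P) (fun v hv => by rw [hPeq v hv]; exact hp v hv) hPeq hc hm.fpf
      (fun z hz => (h.shift hp hz).1) (Or.inl rfl)
  · exact main (p * p) (fun v => apM s.P (apM s.P v))
      (fun v hv => by rw [hP2eq v hv, (h.acts_mul hp hp) v hv, apM_mmM _ _ hv]) hP2eq hc
      (fun z hz e => h.fpf2 hp hp3 hz e) (fun z hz => (h.shift hp hz).2) (Or.inr rfl)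

theorem lift_unique {n m : G} {A : ℕ} (hn : IsLift K s p n A) (hm' : IsLift K s p m A) : n = m := by
  have hm := matsSpec h.eok h.mok
  obtain ⟨v, hv, e⟩ := h.eq_e_of_fix (n := m⁻¹ * n) fun u hu => by
    rw [show m⁻¹ * n * eEl K s u * (m⁻¹ * n)⁻¹ = m⁻¹ * (n * eEl K s u * n⁻¹) * m by group, hn.1 u hu,
      ← hm'.1 u hu]
    group
  have hnm : n = m * eEl K s v := by rw [← e]; group
  have conjp : n * p * n⁻¹ = m * (eEl K s (Nat.xor v (apM s.P v)) * p) * m⁻¹ := by
    rw [hnm, _root_.mul_inv_rev, h.e_inv hv, ← (h.shift hp hv).1]; group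
  have hcl : ∀ u < 64, eEl K s u = p → False := fun u hu hup => by
    have h1 := hm.fpf (tVec s.e) (eOK_spec h.eok).2.1 (h.e_inj (apM_lt _ _) (eOK_spec h.eok).2.1 (by
      rw [← hp _ (eOK_spec h.eok).2.1, ← hup, (h.e_comm hu (eOK_spec h.eok).2.1).eq, mul_inv_cancel_right]))
    have := (eOK_spec h.eok).2.2.1
    rw [h1, (eOK_spec h.eok).1] at this
    omega
  have hpm : m⁻¹ * p * m = p ∨ m⁻¹ * p * m = p * p := by
    rcases hm'.2 with e1 | e1
    · left; conv_lhs => rw [← e1]
      group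
    · right
      have e2 : m * (p * p) * m⁻¹ = p := by
        rw [show m * (p * p) * m⁻¹ = m * p * m⁻¹ * (m * p * m⁻¹) by group, e1,
          show p * p * (p * p) = p * p * p * p by group, hp3, one_mul]
      conv_lhs => rw [← e2]
      group
  have hxor : eEl K s (Nat.xor v (apM s.P v)) * p = m⁻¹ * (n * p * n⁻¹) * m := by rw [conjp]; group
  have key : Nat.xor v (apM s.P v) = 0 := by
    have hx := xor_lt64 hv (apM_lt s.P v)
    have hsame : m⁻¹ * (n * p * n⁻¹) * m = p ∨ m⁻¹ * (n * p * n⁻¹) * m = p * p := by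
      rcases hn.2 with e1 | e1 <;> rw [e1]
      · exact hpm
      · rw [show m⁻¹ * (p * p) * m = (m⁻¹ * p * m) * (m⁻¹ * p * m) by group]
        rcases hpm with e2 | e2 <;> rw [e2]
        · exact Or.inr rfl
        · left; rw [show p * p * (p * p) = p * p * p * p by group, hp3, one_mul]
    rcases hsame with e1 | e1
    · rw [e1] at hxor
      exact h.e_inj hx (by norm_num) (by rw [h.e_zero]; exact mul_eq_right.1 hxor)
    · rw [e1] at hxor
      exact (hcl _ hx (mul_right_cancel hxor)).elim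
  rw [hnm, hm.fpf v hv (xor_cancel key).symm, h.e_zero, mul_one]

theorem lift_mul {n m : G} {A B : ℕ} (hn : IsLift K s p n A) (hm' : IsLift K s p m B) :
    IsLift K s p (n * m) (mmM A B) := by
  refine ⟨h.acts_mul hn.1 hm'.1, ?_⟩
  rw [show n * m * p * (n * m)⁻¹ = n * (m * p * m⁻¹) * n⁻¹ by group]
  rcases hm'.2 with e | e <;> rw [e]
  · exact hn.2
  · rw [show n * (p * p) * n⁻¹ = n * p * n⁻¹ * (n * p * n⁻¹) by group]
    rcases hn.2 with e' | e' <;> rw [e']
    · exact Or.inr rfl
    · left; rw [show p * p * (p * p) = p * p * p * p by group, hp3, one_mul]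

theorem lift_congr {n : G} {A B : ℕ} (hn : IsLift K s p n A) (e : ∀ v < 64, apM A v = apM B v) :
    IsLift K s p n B := ⟨fun v hv => by rw [hn.1 v hv, e v hv], hn.2⟩

end SideHyp

end CfsgLib.Recog.Held
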