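import Cfsg.Agent.Lib.Recog.Held.LocalFus
import Cfsg.Agent.Lib.Recog.Held.LocalFusCheck
import Cfsg.Agent.Lib.Recog.Held.LocalN91

set_option autoImplicit false
set_option maxRecDepth 100000

/-!
A simple group with the pattern of `L5(2)` has order 9999360, one with the pattern of `M24` order 244823040
(owner: helper25).
-/

namespace CfsgLib.Recog.Held

open Subgroup

theorem count_col_27 : countBelow 21504 (fun x => Nat.blt 0 x && colC 27 x) = 113 := by decide +kernel

variable {G : Type*} [Group G] [Finite G] {t : G} {K : Coord t 0}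

theorem pattern_27 {m pA pB : G} (hA : SideHyp K sideA27) (hB : SideHyp K sideB27)
    (g : Glued K sideA27 sideB27 glue27 m pA pB) (hm : K.mask = 27) :
    Pattern K sideA27 sideB27 glue27 fus27 m pA pB :=
  { hA := hA, hB := hB, glued := g, lets := lettersOK_27, inv := (Glued.rels_27 K g hA hB).1
    gen := closure_eq_cent K gen_ok27, mask := hm, loc := localOK_27, pick := pickOK_27, fus := fusOK_27 }

theorem pattern_91 {m pA pB : G} (hA : SideHyp K sideA91) (hB : SideHyp K sideB91)
    (g : Glued K sideA91 sideB91 glue91 m pA pB) (hm : K.mask = 91) :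
    Pattern K sideA91 sideB91 glue91 fus91 m pA pB :=
  { hA := hA, hB := hB, glued := g, lets := lettersOK_91, inv := (Glued.rels_91 K g hA hB).1
    gen := closure_eq_cent K gen_ok91, mask := hm, loc := localOK_91, pick := pickOK_91, fus := fusOK_91 }

/-- There are at least 113 conjugates of `t` for mask 27. -/
theorem index_cent_ge (hm : K.mask = 27) : 113 ≤ (centralizer ({t} : Set G)).index := by
  classical
  rw [← count_col_27, countBelow_eq, ← Nat.card_eq_finsetCard, Subgroup.index]
  have hconj : ∀ x : ↥((Finset.range 21504).filter fun x => (Nat.blt 0 x && colC 27 x) = true),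
      ∃ g : G, g * t * g⁻¹ = K.el x.1 := fun x => by
    obtain ⟨hx, hc⟩ := Finset.mem_filter.1 x.2
    rw [Bool.and_eq_true, colC, Bool.and_eq_true, Nat.blt_eq, Nat.blt_eq] at hc
    exact isConj_iff.1 (((K.mask_spec (by norm_num) (Finset.mem_range.1 hx)).2
      ⟨Nat.pos_iff_ne_zero.1 hc.2.1, by rw [hm]; exact hc.2.2⟩).symm)
  choose f hf using hconj
  refine Nat.card_le_card_of_injective (fun x => (Quotient.mk'' (f x) : G ⧸ centralizer ({t} : Set G))) ?_
  intro x y e
  have h := mem_centralizer_singleton_iff.1 (QuotientGroup.leftRel_apply.1 (Quotient.exact e))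
  refine Subtype.ext (K.el_inj _ (Finset.mem_range.1 (Finset.mem_filter.1 x.2).1) _
    (Finset.mem_range.1 (Finset.mem_filter.1 y.2).1) ?_)
  rw [← hf x, ← hf y]
  calc f x * t * (f x)⁻¹ = f x * (t * ((f x)⁻¹ * f y)) * (f y)⁻¹ := by group
    _ = f y * t * (f y)⁻¹ := by rw [← h]; group

/-- The pattern of `L5(2)`: the letters satisfy the relators and generate the group of order 9999360. -/
theorem order_27 [IsSimpleGroup G] (hS : ∃ Q : Sylow 2 G, (Q : Subgroup G) ≤ centralizer {t})
    (hm : K.mask = 27) : Nat.card G = 9999360 ∧ ∃ m : G,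
      (∀ w ∈ relsL5, (w.map (letters K glue27 m)).prod = 1) ∧
      closure {g | ∃ x < 5, g = letters K glue27 m x} = ⊤ := by
  obtain ⟨hA, hB⟩ := sideHyps_27 K hS hm
  obtain ⟨m, pA, pB, g⟩ := exists_glued_27 K hS hm
  have P := pattern_27 hA hB g hm
  have htop : closure {g | ∃ x < 5, g = letters K glue27 m x} = ⊤ := P.eq_top hS
  refine ⟨?_, m, (Glued.rels_27 K g hA hB).2, htop⟩
  have hC : Nat.card (centralizer ({t} : Set G)) = 21504 := by
    rw [← K.card_cent]
    exact Nat.card_congr (Equiv.subtypeEquivRight fun x => mem_centralizer_singleton_iff)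
  have hgen : centralizer ({t} : Set G) = closure {g | ∃ x < 4, g = letters K glue27 m x} := by
    rw [← P.gen]
    congr 1
    ext g
    exact exists_congr fun x => and_congr_right fun hx => by rw [letters, if_pos hx]
  have h := enum_l5 (letters K glue27 m) P.inv (Glued.rels_27 K g hA hB).2 _ hgen hC (by
    rw [htop, relIndex_top_right]; exact index_cent_ge hm)
  rwa [htop, card_top] at h

/-- The pattern of `M24`. -/
theorem order_91 [IsSimpleGroup G] (hS : ∃ Q : Sylow 2 G, (Q : Subgroup G) ≤ centralizer {t})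
    (hm : K.mask = 91) : Nat.card G = 244823040 := by
  obtain ⟨hA, hB⟩ := sideHyps_91 K hS hm
  obtain ⟨m, pA, pB, g⟩ := exists_glued_91 K hS hm
  have P := pattern_91 hA hB g hm
  have htop : closure {g | ∃ x < 5, g = letters K glue91 m x} = ⊤ := P.eq_top hS
  obtain ⟨hN, h2⟩ := n91_card g hA hB
  have h := enum_m24 (letters K glue91 m) P.inv (Glued.rels_91 K g hA hB).2 (nSub K m) rfl hN h2
  rwa [htop, card_top] at h

end CfsgLib.Recog.Held
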