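import Cfsg.Agent.Lib.Recog.Held.Count

set_option autoImplicit false
set_option maxRecDepth 20000

/-!
An automorphism of candidate 0 exchanging the classes 0, 1 and 5, 6 (owner: helper25).
Generated by `notes/held/local25/sigma2.py`.
-/

namespace CfsgLib.Recog.Held

/-- Its values on the extraspecial subgroup. -/
def sigQData : ℕ := 0xb2018400880290062002403c804100b6008c009806b0066012c03d800300b8019002a006c0068003001e000400bc009802b002e006c013801f0046003e009c02b806f006e003c03f8047003a019402a802d006a013403e800500340088009002a0064002801d00020030018000800680060012001c004000320084028806900e2012401c80010036018c029802b00e6002c01d80430038009000a002c00e8013003e0044003c019800b006e00ec003803f000600be019c00b802f00ee013c01f800700ba009400a806d00ea003401e804500b40188029006a00e4012803d004200b00080028002800e0002003c0000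

/-- Its values on the lifts. -/
def sigLData : ℕ := 0xa72eaca0832a00179f652bcc0c85548c50ca1a05cc3a16cb69bb066ab8db539b2281d8f1ecb7bca64e658b43173bf658397404fe4720e25f546a1e4b9cd920bd983129968501d2e7758c7d05425b9504ba70e9302e6fe8f6251770fb2a206d423cb7ad7167a600bb865aa8dd34fd0cddc285e8950acf41885c110a1e7b29397010caa5810c8a7b5e72bf92350338e1a00dfad6441ce44f0d4d518b2aa559772936e24ca5875700f9366901f6b507ef0594839c6c747213900d4352013964479f6dd25c6daa9992517c4198f0e66a1600244b17fa1fec08f0e5c3a4125b046ad0db1ffa0e5dfbec73f69003cbe88b35fb643c195212e0b650b10853475fd2d52f4254fc8431a08751cb77264b4001379a48e4543b00143b91438c4c86e4364304fc400935b23d940851bd832f2ed61039ff5b0cd452c6b558d00000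

/-- The automorphism. -/
noncomputable def sigC (x : ℕ) : ℕ := mulC 0 (field 15 sigQData (x % 128)) (field 15 sigLData (x / 128))

end CfsgLib.Recog.Held
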