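import Cfsg.Agent.Lib.Recog.Held.LocalGen
import Cfsg.Agent.Lib.Recog.Held.LocalSigmaDefs
import Cfsg.Agent.Lib.Recog.Held.Colour

set_option autoImplicit false
set_option maxRecDepth 100000

/-!
Coordinates composed with the automorphism exchanging the classes 0, 1 and 5, 6 (owner: helper25).
-/

namespace CfsgLib.Recog.Held

/-- The classes are exchanged. -/
def sigCls : List ℕ := [1, 0, 2, 3, 4, 6, 5, 7]

/-- The value on the extraspecial subgroup. -/
noncomputable def sigQ (q : ℕ) : ℕ := field 15 sigQData q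
/-- The value on a lift. -/
noncomputable def sigL (l : ℕ) : ℕ := field 15 sigLData l

/-- The map respects the standard codes and fixes only the identity over it. -/
noncomputable def sigOK : Bool :=
  allBelow 128 (fun q => Nat.blt (sigQ q) 128 && (Nat.beq q 0 || !Nat.beq (sigQ q) 0)) &&
    (allBelow 168 (fun l => Nat.blt (sigL l) 21504 && (Nat.beq l 0 || !Nat.beq (sigL l / 128) 0)) &&
    (allBelow 128 (fun q => allBelow 7 fun u => Nat.beq (sigC (mulC 0 q (stdC.getD u 0)))
      (mulC 0 (sigC q) (sigC (stdC.getD u 0)))) &&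
    (allBelow 168 (fun l => allBelow 9 fun k => Nat.beq (sigC (mulC 0 (128 * l) (stdC.getD k 0)))
      (mulC 0 (sigC (128 * l)) (sigC (stdC.getD k 0)))) &&
    (Nat.beq (sigC 0) 0 && (Nat.beq (sigC 64) 64 && (Nat.beq (sigQ 0) 0 && (Nat.beq (sigL 0) 0 &&
      (Nat.beq (ncls 0) 8 &&
      allBelow 8 fun k => Nat.beq (clsOf 0 (sigC (rep 0 k))) (sigCls.getD k 0 + 1)))))))))

theorem sig_ok : sigOK = true := by decide +kernel

theorem sigC_lt {x : ℕ} (hx : x < 21504) : sigC x < 21504 := by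
  have h := sig_ok
  simp only [sigOK, Bool.and_eq_true, allBelow_spec, Nat.blt_eq] at h
  exact mulC_lt (lt_of_lt_of_le (h.1 (x % 128) (by omega)).1 (by norm_num)) _

variable {G : Type*} [Group G] [Finite G] {t : G} (K : Coord t 0)
include K

theorem zero_mul' {z : ℕ} (hz : z < 21504) : mulC 0 0 z = z ∧ mulC 0 z 0 = z := by
  refine ⟨K.el_inj _ (mulC_lt (by norm_num) z) _ hz ?_, K.el_inj _ (mulC_lt hz 0) _ hz ?_⟩
  · rw [← K.el_mul 0 (by norm_num) z hz, K.el_zero (by norm_num), one_mul]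
  · rw [← K.el_mul z hz 0 (by norm_num), K.el_zero (by norm_num), mul_one]

theorem mulC_assoc {a b c : ℕ} (ha : a < 21504) (hb : b < 21504) (hc : c < 21504) :
    mulC 0 a (mulC 0 b c) = mulC 0 (mulC 0 a b) c := by
  refine K.el_inj _ (mulC_lt ha _) _ (mulC_lt (mulC_lt ha _) _) ?_
  rw [← K.el_mul a ha _ (mulC_lt hb c), ← K.el_mul _ (mulC_lt ha b) c hc, ← K.el_mul b hb c hc,
    ← K.el_mul a ha b hb, mul_assoc]

theorem sig_split {q l : ℕ} (hq : q < 128) (hl : l < 168) :
    mulC 0 q (128 * l) = q + 128 * l ∧ sigC (q + 128 * l) = mulC 0 (sigC q) (sigC (128 * l)) ∧ sigC q < 128 := by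
  have hs := std_ok
  simp only [stdOK, Bool.and_eq_true, allBelow_spec, Nat.beq_eq] at hs
  have h := sig_ok
  simp only [sigOK, Bool.and_eq_true, allBelow_spec, Nat.blt_eq, Nat.beq_eq] at h
  obtain ⟨hQ, hL, -, -, -, -, hQ0, hL0, -⟩ := h
  have e1 : sigC q = sigQ q := by
    show mulC 0 (sigQ (q % 128)) (sigL (q / 128)) = sigQ q
    rw [Nat.mod_eq_of_lt hq, Nat.div_eq_of_lt hq, hL0]
    exact (zero_mul' K (lt_of_lt_of_le (hQ q hq).1 (by norm_num))).2
  have e2 : sigC (128 * l) = sigL l := by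
    show mulC 0 (sigQ (128 * l % 128)) (sigL (128 * l / 128)) = sigL l
    rw [Nat.mul_mod_right, Nat.mul_div_cancel_left _ (by norm_num), hQ0]
    exact (zero_mul' K (hL l hl).1).1
  refine ⟨hs.2.2 l hl q hq, ?_, e1 ▸ (hQ q hq).1⟩
  rw [e1, e2]
  show mulC 0 (sigQ ((q + 128 * l) % 128)) (sigL ((q + 128 * l) / 128)) = _
  rw [show (q + 128 * l) % 128 = q by omega, show (q + 128 * l) / 128 = l by omega]

theorem mulC_low {p q : ℕ} (hp : p < 128) (hq : q < 128) : mulC 0 p q < 128 := by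
  have h := mulC_div (i := 0) (show p < 21504 by omega) q
  rw [Nat.div_eq_of_lt hp, Nat.div_eq_of_lt hq, show lMul 0 0 = 0 by decide +kernel] at h
  omega

theorem sig_mul_low {p q : ℕ} (hp : p < 128) (hq : q < 128) :
    sigC (mulC 0 p q) = mulC 0 (sigC p) (sigC q) := by
  have h := sig_ok
  simp only [sigOK, Bool.and_eq_true, allBelow_spec, Nat.beq_eq] at h
  obtain ⟨-, -, hu, -, h0, -⟩ := h
  have hs := std_ok
  simp only [stdOK, Bool.and_eq_true, allBelow_spec, Nat.beq_eq] at hs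
  have key : ∀ n ≤ 7, (Nat.rec (motive := fun _ => ℕ) 0
      (fun j ih => cond (Nat.beq (field 1 q j) 1) (mulC 0 ih (2 ^ j)) ih) n) < 128 ∧
      sigC (mulC 0 p (Nat.rec (motive := fun _ => ℕ) 0
        (fun j ih => cond (Nat.beq (field 1 q j) 1) (mulC 0 ih (2 ^ j)) ih) n)) =
      mulC 0 (sigC p) (sigC (Nat.rec (motive := fun _ => ℕ) 0
        (fun j ih => cond (Nat.beq (field 1 q j) 1) (mulC 0 ih (2 ^ j)) ih) n)) := by
    intro n
    induction n with
    | zero =>
      refine fun _ => ⟨by norm_num, ?_⟩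
      show sigC (mulC 0 p 0) = mulC 0 (sigC p) (sigC 0)
      rw [h0, (zero_mul' K (by omega)).2, (zero_mul' K (sigC_lt (by omega))).2]
    | succ n ih =>
      intro hn
      obtain ⟨a, b⟩ := ih (by omega)
      show cond (Nat.beq (field 1 q n) 1) (mulC 0 _ (2 ^ n)) _ < 128 ∧ sigC (mulC 0 p (cond _ _ _)) =
        mulC 0 (sigC p) (sigC (cond _ _ _))
      cases Nat.beq (field 1 q n) 1
      · exact ⟨a, b⟩
      · have h2 : stdC.getD n 0 = 2 ^ n := by
          have : ∀ n < 7, stdC.getD n 0 = 2 ^ n := by decide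
          exact this n (by omega)
        have h2l : 2 ^ n < 128 := (Nat.pow_lt_pow_right one_lt_two (by omega : n < 7)).trans_eq (by norm_num)
        refine ⟨mulC_low K a h2l, ?_⟩
        simp only [cond_true]
        have hua := hu _ a n (by omega)
        have hup := hu _ (mulC_low K hp a) n (by omega)
        rw [h2] at hua hup
        rw [mulC_assoc K (by omega) (by omega) (by omega), hup, b, hua,
          mulC_assoc K (sigC_lt (by omega)) (sigC_lt (by omega)) (sigC_lt (by omega))]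
  have := (key 7 le_rfl).2
  rw [show Nat.rec (motive := fun _ => ℕ) 0
      (fun j ih => cond (Nat.beq (field 1 q j) 1) (mulC 0 ih (2 ^ j)) ih) 7 = q from hs.1 q hq] at this
  exact this

theorem sig_gen {x k : ℕ} (hx : x < 21504) (hk : k < 9) :
    sigC (mulC 0 x (stdC.getD k 0)) = mulC 0 (sigC x) (sigC (stdC.getD k 0)) := by
  have h := sig_ok
  simp only [sigOK, Bool.and_eq_true, allBelow_spec, Nat.beq_eq] at h
  obtain ⟨-, -, -, hl, -⟩ := h
  have hg : stdC.getD k 0 < 21504 := by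
    have : ∀ k < 9, stdC.getD k 0 < 21504 := by decide
    exact this k hk
  obtain ⟨q, hqd⟩ : ∃ q, q = x % 128 := ⟨_, rfl⟩
  obtain ⟨l, hld⟩ : ∃ l, l = x / 128 := ⟨_, rfl⟩
  have hq : q < 128 := by omega
  have hll : l < 168 := by omega
  obtain ⟨s1, s2, s3⟩ := sig_split K hq hll
  have hxe : x = q + 128 * l := by omega
  obtain ⟨z, hzd⟩ : ∃ z, z = mulC 0 (128 * l) (stdC.getD k 0) := ⟨_, rfl⟩
  have hz : z < 21504 := hzd ▸ mulC_lt (by omega) _
  obtain ⟨q', hqd'⟩ : ∃ q', q' = z % 128 := ⟨_, rfl⟩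
  obtain ⟨l', hld'⟩ : ∃ l', l' = z / 128 := ⟨_, rfl⟩
  have hq' : q' < 128 := by omega
  have hl' : l' < 168 := by omega
  obtain ⟨t1, t2, t3⟩ := sig_split K hq' hl'
  obtain ⟨u1, u2, u3⟩ := sig_split K (mulC_low K hq hq') hl'
  have hze : z = q' + 128 * l' := by omega
  have e1 : mulC 0 x (stdC.getD k 0) = mulC 0 q q' + 128 * l' := by
    rw [hxe, ← s1, ← mulC_assoc K (by omega) (by omega) hg, ← hzd, hze, ← t1,
      mulC_assoc K (by omega) (by omega) (by omega), u1]
  have hc : sigC (128 * l) < 21504 := sigC_lt (by omega)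
  rw [e1, u2, sig_mul_low K hq hq', hxe, s2,
    ← mulC_assoc K (sigC_lt (by omega)) (sigC_lt (by omega)) (sigC_lt (by omega)),
    ← mulC_assoc K (sigC_lt (by omega)) hc (sigC_lt hg), ← hl l hll k hk, ← hzd, hze, t2]

theorem sig_mul {x y : ℕ} (hx : x < 21504) (hy : y < 21504) :
    sigC (mulC 0 x y) = mulC 0 (sigC x) (sigC y) := by
  have h := sig_ok
  simp only [sigOK, Bool.and_eq_true, allBelow_spec, Nat.beq_eq] at h
  obtain ⟨-, -, -, -, h0, -⟩ := h
  let M : Submonoid G :=
    { carrier := {g | ∃ y < 21504, K.el y = g ∧ ∀ x < 21504, sigC (mulC 0 x y) = mulC 0 (sigC x) (sigC y)}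
      one_mem' := ⟨0, by norm_num, K.el_zero (by norm_num), fun x hx => by
        rw [h0, (zero_mul' K hx).2, (zero_mul' K (sigC_lt hx)).2]⟩
      mul_mem' := by
        rintro _ _ ⟨y, hy, rfl, hyx⟩ ⟨z, hz, rfl, hzx⟩
        refine ⟨mulC 0 y z, mulC_lt hy z, (K.el_mul y hy z hz).symm, fun x hx => ?_⟩
        rw [mulC_assoc K hx hy hz, hzx _ (mulC_lt hx y), hyx x hx, hzx y hy,
          mulC_assoc K (sigC_lt hx) (sigC_lt hy) (sigC_lt hz)] }
  let S : Subgroup G :=
    { M with
      inv_mem' := fun {g} hg => by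
        show g⁻¹ ∈ M
        rw [show g⁻¹ = g ^ (orderOf g - 1) from inv_eq_of_mul_eq_one_right (by
          rw [← pow_succ', Nat.sub_add_cancel (orderOf_pos g), pow_orderOf_eq_one])]
        exact pow_mem (S := M) hg _ }
  have hle : Subgroup.centralizer {t} ≤ S := cent_le_of_std K fun k hk => by
    have hlt : stdC.getD k 0 < 21504 := by
      have : ∀ k < 9, stdC.getD k 0 < 21504 := by decide
      exact this k hk
    exact ⟨_, hlt, rfl, fun x hx => sig_gen K hx hk⟩
  obtain ⟨z, hz, hze, hzx⟩ := hle (Subgroup.mem_centralizer_singleton_iff.2 (K.mem y hy))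
  rw [← K.el_inj z hz y hy hze]
  exact hzx x hx

theorem sig_inj {x y : ℕ} (hx : x < 21504) (hy : y < 21504) (e : sigC x = sigC y) : x = y := by
  have h := sig_ok
  simp only [sigOK, Bool.and_eq_true, allBelow_spec, Nat.beq_eq, Bool.or_eq_true, Bool.not_eq_true',
    Nat.blt_eq] at h
  obtain ⟨hQ, hL, -, -, h0, -, hQ0, hL0, -⟩ := h
  obtain ⟨yi, hyi, hye⟩ := K.surj (K.el y)⁻¹ ((show Commute (K.el y) t from K.mem y hy).inv_left.eq)
  have e1 : mulC 0 y yi = 0 := (K.mul_eq_iff hy hyi (by norm_num)).1 (by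
    rw [hye, mul_inv_cancel, K.el_zero (by norm_num)])
  have e2 : sigC (mulC 0 x yi) = 0 := by rw [sig_mul K hx hyi, e, ← sig_mul K hy hyi, e1, h0]
  have e3 : mulC 0 x yi = 0 := by
    obtain ⟨z, hzd⟩ : ∃ z, z = mulC 0 x yi := ⟨_, rfl⟩
    have hz : z < 21504 := hzd ▸ mulC_lt hx yi
    rw [← hzd] at e2 ⊢
    have e2' : mulC 0 (sigQ (z % 128)) (sigL (z / 128)) = 0 := e2
    obtain ⟨hq, hq0⟩ := hQ (z % 128) (by omega)
    obtain ⟨hll, hl0⟩ := hL (z / 128) (by omega)
    have ed := mulC_div (i := 0) (show sigQ (z % 128) < 21504 by omega) (sigL (z / 128))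
    have hlz : ∀ l < 168, lMul 0 l = l := by
      have h : allBelow 168 (fun l => Nat.beq (lMul 0 l) l) = true := by decide +kernel
      intro l hl
      simpa using allBelow_spec.1 h l hl
    rw [e2', Nat.div_eq_of_lt hq, hlz _ (by omega)] at ed
    have hdiv : z / 128 = 0 := hl0.resolve_right fun hb => by
      rw [← ed] at hb
      simp at hb
    rw [hdiv, hL0, (zero_mul' K (show sigQ (z % 128) < 21504 by omega)).2] at e2'
    have hmod : z % 128 = 0 := hq0.resolve_right fun hb => by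
      rw [e2'] at hb
      simp at hb
    omega
  refine K.el_inj x hx y hy ?_
  have := (K.mul_eq_iff hx hyi (by norm_num)).2 e3
  rw [hye, K.el_zero (by norm_num)] at this
  exact mul_inv_eq_one.1 this

/-- The composed coordinates. -/
noncomputable def Coord.sigma : Coord t 0 where
  el x := K.el (sigC x)
  mem x hx := K.mem _ (sigC_lt hx)
  el_mul x hx y hy := by rw [K.el_mul _ (sigC_lt hx) _ (sigC_lt hy), sig_mul K hx hy]
  el_inj x hx y hy e := sig_inj K hx hy (K.el_inj _ (sigC_lt hx) _ (sigC_lt hy) e)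
  surj g hg := by
    obtain ⟨c, hc, rfl⟩ := K.surj g hg
    obtain ⟨x, hx, hxc⟩ : ∃ x < 21504, sigC x = c := by
      classical
      have hsurj : (Finset.range 21504).image sigC = Finset.range 21504 := by
        refine Finset.eq_of_subset_of_card_le (fun z hz => ?_) ?_
        · obtain ⟨x, hx, rfl⟩ := Finset.mem_image.1 hz
          exact Finset.mem_range.2 (sigC_lt (Finset.mem_range.1 hx))
        · rw [Finset.card_image_of_injOn]
          exact fun a ha b hb e => sig_inj K (Finset.mem_range.1 ha) (Finset.mem_range.1 hb) e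
      have hm : c ∈ (Finset.range 21504).image sigC := by rw [hsurj]; exact Finset.mem_range.2 hc
      obtain ⟨x, hx, rfl⟩ := Finset.mem_image.1 hm
      exact ⟨x, Finset.mem_range.1 hx, rfl⟩
    exact ⟨x, hx, by rw [hxc]⟩
  el_t := by
    have h := sig_ok
    simp only [sigOK, Bool.and_eq_true, Nat.beq_eq] at h
    rw [h.2.2.2.2.2.1, K.el_t]

/-- The colours are exchanged. -/
theorem Coord.sigma_bit {k : ℕ} (hk : k < 8) :
    bitOn K.sigma.mask k = bitOn K.mask (sigCls.getD k 0) := by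
  have h := sig_ok
  simp only [sigOK, Bool.and_eq_true, allBelow_spec, Nat.beq_eq] at h
  obtain ⟨-, -, -, -, -, -, -, -, hn, hc⟩ := h
  have hk' : k < ncls 0 := hn.symm ▸ hk
  have hs : sigCls.getD k 0 < ncls 0 := by
    have : ∀ k < 8, sigCls.getD k 0 < 8 := by decide
    rw [hn]; exact this k hk
  have hr := ((classes_spec (i := 0) (by norm_num)).2.2.2.2 k hk').1
  rw [Bool.eq_iff_iff, K.sigma.mask_bit hk']
  show IsConj (K.el (sigC (rep 0 k))) t ↔ _
  rw [K.mask_spec (by norm_num) (sigC_lt hr), hc k hk]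
  simp

/-- A mask is determined by its eight bits. -/
theorem Coord.mask_eq {m : ℕ} (hm : m < 256) (h : ∀ k < 8, bitOn K.mask k = bitOn m k) : K.mask = m := by
  have h8 := sig_ok
  simp only [sigOK, Bool.and_eq_true, Nat.beq_eq] at h8
  have hlt : K.mask < 2 ^ 8 := h8.2.2.2.2.2.2.2.2.1 ▸ K.mask_lt
  refine Nat.eq_of_testBit_eq fun k => ?_
  by_cases hk : k < 8
  · rw [Bool.eq_iff_iff, ← bitOn_iff, ← bitOn_iff, h k hk]
  · have hp : 2 ^ 8 ≤ 2 ^ k := Nat.pow_le_pow_right two_pos (by omega)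
    rw [Nat.testBit_lt_two_pow (lt_of_lt_of_le hlt hp),
      Nat.testBit_lt_two_pow (lt_of_lt_of_le (by norm_num; omega) hp)]

/-- Mask 59 becomes mask 91. -/
theorem Coord.sigma_mask_59 (h : K.mask = 59) : K.sigma.mask = 91 := by
  refine K.sigma.mask_eq (by norm_num) fun k hk => ?_
  rw [K.sigma_bit hk, h]
  have : ∀ k < 8, bitOn 59 (sigCls.getD k 0) = bitOn 91 k := by decide +kernel
  exact this k hk

/-- Mask 10 becomes mask 9. -/
theorem Coord.sigma_mask_10 (h : K.mask = 10) : K.sigma.mask = 9 := by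
  refine K.sigma.mask_eq (by norm_num) fun k hk => ?_
  rw [K.sigma_bit hk, h]
  have : ∀ k < 8, bitOn 10 (sigCls.getD k 0) = bitOn 9 k := by decide +kernel
  exact this k hk

end CfsgLib.Recog.Held
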