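import Cfsg.Agent.Lib.Recog.Held.LocalOrder
import Cfsg.Agent.Lib.Recog.Held.LocalSigma

set_option autoImplicit false

/-!
The mirrored pattern of `M24` (owner: helper25).
-/

namespace CfsgLib.Recog.Held

/-- The patterns 59 and 91 give the order of `M24`. -/
theorem order_mathieu {G : Type*} [Group G] [Finite G] [IsSimpleGroup G] {t : G} (K : Coord t 0)
    (hS : ∃ Q : Sylow 2 G, (Q : Subgroup G) ≤ Subgroup.centralizer {t}) (hm : K.mask = 59 ∨ K.mask = 91) :
    Nat.card G = 244823040 := by
  rcases hm with hm | hm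
  · exact order_91 (K := K.sigma) hS (K.sigma_mask_59 hm)
  · exact order_91 hS hm

end CfsgLib.Recog.Held
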