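import Cfsg.Agent.Lib.Recog.Held.Reduce
import Cfsg.Agent.Lib.Recog.Held.KillMathieu
import Cfsg.Agent.Lib.Recog.Held.KillLinear

set_option autoImplicit false

/-!
Uniqueness of He by its involution centraliser and order (owner: helper22).
-/

namespace CfsgLib.Recog.Held

open Subgroup
open scoped MatrixGroups

/-- A simple group of order 4030387200 with two classes of involutions and an involution centraliser
`2^{1+6}.L3(2)` is He. -/
theorem isoHe {G : Type*} [Group G] [Finite G] [IsSimpleGroup G] (t : G) (ht : orderOf t = 2)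
    (Q : Subgroup (centralizer ({t} : Set G))) [Q.Normal] (hQ : Cfsg.IsExtraspecial 2 Q)
    (hcard : Nat.card Q = 2 ^ 7) (h2c : centralizer (Q : Set (centralizer ({t} : Set G))) ≤ Q)
    (e : (centralizer ({t} : Set G)) ⧸ Q ≃* SL(3, ZMod 2)) (hG : Nat.card G = 4030387200)
    (htwo : ∃ x y : G, orderOf x = 2 ∧ orderOf y = 2 ∧ ¬ IsConj x y ∧
      ∀ z : G, orderOf z = 2 → IsConj z x ∨ IsConj z y) : Cfsg.Spor.IsoHe G := by
  obtain ⟨K, hm, hS⟩ := exists_pattern t ht Q hQ hcard h2c e hG htwo
  refine isoHe_of_kill K hS hG fun h => ?_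
  simp only [goodMasks, List.mem_cons, List.not_mem_nil, or_false] at hm
  have := Kill.not_mathieu K hG
  have := Kill.not_linear K hG
  omega

end CfsgLib.Recog.Held
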