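import Cfsg.Agent.Lib.Recog.Held.Basics
import Cfsg.Agent.Lib.Recog.Held.Frame
import Cfsg.Agent.Lib.Recog.Held.HeHom

set_option autoImplicit false

/-!
The Held pair reduced to the exclusion of the fusion patterns of `L5(2)` and `M24` (owner: helper22).
-/

namespace CfsgLib.Recog.Held

open Subgroup
open scoped MatrixGroups

/-- Under the hypotheses of the Held statements, the first candidate occurs with one of four fusion patterns. -/
theorem exists_pattern {G : Type*} [Group G] [Finite G] [IsSimpleGroup G] (t : G) (ht : orderOf t = 2)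
    (Q : Subgroup (centralizer ({t} : Set G))) [Q.Normal] (hQ : Cfsg.IsExtraspecial 2 Q)
    (hcard : Nat.card Q = 2 ^ 7) (h2c : centralizer (Q : Set (centralizer ({t} : Set G))) ≤ Q)
    (e : (centralizer ({t} : Set G)) ⧸ Q ≃* SL(3, ZMod 2)) (hG : Nat.card G = 4030387200)
    (htwo : ∃ x y : G, orderOf x = 2 ∧ orderOf y = 2 ∧ ¬ IsConj x y ∧
      ∀ z : G, orderOf z = 2 → IsConj z x ∨ IsConj z y) :
    ∃ K : Coord t 0, K.mask ∈ goodMasks ∧ ∃ P : Sylow 2 G, (P : Subgroup G) ≤ centralizer {t} := by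
  obtain ⟨i, hi, ⟨K⟩⟩ := exists_coord t ht Q hQ hcard h2c e
  obtain ⟨hcl, hy⟩ := two_classes ht htwo
  have hS := sylow_in_cent K hG
  obtain ⟨rfl, hm⟩ := colour_cases K hi hS hcl hy (cent_ne_top K hG)
  exact ⟨K, hm, hS⟩

/-- If the patterns of `L5(2)` and `M24` do not occur, the group is He. -/
theorem isoHe_of_kill {G : Type*} [Group G] [Finite G] [IsSimpleGroup G] {t : G} (K : Coord t 0)
    (hS : ∃ P : Sylow 2 G, (P : Subgroup G) ≤ centralizer {t})
    (hG : Nat.card G = 4030387200) (kill : K.mask ≠ 123 → False) : Cfsg.Spor.IsoHe G :=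
  He.isoHe ⟨by_contra kill, hS⟩ hG

end CfsgLib.Recog.Held
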