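import Cfsg.Agent.Lib.Recog.Held.SLCoordDefs
import Mathlib.LinearAlgebra.Matrix.SpecialLinearGroup
import Mathlib.LinearAlgebra.Matrix.Transvection
import Mathlib.GroupTheory.Subgroup.Centralizer

set_option autoImplicit false
set_option maxRecDepth 100000

/-!
Candidate 0 is the centraliser of a transvection in `SL(5, 2)` (owner: helper25).
-/

namespace CfsgLib.Recog.Held.SL5

open Matrix

theorem sl_ok : slOK = true := by decide +kernel

theorem field_eq' (w x k : ℕ) : field w x k = x / 2 ^ (w * k) % 2 ^ w := by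
  show (x >>> (w * k)) &&& (2 ^ w - 1) = _
  rw [Nat.and_two_pow_sub_one_eq_mod, Nat.shiftRight_eq_div_pow]

theorem field_one (v j : ℕ) : Nat.beq (field 1 v j) 1 = v.testBit j := by
  rw [Bool.eq_iff_iff, Nat.beq_eq, field_eq', Nat.testBit_eq_decide_div_mod_eq, decide_eq_true_iff, one_mul,
    pow_one]

theorem comb5_lt (B v : ℕ) : comb5 B v < 32 := by
  have h : ∀ n, Nat.rec (motive := fun _ => ℕ) 0
      (fun j ih => cond (Nat.beq (field 1 v j) 1) (Nat.xor ih (field 5 B j)) ih) n < 32 := by
    intro n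
    induction n with
    | zero => norm_num
    | succ n ih =>
      show cond (Nat.beq (field 1 v n) 1) (Nat.xor _ (field 5 B n)) _ < 32
      cases Nat.beq (field 1 v n) 1
      · exact ih
      · exact Nat.xor_lt_two_pow (n := 5) ih (field_lt 5 B n)
  exact h 5

theorem field_pack5 {f : ℕ → ℕ} (hf : ∀ i < 5, f i < 32) {i : ℕ} (hi : i < 5) : field 5 (pack5 f) i = f i := by
  have h0 := hf 0 (by norm_num); have h1 := hf 1 (by norm_num); have h2 := hf 2 (by norm_num)
  have h3 := hf 3 (by norm_num); have h4 := hf 4 (by norm_num)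
  rw [field_eq', pack5]
  interval_cases i <;> norm_num <;> omega

theorem pack5_lt {f : ℕ → ℕ} (hf : ∀ i < 5, f i < 32) : pack5 f < 2 ^ 25 := by
  have h0 := hf 0 (by norm_num); have h1 := hf 1 (by norm_num); have h2 := hf 2 (by norm_num)
  have h3 := hf 3 (by norm_num); have h4 := hf 4 (by norm_num)
  unfold pack5
  norm_num
  omega

/-- The matrix of a packed number. -/
noncomputable def toM (A : ℕ) : Matrix (Fin 5) (Fin 5) (ZMod 2) :=
  fun i j => if (field 5 A i).testBit j then 1 else 0

theorem toM_m5 (A B : ℕ) : toM (m5 A B) = toM A * toM B := by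
  ext i j
  have hb : ∀ (b c : Bool), (if (b ^^ c) = true then (1 : ZMod 2) else 0) =
      (if b = true then 1 else 0) + (if c = true then 1 else 0) := by decide
  have hrec : ∀ n, (if (Nat.rec (motive := fun _ => ℕ) 0
      (fun k ih => cond (Nat.beq (field 1 (field 5 A i) k) 1) (Nat.xor ih (field 5 B k)) ih) n).testBit j
        then (1 : ZMod 2) else 0) =
      ∑ k ∈ Finset.range n, (if (field 5 A i).testBit k then 1 else 0) * (if (field 5 B k).testBit j then 1 else 0) := by
    intro n
    induction n with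
    | zero => simp
    | succ n ih =>
      rw [Finset.sum_range_succ, ← ih]
      simp only [field_one]
      cases hA : (field 5 A i).testBit n
      · simp
      · simp only [cond_true, if_true, one_mul]
        show (if Nat.testBit (HXor.hXor (α := ℕ) (β := ℕ) (γ := ℕ) _ _) j then (1 : ZMod 2) else 0) = _
        rw [Nat.testBit_xor]
        exact hb _ _
  show (if (field 5 (m5 A B) i).testBit j then (1 : ZMod 2) else 0) = _
  rw [m5, field_pack5 (fun _ _ => comb5_lt _ _) i.2, Matrix.mul_apply]
  exact (hrec 5).trans (Finset.sum_range fun k => (if (field 5 A i).testBit k then (1 : ZMod 2) else 0) *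
    (if (field 5 B k).testBit j then 1 else 0))

theorem toM_i5 : toM i5 = 1 := by
  ext i j
  show (if (field 5 i5 i).testBit j then (1 : ZMod 2) else 0) = _
  rw [i5, field_pack5 (fun k hk => (Nat.pow_lt_pow_right one_lt_two hk).trans_eq (by norm_num)) i.2,
    Nat.testBit_two_pow, Matrix.one_apply]
  by_cases h : i = j
  · subst h; simp
  · simp [h, Fin.val_injective.ne h]

theorem toM_inj {A B : ℕ} (hA : A < 2 ^ 25) (hB : B < 2 ^ 25) (h : toM A = toM B) : A = B := by
  have e : ∀ i : Fin 5, field 5 A i = field 5 B i := fun i => by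
    refine Nat.eq_of_testBit_eq fun k => ?_
    by_cases hk : k < 5
    · have := congrFun (congrFun h i) ⟨k, hk⟩
      simp only [toM] at this
      cases ha : (field 5 A i).testBit k <;> cases hb : (field 5 B i).testBit k <;> simp_all
    · have hp : 2 ^ 5 ≤ 2 ^ k := Nat.pow_le_pow_right two_pos (by omega)
      rw [Nat.testBit_lt_two_pow (lt_of_lt_of_le (field_lt 5 A i) hp),
        Nat.testBit_lt_two_pow (lt_of_lt_of_le (field_lt 5 B i) hp)]
  have h0 := e 0; have h1 := e 1; have h2 := e 2; have h3 := e 3; have h4 := e 4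
  simp only [field_eq', Fin.val_zero, Fin.val_one, Fin.val_two, show ((3 : Fin 5) : ℕ) = 3 from rfl,
    show ((4 : Fin 5) : ℕ) = 4 from rfl] at h0 h1 h2 h3 h4
  norm_num at h0 h1 h2 h3 h4 hA hB ⊢
  omega

theorem m5_lt (A B : ℕ) : m5 A B < 2 ^ 25 := pack5_lt fun _ _ => comb5_lt _ _

/-- The matrix of a code. -/
noncomputable def phi (x : ℕ) : Matrix (Fin 5) (Fin 5) (ZMod 2) := toM (slMat x)

theorem phi_mul {x y : ℕ} (hx : x < 21504) (hy : y < 21504) : phi (mulC 0 x y) = phi x * phi y := by
  have h := sl_ok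
  simp only [slOK, Bool.and_eq_true, allBelow_spec, Nat.beq_eq] at h
  obtain ⟨hqq, hstep, hconj, hword, -⟩ := h
  have land127 : ∀ z, Nat.land z 127 = z % 128 := fun z => Nat.and_two_pow_sub_one_eq_mod z 7
  have split : ∀ z, z < 21504 → phi z = toM (slQ (z % 128)) * toM (slL (z / 128)) := fun z _ => by
    rw [phi, slMat, toM_m5]
  have hQQ : ∀ p < 128, ∀ q < 128, toM (slQ (qMul p q)) = toM (slQ p) * toM (slQ q) := fun p hp q hq => by
    rw [hqq p hp q hq, toM_m5]
  -- one letter
  have step' : ∀ z < 21504, ∀ s < 2, phi (step 0 z s) = phi z * toM (slLet s) := by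
    intro z hz s hs
    have hd : delta 0 (z / 128) s < 128 := field_lt 7 _ _
    have hq : qMul (z % 128) (delta 0 (z / 128) s) < 128 := qMul_lt (by omega) hd
    have hn := nextL_lt (l := z / 128) (by omega) hs
    have hz' := (step_bound (i := 0) hz hs).1
    rw [split z hz, split _ hz', step, land127,
      show (qMul (z % 128) (delta 0 (z / 128) s) + 128 * nextL (z / 128) s) % 128 =
        qMul (z % 128) (delta 0 (z / 128) s) by omega,
      show (qMul (z % 128) (delta 0 (z / 128) s) + 128 * nextL (z / 128) s) / 128 = nextL (z / 128) s by omega,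
      hQQ _ (by omega) _ hd, mul_assoc, mul_assoc, ← toM_m5, ← toM_m5 (slL (z / 128)),
      hstep (z / 128) (by omega) s hs]
  -- the start
  obtain ⟨c, hc⟩ : ∃ c, c = conjL 0 (x / 128) (y % 128) := ⟨_, rfl⟩
  have hcl : c < 128 := hc ▸ applyAut_lt _ _
  obtain ⟨z0, hz0⟩ : ∃ z0, z0 = qMul (x % 128) c + 128 * (x / 128) := ⟨_, rfl⟩
  have hq0 : qMul (x % 128) c < 128 := qMul_lt (by omega) hcl
  have e0 : phi z0 = phi x * toM (slQ (y % 128)) := by
    rw [split _ (by omega), split x hx, show z0 % 128 = qMul (x % 128) c by omega,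
      show z0 / 128 = x / 128 by omega, hQQ _ (by omega) _ hcl, mul_assoc, mul_assoc, ← toM_m5,
      ← toM_m5 (slL (x / 128)), hc, hconj (x / 128) (by omega) (y % 128) (by omega)]
  have main : ∀ n, (Nat.rec (motive := fun _ => ℕ → ℕ) (fun z => z)
      (fun k ih z => step 0 (ih z) (wordBit (y / 128) k)) n z0) < 21504 ∧
      phi (Nat.rec (motive := fun _ => ℕ → ℕ) (fun z => z)
        (fun k ih z => step 0 (ih z) (wordBit (y / 128) k)) n z0) = phi z0 * toM
        (Nat.rec (motive := fun _ => ℕ) i5 (fun k ih => m5 ih (slLet (wordBit (y / 128) k))) n) := by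
    intro n
    induction n with
    | zero => exact ⟨by show z0 < 21504; omega, by show phi z0 = phi z0 * toM i5; rw [toM_i5, mul_one]⟩
    | succ n ih =>
      refine ⟨(step_bound (i := 0) ih.1 (wordBit_lt _ n)).1, ?_⟩
      show phi (step 0 _ (wordBit (y / 128) n)) = phi z0 * toM (m5 _ _)
      rw [step' _ ih.1 _ (wordBit_lt _ n), ih.2, toM_m5, mul_assoc]
  have := (main (wordLen (y / 128))).2
  rw [show toM (Nat.rec (motive := fun _ => ℕ) i5 (fun k ih => m5 ih (slLet (wordBit (y / 128) k)))
      (wordLen (y / 128))) = toM (slL (y / 128)) from congrArg toM (hword (y / 128) (by omega)).1,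
    e0, mul_assoc, ← split y hy] at this
  rw [← this, hz0, hc, ← land127 x, ← land127 y]
  rfl

theorem phi_det (x : ℕ) (hx : x < 21504) : (phi x).det = 1 := by
  have h := sl_ok
  simp only [slOK, Bool.and_eq_true, allBelow_spec, Nat.beq_eq] at h
  obtain ⟨hqq, -, -, hword, h0, -⟩ := h
  have unit : ∀ A B : ℕ, m5 A B = i5 → (toM A).det = 1 := fun A B e => by
    have e' := congrArg toM e
    rw [toM_m5, toM_i5] at e'
    have e'' := congrArg Matrix.det e'
    rw [Matrix.det_mul, Matrix.det_one] at e''
    have : ∀ a b : ZMod 2, a * b = 1 → a = 1 := by decide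
    exact this _ _ e''
  rw [phi, slMat, toM_m5, Matrix.det_mul]
  have e2 := unit _ _ (hword (x / 128) (by omega)).2
  have hcube : qMul (x % 128) (qMul (qMul (x % 128) (x % 128)) (x % 128)) = 0 := by
    have h : allBelow 128 (fun q => Nat.beq (qMul q (qMul (qMul q q) q)) 0) = true := by decide +kernel
    simpa using allBelow_spec.1 h (x % 128) (by omega)
  have e1 := unit (slQ (x % 128)) (slQ (qMul (qMul (x % 128) (x % 128)) (x % 128))) (by
    rw [← hqq _ (by omega) _ (qMul_lt (qMul_lt (by omega) (by omega)) (by omega)), hcube, h0])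
  rw [e1, e2, mul_one]

/-- The element of `SL(5, 2)` of a code. -/
noncomputable def el (x : ℕ) : SpecialLinearGroup (Fin 5) (ZMod 2) :=
  if h : x < 21504 then ⟨phi x, phi_det x h⟩ else 1

theorem el_val {x : ℕ} (hx : x < 21504) : (el x : Matrix (Fin 5) (Fin 5) (ZMod 2)) = phi x := by
  rw [show el x = ⟨phi x, phi_det x hx⟩ from dif_pos hx]

theorem el_mul {x y : ℕ} (hx : x < 21504) (hy : y < 21504) : el x * el y = el (mulC 0 x y) := by
  apply Subtype.ext
  show (el x : Matrix (Fin 5) (Fin 5) (ZMod 2)) * (el y : Matrix (Fin 5) (Fin 5) (ZMod 2)) =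
    (el (mulC 0 x y) : Matrix (Fin 5) (Fin 5) (ZMod 2))
  rw [el_val hx, el_val hy, el_val (mulC_lt hx y), phi_mul hx hy]

/-- The three-by-three block fixed by the extraspecial subgroup. -/
noncomputable def blk (A : ℕ) : ℕ :=
  field 5 A 2 / 4 + 8 * (field 5 A 3 / 4) + 64 * (field 5 A 4 / 4)

theorem blk_ok : (allBelow 21504 (fun x => Nat.beq (blk (slMat x)) (blk (slL (x / 128)))) &&
    (allBelow 168 (fun l => allBelow l fun m => !Nat.beq (blk (slL l)) (blk (slL m))) &&
    allBelow 128 (fun p => allBelow p fun q => !Nat.beq (slQ p) (slQ q)))) = true := by decide +kernel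

theorem el_inj {x y : ℕ} (hx : x < 21504) (hy : y < 21504) (e : el x = el y) : x = y := by
  have hb := blk_ok
  simp only [Bool.and_eq_true, allBelow_spec, Nat.beq_eq, Bool.not_eq_true'] at hb
  obtain ⟨hblk, hL, hQ⟩ := hb
  have hh := sl_ok
  simp only [slOK, Bool.and_eq_true, allBelow_spec, Nat.beq_eq] at hh
  obtain ⟨-, -, -, hword, -⟩ := hh
  have h : phi x = phi y := by rw [← el_val hx, ← el_val hy, e]
  have hA : slMat x = slMat y := toM_inj (m5_lt _ _) (m5_lt _ _) h
  have hl : x / 128 = y / 128 := by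
    have e1 := hblk x hx
    rw [hA, hblk y hy] at e1
    rcases Nat.lt_trichotomy (x / 128) (y / 128) with h' | h' | h'
    · have := hL _ (by omega) _ h'; rw [e1] at this; simp at this
    · exact h'
    · have := hL _ (by omega) _ h'; rw [e1] at this; simp at this
  have hq : toM (slQ (x % 128)) = toM (slQ (y % 128)) := by
    have e2 := congrArg toM (hword (y / 128) (by omega)).2
    rw [toM_m5, toM_i5] at e2
    have e3 := congrArg (· * toM (field 25 slLInv (y / 128))) h
    simp only [phi, slMat, toM_m5, hl, mul_assoc, e2, mul_one] at e3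
    exact e3
  have hq' := toM_inj (field_lt 25 _ _) (field_lt 25 _ _) hq
  rcases Nat.lt_trichotomy (x % 128) (y % 128) with h' | h' | h'
  · have := hQ _ (by omega) _ h'; rw [show slQ (y % 128) = slQ (x % 128) from hq'.symm] at this; simp at this
  · omega
  · have := hQ _ (by omega) _ h'; rw [show slQ (x % 128) = slQ (y % 128) from hq'] at this; simp at this

end CfsgLib.Recog.Held.SL5
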