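import Cfsg.Agent.Lib.Recog.Held.Count

set_option autoImplicit false
set_option maxRecDepth 20000

/-!
Five-by-five matrices over the field of two elements for the codes of candidate 0, five bits for a row
(owner: helper25).  Generated by `notes/held/local25/slco2.py`.
-/

namespace CfsgLib.Recog.Held

/-- Matrices of the extraspecial subgroup. -/
def slQData : ℕ := 0x92082bc9061564a30ab25105782882bc1461560830ab041057920825c9061264a309325104b828825c14612608309304104b920827c9061364a309b25104f828827c14613608309b04104f920829c9061464a30a3251053828829c1461460830a3041053920823c9061164a308b251047828823c14611608308b04104792082dc9061664a30b325105b82882dc1461660830b304105b92082fc9061764a30bb25105f82882fc1461760830bb04105f920821c9061064a3083251043828821c14610608308304104392082ac90615e4a30af25105582882ac14615e0830af041055920824c90612e4a3097251049828824c14612e083097041049920826c90613e4a309f25104d828826c14613e08309f04104d920828c90614e4a30a7251051828828c14614e0830a7041051920822c90611e4a308f251045828822c14611e08308f04104592082cc90616e4a30b725105982882cc14616e0830b704105992082ec90617e4a30bf25105d82882ec14617e0830bf04105d920820c90610e4a3087251041828820c14610e083087041041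

/-- Matrices of the lifts. -/
def slLData : ℕ := 0x45302ea2041050ce0b24e5051a31026a2901559ca0a3ca3049c4282891901561c409b8e204dc30820f28410504e0b2c4405581382ca30c12598208342204d62382c938813584c0bb82204d22302ed09817618a0a3cc204d26202ad31c167846093023049e5202aa28410488a0a38e505165082092981759480ab047059671026e19c16590c0ba483049a7202ac1881379020828a304922382cd08c1271480ab0a3049c50820e1141461ca0a3464055e41026d21c1651c6093c61041642828f29817588a0a302204d251824d11015708e0b3823049860820e20c1271c80ab043049a7302ef30c12588c0bb02605da30820a21414614c0bbc4605d822828f08813518e0b2887059271824e1041051c20824c505122202ad09c1670c409b881041a2302ea0981760c2083c8505187302ef1981750480aa86605d24302ee19015518a0a3c4405561382cf188135902082ce1041832828b0941448ca0a348204da3382cc30c1250c80abcc5051661026f09015594e0b2cc405586382cb2081348ce0b24c3049a6202ae09414714409b4c204d460820f2181779880aacc7059241026929c166886093887059c71824930813698208348605d851026f1041051060924e405524382cd38c1268820830e1041e32828d20c1251c80abc4304967302ec1981769c2082865051e12828a3981748cc0bb82405541282892881358480ab0a7059651026e29c167086093041041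

/-- Their inverses. -/
def slLInv : ℕ := 0xa4382ca20410590c0bb464055e11824920c1270ce0b34c7059461824931015604e0b342605de30820b30410790409a44605d871026e21414794208382204da2302ef09015798409b42204d62202ae38813618a0a2c2605d23202af28c1268c409b06204d261824b2041068880abc6605d650820e3901549c6093047059c12828b3941450ce0b28a4055262828c08c1251c2083c85051e2202ae1881349460930e605d670820e11c1660ca0a24e505141382ca29817590a0a3861041471824f31414788c0bb02204dc5202a911414708a0a3c6204d860820a31c16494c0bb043049e61824d39817588c0bb0a204da30820a20c12614c0bac45051822828f08813710609288705965202ae1041079020834e405522202ae2881368460928c104162382cd2081360c20828a3049851824e39414490409b48605d43202a929c16710e0b2447059a61026e08c1251420838a1041872828b3081369880aa82605d65382cc31c16490c0bbca605d61282893881368ce0b2467059861824a0941459880abca4055232828b38813684e0b2c27059c40820a1941448cc0bb4e304941202ae1901578860928c505167302eb0901569c208286605d81302ef10410510a0a24e405547202ab31c1668820830e1041c5382ca39817490e0b3443049c71824c29c166982083c8605d651026d20c1279880aa4a204d641026e09015498409b06605de12828f194147086093041041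

/-- The matrix outside the centraliser. -/
def slN : ℕ := 2973185

end CfsgLib.Recog.Held
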