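import Cfsg.Agent.Lib.Recog.Held.SLCoordData

set_option autoImplicit false

/-!
Packed five-by-five matrices and the checks that the codes of candidate 0 multiply like theirs
(owner: helper25).
-/

namespace CfsgLib.Recog.Held

/-- The sum of the rows selected by the bits. -/
noncomputable def comb5 (B v : ℕ) : ℕ :=
  Nat.rec (motive := fun _ => ℕ) 0
    (fun j ih => cond (Nat.beq (field 1 v j) 1) (Nat.xor ih (field 5 B j)) ih) 5

/-- Five rows packed. -/
noncomputable def pack5 (f : ℕ → ℕ) : ℕ := f 0 + 2 ^ 5 * f 1 + 2 ^ 10 * f 2 + 2 ^ 15 * f 3 + 2 ^ 20 * f 4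

/-- The product of two matrices. -/
noncomputable def m5 (A B : ℕ) : ℕ := pack5 fun i => comb5 B (field 5 A i)

/-- The identity. -/
noncomputable def i5 : ℕ := pack5 fun i => 2 ^ i

/-- The matrix of an element of the extraspecial subgroup. -/
noncomputable def slQ (q : ℕ) : ℕ := field 25 slQData q
/-- The matrix of a lift. -/
noncomputable def slL (l : ℕ) : ℕ := field 25 slLData l
/-- The matrix of a code. -/
noncomputable def slMat (x : ℕ) : ℕ := m5 (slQ (x % 128)) (slL (x / 128))
/-- The matrix of a letter. -/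
noncomputable def slLet (s : ℕ) : ℕ := slL (nextL 0 s)

/-- The product of the letters of a tree word. -/
noncomputable def slWord (l : ℕ) : ℕ :=
  Nat.rec (motive := fun _ => ℕ) i5 (fun k ih => m5 ih (slLet (wordBit l k))) (wordLen l)

/-- The two letters and the multiplication table. -/
noncomputable def slOK : Bool :=
  allBelow 128 (fun p => allBelow 128 fun q => Nat.beq (slQ (qMul p q)) (m5 (slQ p) (slQ q))) &&
    (allBelow 168 (fun l => allBelow 2 fun s =>
      Nat.beq (m5 (slL l) (slLet s)) (m5 (slQ (delta 0 l s)) (slL (nextL l s)))) &&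
    (allBelow 168 (fun l => allBelow 128 fun q => Nat.beq (m5 (slQ (conjL 0 l q)) (slL l)) (m5 (slL l) (slQ q))) &&
    (allBelow 168 (fun l => Nat.beq (slWord l) (slL l) && Nat.beq (m5 (slL l) (field 25 slLInv l)) i5) &&
    (Nat.beq (slQ 0) i5 && (Nat.beq (slL 0) i5 && (Nat.beq (slMat 64) 17043523 &&
    (allBelow 128 (fun q => Nat.beq q 0 || !Nat.beq (slQ q) i5) &&
    allBelow 168 (fun l => Nat.beq l 0 || allBelow 128 fun q => !Nat.beq (slQ q) (slL l)))))))))

end CfsgLib.Recog.Held
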